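import Cfsg.Agent.Lib.M12Cent.Checks
import Cfsg.Agent.Lib.U42.Fusion

/-!
# An involution with the centralizer of the model, and a Sylow subgroup
-/

set_option autoImplicit false
set_option linter.unusedSectionVars false
set_option linter.style.haveILetI false
set_option maxRecDepth 100000

namespace CfsgLib.M12Cent

open CfsgLib.U42 (conj_comm)
open scoped Pointwise

universe u v

theorem mem_els {m : ℕ} (hm : m < 192) : m ∈ els := List.mem_range.2 hm

theorem els_lt {m : ℕ} (hm : m ∈ els) : m < 192 := List.mem_range.1 hm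

theorem mulN_lt {m n : ℕ} (hm : m < 192) (hn : n < 192) : mulN m n < 192 :=
  mul_lt m (mem_els hm) n (mem_els hn)

theorem invN_lt {m : ℕ} (hm : m < 192) : invN m < 192 := (inv_facts m (mem_els hm)).1

theorem cjN_lt {n m : ℕ} (hn : n < 192) (hm : m < 192) : cjN n m < 192 :=
  mulN_lt (mulN_lt hn hm) (invN_lt hn)

theorem powN_lt {m : ℕ} (hm : m < 192) : ∀ k, powN m k < 192
  | 0 => by norm_num [powN]
  | k + 1 => mulN_lt (powN_lt hm k) hm

theorem lt_named {m : ℕ} (h : m ∈ named) : m < 192 := named_lt m h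

theorem tN_lt : tN < 192 := lt_named (by simp [named])
theorem xN_lt : xN < 192 := lt_named (by simp [named])
theorem txN_lt : txN < 192 := lt_named (by simp [named])
theorem yN_lt : yN < 192 := lt_named (by simp [named])
theorem vN_lt : vN < 192 := lt_named (by simp [named])
theorem sN_lt : sN < 192 := lt_named (by simp [named])
theorem xl_lt {m : ℕ} (h : m ∈ xl) : m < 192 := lists_lt m (by simp [h])
theorem yl_lt {m : ℕ} (h : m ∈ yl) : m < 192 := lists_lt m (by simp [h])
theorem vl_lt {m : ℕ} (h : m ∈ vl) : m < 192 := lists_lt m (by simp [h])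
theorem rl_lt {m : ℕ} (h : m ∈ rl) : m < 192 := lists_lt m (by simp [h])
theorem rv_lt {m : ℕ} (h : m ∈ rv) : m < 192 := lists_lt m (by simp [h])
theorem syl_lt {m : ℕ} (h : m ∈ syl) : m < 192 := lists_lt m (by simp [h])
theorem el_lt {m : ℕ} (h : m ∈ el) : m < 192 := lists_lt m (by simp [h])
theorem ey_lt {m : ℕ} (h : m ∈ ey) : m < 192 := lists_lt m (by simp [h])

/-- The centralizer of the involution `t` is given by the model. -/
structure Cen {G : Type u} [Group G] (t : G) where
  ord : orderOf t = 2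
  val : ℕ → G
  val_mul : ∀ m n, m < 192 → n < 192 → val (mulN m n) = val m * val n
  val_comm : ∀ m, m < 192 → val m * t = t * val m
  val_inj : ∀ m n, m < 192 → n < 192 → val m = val n → m = n
  val_surj : ∀ g, g * t = t * g → ∃ m < 192, val m = g
  val_tau : val tN = t

namespace Cen

variable {G : Type u} [Group G] {t : G} (D : Cen t)
include D

theorem tt : t * t = 1 := by rw [← pow_two, ← D.ord, pow_orderOf_eq_one]

theorem tinv : t⁻¹ = t := inv_eq_of_mul_eq_one_right D.tt

theorem val_zero : D.val 0 = 1 := by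
  have h := D.val_mul 0 0 (by norm_num) (by norm_num)
  rw [(inv_facts 0 (mem_els (by norm_num))).2.2.1] at h
  exact left_eq_mul.1 h

theorem val_inv {m : ℕ} (hm : m < 192) : D.val (invN m) = (D.val m)⁻¹ := by
  refine eq_inv_of_mul_eq_one_right ?_
  rw [← D.val_mul _ _ hm (invN_lt hm), (inv_facts m (mem_els hm)).2.1, D.val_zero]

theorem val_cj {n m : ℕ} (hn : n < 192) (hm : m < 192) :
    D.val (cjN n m) = D.val n * D.val m * (D.val n)⁻¹ := by
  rw [cjN, D.val_mul _ _ (mulN_lt hn hm) (invN_lt hn), D.val_mul _ _ hn hm, D.val_inv hn]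

theorem val_pow {m : ℕ} (hm : m < 192) : ∀ k, D.val (powN m k) = D.val m ^ k
  | 0 => by rw [powN, pow_zero, D.val_zero]
  | k + 1 => by rw [powN, D.val_mul _ _ (powN_lt hm k) hm, val_pow hm k, pow_succ]

theorem val_eq_one {m : ℕ} (hm : m < 192) (h : D.val m = 1) : m = 0 :=
  D.val_inj m 0 hm (by norm_num) (h.trans D.val_zero.symm)

theorem mul_val_eq {m n : ℕ} (hm : m < 192) (hn : n < 192)
    (h : D.val m * D.val n = D.val n * D.val m) : mulN m n = mulN n m :=
  D.val_inj _ _ (mulN_lt hm hn) (mulN_lt hn hm) (by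
    rw [D.val_mul m n hm hn, D.val_mul n m hn hm, h])

theorem val_commute {m n : ℕ} (hm : m < 192) (hn : n < 192) (h : mulN m n = mulN n m) :
    D.val m * D.val n = D.val n * D.val m := by
  rw [← D.val_mul m n hm hn, ← D.val_mul n m hn hm, h]

theorem commute_iff {m n : ℕ} (hm : m < 192) (hn : n < 192) :
    D.val m * D.val n = D.val n * D.val m ↔ mulN m n = mulN n m :=
  ⟨D.mul_val_eq hm hn, D.val_commute hm hn⟩

theorem val_invol {m : ℕ} (h : m ∈ tN :: (xl ++ yl ++ vl)) : orderOf (D.val m) = 2 := by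
  have hlt : m < 192 := by
    simp only [List.mem_cons, List.mem_append] at h
    rcases h with rfl | (h | h) | h
    exacts [tN_lt, xl_lt h, yl_lt h, vl_lt h]
  refine orderOf_eq_prime ?_ fun e => (invol_lists m h).2 (D.val_eq_one hlt e)
  rw [pow_two, ← D.val_mul m m hlt hlt, (invol_lists m h).1, D.val_zero]

theorem isConj_val {m m' : ℕ} (hm : m < 192) {n : ℕ} (hn : n < 192) (h : cjN n m = m') :
    IsConj (D.val m) (D.val m') :=
  isConj_iff.2 ⟨D.val n, by rw [← D.val_cj hn hm, h]⟩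

theorem xl_conj {m : ℕ} (h : m ∈ xl) : IsConj (D.val xN) (D.val m) := by
  obtain ⟨n, hn, e⟩ := xl_class m h
  exact D.isConj_val xN_lt (els_lt hn) e

theorem yl_conj {m : ℕ} (h : m ∈ yl) : IsConj (D.val yN) (D.val m) := by
  obtain ⟨n, hn, e⟩ := yl_class m h
  exact D.isConj_val yN_lt (els_lt hn) e

theorem vl_conj {m : ℕ} (h : m ∈ vl) : IsConj (D.val vN) (D.val m) := by
  obtain ⟨n, hn, e⟩ := vl_class m h
  exact D.isConj_val vN_lt (els_lt hn) e

/-- An involution commuting with `t` lies in one of the classes of the model. -/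
theorem invol_val {u : G} (hu : orderOf u = 2) (hc : u * t = t * u) :
    ∃ m < 192, D.val m = u ∧ (m = tN ∨ m ∈ xl ∨ m ∈ yl ∨ m ∈ vl) := by
  obtain ⟨m, hm, rfl⟩ := D.val_surj u hc
  refine ⟨m, hm, rfl, ?_⟩
  rcases invol_cases m (mem_els hm) (D.val_eq_one (mulN_lt hm hm) (by
    rw [D.val_mul m m hm hm, ← pow_two, ← hu, pow_orderOf_eq_one])) with rfl | rfl | h
  · rw [D.val_zero, orderOf_one] at hu
    norm_num at hu
  · exact Or.inl rfl
  · simpa [or_assoc] using (Or.inr h : m = tN ∨ _)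

theorem mem_cent_iff {g : G} : g ∈ Subgroup.centralizer ({t} : Set G) ↔
    ∃ m < 192, D.val m = g :=
  ⟨fun hg => D.val_surj g (Subgroup.mem_centralizer_singleton_iff.1 hg),
    fun ⟨m, hm, e⟩ => Subgroup.mem_centralizer_singleton_iff.2 (e ▸ D.val_comm m hm)⟩

/-- The Sylow two-subgroup of the model, in the group. -/
def sylGrp : Subgroup G where
  carrier := {g | ∃ m ∈ syl, D.val m = g}
  one_mem' := ⟨0, syl_facts.2.2.1, D.val_zero⟩
  mul_mem' := by
    rintro a b ⟨m, hm, rfl⟩ ⟨n, hn, rfl⟩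
    exact ⟨mulN m n, syl_facts.2.2.2.2.1 m hm n hn, D.val_mul m n (syl_lt hm) (syl_lt hn)⟩
  inv_mem' := by
    rintro a ⟨m, hm, rfl⟩
    exact ⟨invN m, syl_facts.2.2.2.2.2 m hm, D.val_inv (syl_lt hm)⟩

theorem card_image {l : List ℕ} (hlt : ∀ m ∈ l, m < 192) (hnd : l.Nodup) :
    Nat.card {g : G // ∃ m ∈ l, D.val m = g} = l.length := by
  classical
  have e : {m // m ∈ l} ≃ {g : G // ∃ m ∈ l, D.val m = g} :=
    Equiv.ofBijective (fun m => ⟨D.val m.1, m.1, m.2, rfl⟩)
      ⟨fun a b h => Subtype.ext (D.val_inj _ _ (hlt _ a.2) (hlt _ b.2) (congrArg Subtype.val h)),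
        fun ⟨g, m, hm, e⟩ => ⟨⟨m, hm⟩, Subtype.ext e⟩⟩
  rw [← Nat.card_congr e, Nat.card_eq_fintype_card,
    Fintype.card_of_subtype l.toFinset (fun x => List.mem_toFinset),
    List.toFinset_card_of_nodup hnd]

theorem card_sylGrp : Nat.card (sylGrp D) = 64 :=
  (D.card_image (fun _ h => syl_lt h) syl_facts.2.1).trans syl_facts.1

theorem card_cent : Nat.card (Subgroup.centralizer ({t} : Set G)) = 192 := by
  have h := D.card_image (l := els) (fun m h => List.mem_range.1 h) List.nodup_range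
  rw [List.length_range] at h
  rw [← h]
  exact Nat.card_congr (Equiv.subtypeEquivRight fun g => ⟨fun hg => by
    obtain ⟨m, hm, e⟩ := D.val_surj g (Subgroup.mem_centralizer_singleton_iff.1 hg)
    exact ⟨m, mem_els hm, e⟩, fun ⟨m, hm, e⟩ =>
      Subgroup.mem_centralizer_singleton_iff.2 (e ▸ D.val_comm m (List.mem_range.1 hm))⟩)

/-- The subgroup of order `64` is a Sylow two-subgroup of the whole group. -/
theorem exists_sylow [Finite G] : ∃ P : Sylow 2 G, (P : Subgroup G) = sylGrp D := by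
  haveI : Fact (Nat.Prime 2) := ⟨Nat.prime_two⟩
  have hp : IsPGroup 2 (sylGrp D) := IsPGroup.of_card (n := 6) (by rw [D.card_sylGrp]; norm_num)
  obtain ⟨P, hP⟩ := hp.exists_le_sylow
  refine ⟨P, hP.antisymm' ?_⟩
  by_contra hne
  have hlt : sylGrp D < (P : Subgroup G) := lt_of_le_of_ne hP fun e => hne e.ge
  obtain ⟨g, hg, hgn⟩ := SetLike.exists_of_lt
    (Group.normalizerCondition_of_isNilpotent (G := (P : Subgroup G))
      (h := P.2.isNilpotent) ((sylGrp D).subgroupOf P) (by
        rw [lt_top_iff_ne_top]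
        intro e
        exact hne (Subgroup.subgroupOf_eq_top.1 e)))
  -- the element normalizes, so it fixes the central involution
  have hconj : ∀ m ∈ syl, (g : G) * D.val m * (g : G)⁻¹ ∈ sylGrp D := fun m hm =>
    (Subgroup.mem_normalizer_iff.1 hg ⟨D.val m, hP ⟨m, hm, rfl⟩⟩).1 ⟨m, hm, rfl⟩
  have hconj' : ∀ m ∈ syl, (g : G)⁻¹ * D.val m * (g : G) ∈ sylGrp D := fun m hm => by
    have h := (Subgroup.mem_normalizer_iff.1 (inv_mem hg) ⟨D.val m, hP ⟨m, hm, rfl⟩⟩).1
      ⟨m, hm, rfl⟩
    simpa [Subgroup.mem_subgroupOf] using h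
  obtain ⟨n, hn, hnv⟩ := hconj tN syl_facts.2.2.2.1
  rcases syl_center n hn (fun a ha => D.mul_val_eq (syl_lt hn) (syl_lt ha) (by
      obtain ⟨b, hb, hbv⟩ := hconj' a ha
      rw [hnv, D.val_tau]
      have hc := D.val_comm b (syl_lt hb)
      rw [hbv] at hc
      calc (g : G) * t * (g : G)⁻¹ * D.val a
          = (g : G) * (t * ((g : G)⁻¹ * D.val a * (g : G))) * (g : G)⁻¹ := by group
        _ = (g : G) * (((g : G)⁻¹ * D.val a * (g : G)) * t) * (g : G)⁻¹ := by rw [hc]
        _ = D.val a * ((g : G) * t * (g : G)⁻¹) := by group)) with e | e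
  · rw [e, D.val_zero, D.val_tau, eq_comm, conj_eq_one_iff] at hnv
    have := D.ord
    rw [hnv, orderOf_one] at this
    norm_num at this
  · rw [e, D.val_tau, eq_mul_inv_iff_mul_eq] at hnv
    -- a two-subgroup of the centralizer contains the Sylow subgroup of the model
    set W : Subgroup G := (P : Subgroup G) ⊓ Subgroup.centralizer ({t} : Set G) with hW
    have hle : sylGrp D ≤ W := le_inf hP (by
      rintro _ ⟨m, hm, rfl⟩
      exact Subgroup.mem_centralizer_singleton_iff.2 (D.val_comm m (syl_lt hm)))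
    obtain ⟨k, hk⟩ := IsPGroup.iff_card.1 (P.2.to_le (inf_le_left : W ≤ (P : Subgroup G)))
    have hd : 2 ^ k ∣ 192 := by
      rw [← hk, ← D.card_cent]; exact Subgroup.card_dvd_of_le inf_le_right
    have hk6 : k ≤ 6 := by
      by_contra hk7
      exact absurd ((pow_dvd_pow 2 (by omega : 7 ≤ k)).trans hd) (by norm_num)
    have heq : sylGrp D = W := Subgroup.eq_of_le_of_card_ge hle (by
      rw [hk, D.card_sylGrp]
      exact le_trans (Nat.pow_le_pow_right (by norm_num) hk6) (by norm_num))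
    refine hgn ?_
    rw [Subgroup.mem_subgroupOf, heq]
    exact ⟨g.2, Subgroup.mem_centralizer_singleton_iff.2 hnv.symm⟩

/-- An involution is conjugate to one of the four representatives. -/
theorem invol_fused [Finite G] {v : G} (hv : orderOf v = 2) : IsConj t v ∨ IsConj (D.val xN) v ∨
    IsConj (D.val yN) v ∨ IsConj (D.val vN) v := by
  haveI : Fact (Nat.Prime 2) := ⟨Nat.prime_two⟩
  obtain ⟨P, hP⟩ := D.exists_sylow
  obtain ⟨R, hR⟩ := (IsPGroup.of_card (n := 1)
    (show Nat.card (Subgroup.zpowers v) = 2 ^ 1 by rw [Nat.card_zpowers, hv, pow_one])).exists_le_sylow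
  obtain ⟨u, hu⟩ := MulAction.exists_smul_eq G R P
  have hw : u * v * u⁻¹ ∈ sylGrp D := by
    have h1 : MulAut.conj u • v ∈ MulAut.conj u • (R : Subgroup G) :=
      Subgroup.smul_mem_pointwise_smul v _ _ (hR (Subgroup.mem_zpowers v))
    rw [← Sylow.coe_subgroup_smul] at h1
    rw [hu, hP] at h1
    exact h1
  obtain ⟨m, hm, hmv⟩ := hw
  have hc : IsConj (D.val m) v := isConj_iff.2 ⟨u⁻¹, by rw [hmv]; group⟩
  obtain ⟨n, hn, hnv, hcases⟩ := D.invol_val (u := D.val m)
    (by rw [hmv]; exact (MulAut.conj u).orderOf_eq v ▸ hv) (D.val_comm m (syl_lt hm))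
  rw [← hnv] at hc
  rcases hcases with rfl | h | h | h
  · rw [D.val_tau] at hc; exact Or.inl hc
  · exact Or.inr (Or.inl ((D.xl_conj h).trans hc))
  · exact Or.inr (Or.inr (Or.inl ((D.yl_conj h).trans hc)))
  · exact Or.inr (Or.inr (Or.inr ((D.vl_conj h).trans hc)))

end Cen

end CfsgLib.M12Cent
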