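import Cfsg.Agent.Lib.M12Cent.Target
import Cfsg.Agent.Lib.Classical.Order
import Mathlib.Algebra.Module.ZMod

/-!
# A group with this centralizer in which the involution is conjugate into the large class

Either the elementary group of order eight is normal or the group is `M₁₂`; no simplicity is assumed.
-/

set_option autoImplicit false
set_option linter.unusedSectionVars false
set_option linter.style.haveILetI false
set_option maxRecDepth 100000
set_option maxHeartbeats 1000000

namespace CfsgLib.M12Cent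

open Cfsg
open CfsgLib.U42 (conj_comm)
open scoped Pointwise
open CfsgLib.Spor CfsgLib.MathieuOut
open CfsgLib.J1Unique (PG pg toG toG_pg presModel wv wv_cons wv_nil)

universe u v

theorem el_self_cent : ∀ m ∈ els, (∀ e ∈ el, mulN m e = mulN e m) → m ∈ el := by decide +kernel

/-- The general linear group of degree three over two elements. -/
theorem glThreeTwo_equiv_psl : Nat.card (GL (Fin 3) (ZMod 2)) = 168 ∧
    Nonempty (GL (Fin 3) (ZMod 2) ≃* Matrix.ProjectiveSpecialLinearGroup (Fin 3) (ZMod 2)) := by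
  haveI : Fact (Nat.Prime 2) := ⟨Nat.prime_two⟩
  refine ⟨by rw [CfsgLib.Classical.card_GL_fin, Nat.card_zmod]; rfl, ?_⟩
  have hcen3 : Subgroup.center (Matrix.SpecialLinearGroup (Fin 3) (ZMod 2)) = ⊥ := by
    rw [Subgroup.eq_bot_iff_card, CfsgLib.Classical.card_center_SL_fin 3 (by norm_num), Nat.card_zmod]
    rfl
  let j : Matrix.ProjectiveSpecialLinearGroup (Fin 3) (ZMod 2) ≃*
      Matrix.SpecialLinearGroup (Fin 3) (ZMod 2) :=
    (QuotientGroup.quotientMulEquivOfEq hcen3).trans QuotientGroup.quotientBot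
  have hbij : Function.Bijective (Matrix.SpecialLinearGroup.toGL :
      Matrix.SpecialLinearGroup (Fin 3) (ZMod 2) →* GL (Fin 3) (ZMod 2)) := by
    refine ⟨Matrix.SpecialLinearGroup.toGL_injective, fun g => ?_⟩
    refine ⟨⟨g.1, ?_⟩, Units.ext rfl⟩
    exact congrArg Units.val (Subsingleton.elim (Matrix.GeneralLinearGroup.det g) 1)
  exact ⟨(j.trans (MulEquiv.ofBijective _ hbij)).symm⟩

/-- A self-centralizing elementary group of order eight with quotient of order `168`. -/
theorem quot_psl {G : Type*} [Group G] [Finite G] (N : Subgroup G) [N.Normal] (h8 : Nat.card N = 8)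
    (hc : ∀ a ∈ N, ∀ b ∈ N, a * b = b * a) (h2 : ∀ n ∈ N, n ^ 2 = 1)
    (hC : Subgroup.centralizer (N : Set G) ≤ N) (hq : Nat.card (G ⧸ N) = 168) :
    Nonempty (G ⧸ N ≃* Matrix.ProjectiveSpecialLinearGroup (Fin 3) (ZMod 2)) := by
  classical
  haveI : Fact (Nat.Prime 2) := ⟨Nat.prime_two⟩
  obtain ⟨h168, ⟨iso⟩⟩ := glThreeTwo_equiv_psl
  letI : CommGroup N :=
    { (inferInstance : Group N) with mul_comm := fun a b => Subtype.ext (hc a a.2 b b.2) }
  letI : Module (ZMod 2) (Additive N) := AddCommGroup.zmodModule (n := 2) fun x => by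
    refine Additive.toMul.injective ?_
    rw [toMul_nsmul, toMul_zero]
    exact Subtype.ext (h2 _ (Additive.toMul x).2)
  have hd : Module.finrank (ZMod 2) (Additive N) = 3 := by
    have e := Module.natCard_eq_pow_finrank (K := ZMod 2) (V := Additive N)
    rw [Nat.card_congr (Additive.toMul : Additive N ≃ N), h8, Nat.card_zmod] at e
    exact (Nat.pow_right_injective le_rfl (show 2 ^ 3 = 2 ^ _ from e)).symm
  let b := Module.finBasisOfFinrankEq (ZMod 2) (Additive N) hd
  let c : G →* Module.End (ZMod 2) (Additive N) :=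
    { toFun := fun g =>
        AddMonoidHom.toZModLinearMap 2 (MonoidHom.toAdditive (MulAut.conjNormal (H := N) g).toMonoidHom)
      map_one' := LinearMap.ext fun x => by
        refine Additive.toMul.injective (Subtype.ext ?_)
        show (1 : G) * ((Additive.toMul x : N) : G) * (1 : G)⁻¹ = _
        simp
      map_mul' := fun g h => LinearMap.ext fun x => by
        refine Additive.toMul.injective (Subtype.ext ?_)
        show g * h * ((Additive.toMul x : N) : G) * (g * h)⁻¹ =
          g * (h * ((Additive.toMul x : N) : G) * h⁻¹) * g⁻¹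
        group }
  let M : G →* Matrix (Fin 3) (Fin 3) (ZMod 2) := (LinearMap.toMatrixAlgEquiv b).toMonoidHom.comp c
  let f : G →* GL (Fin 3) (ZMod 2) := M.toHomUnits
  have hker : f.ker = N := by
    ext g
    constructor
    · intro hg
      have hcg : c g = 1 := (LinearMap.toMatrixAlgEquiv b).injective (by
        rw [map_one]; exact congrArg Units.val (MonoidHom.mem_ker.1 hg))
      refine hC (Subgroup.mem_centralizer_iff.2 fun n hn => ?_)
      have e : g * n * g⁻¹ = n :=
        congrArg (fun y => ((Additive.toMul y : N) : G)) (LinearMap.congr_fun hcg (Additive.ofMul ⟨n, hn⟩))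
      exact (mul_inv_eq_iff_eq_mul.1 e).symm
    · intro hg
      refine MonoidHom.mem_ker.2 (Units.ext ?_)
      show LinearMap.toMatrixAlgEquiv b (c g) = 1
      rw [show c g = 1 from LinearMap.ext fun x => Additive.toMul.injective (Subtype.ext (by
        show g * ((Additive.toMul x : N) : G) * g⁻¹ = _
        rw [hc g hg _ (Additive.toMul x).2, mul_inv_cancel_right]
        rfl)), map_one]
  let f' : G ⧸ N →* GL (Fin 3) (ZMod 2) := QuotientGroup.lift N f hker.ge
  have hinj : Function.Injective f' := (injective_iff_map_eq_one f').2 fun x => by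
    induction x using QuotientGroup.induction_on with
    | H g => exact fun hg => (QuotientGroup.eq_one_iff g).2 (hker.le (MonoidHom.mem_ker.2 hg))
  haveI : Finite (GL (Fin 3) (ZMod 2)) := inferInstance
  exact ⟨(MulEquiv.ofBijective f' ((Nat.bijective_iff_injective_and_card f').2
    ⟨hinj, by rw [hq, h168]⟩)).trans iso⟩

variable {G : Type u} [Group G] [Finite G]

/-- A subgroup containing the centralizers of its involutions and one element conjugating `a` into it
for each conjugate there is everything, given two classes of involutions. -/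
theorem eq_top_of_strong_conj {H : Subgroup G} {a b : G} (ha : orderOf a = 2)
    (hb : orderOf b = 2) (haH : a ∈ H) (hbH : b ∈ H) (hab : ¬ IsConj a b)
    (hconj : ∀ g : G, g * a * g⁻¹ ∈ H → g ∈ H)
    (hH : ∀ i ∈ H, orderOf i = 2 → Subgroup.centralizer ({i} : Set G) ≤ H) : H = ⊤ := by
  by_cases hall : ∀ g : G, g * a * g⁻¹ ∈ H
  · exact eq_top_iff.2 fun g _ => hconj g (hall g)
  · obtain ⟨g, hg⟩ := not_forall.1 hall
    set j := g * a * g⁻¹ with hj
    have hj2 : orderOf j = 2 := ((MulAut.conj g).orderOf_eq a).trans ha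
    have key : ∀ i ∈ H, orderOf i = 2 → IsConj i j := by
      intro i hi hi2
      by_cases ho : Odd (orderOf (i * j))
      · exact CfsgLib.Involutions.isConj_of_odd_prod hi2 hj2 ho
      · have he := Nat.not_odd_iff_even.1 ho
        set z := (i * j) ^ (orderOf (i * j) / 2) with hz
        have hz2 : orderOf z = 2 := CfsgLib.Involutions.half_invol he
        have hc1 := (CfsgLib.Involutions.half_comm_left hi2 hj2 he).eq
        have hc2 := (CfsgLib.Involutions.half_comm_right hi2 hj2 he).eq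
        have hzH : z ∈ H := hH i hi hi2 (Subgroup.mem_centralizer_singleton_iff.2 hc1)
        exact absurd (hH z hzH hz2 (Subgroup.mem_centralizer_singleton_iff.2 hc2.symm)) hg
    exact absurd ((key a haH ha).trans (key b hbH hb).symm) hab

variable {t : G}

namespace Cen

variable (D : Cen t)
include D

/-- The excluded pattern. -/
theorem std_or_normal (hx : IsConj t (D.val xN)) :
    (∃ h, D.Std0 h) ∨ (D.elGrp.Normal ∧ ∀ e ∈ D.elGrp, e ≠ 1 → IsConj t e) := by
  refine or_iff_not_imp_left.2 fun hno => ?_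
  have hvy := (D.std_or_conj hx).resolve_left hno
  have hsmall := D.kv_small hx hno
  have hE : ∀ g : G, g * t * g⁻¹ * t = t * (g * t * g⁻¹) → g * t * g⁻¹ ∈ D.elGrp := by
    intro g hg
    obtain ⟨m, hm, hmv, h⟩ := D.conj_cases hg
    rcases h with rfl | h | h
    · exact ⟨tN, el_facts.2.2.2.1, hmv⟩
    · exact ⟨m, el_facts.2.2.2.2.2.2.2 m h, hmv⟩
    · exact absurd ((isConj_iff.2 ⟨g, hmv.symm⟩ : IsConj t (D.val m)).trans
        ((hvy.trans (D.yl_conj h)).symm)) D.not_conj_v
  have hEc : ∀ e ∈ D.elGrp, e ≠ 1 → IsConj t e := by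
    rintro _ ⟨m, hm, rfl⟩ hne
    rcases el_facts.2.2.2.2.2.2.1 m hm with rfl | rfl | h
    · exact absurd D.val_zero hne
    · rw [D.val_tau]
    · exact hx.trans (D.xl_conj h)
  set N := Subgroup.normalizer (D.elGrp : Set G) with hN
  have hEcomm : ∀ e ∈ D.elGrp, ∀ f ∈ D.elGrp, e * f = f * e := by
    rintro _ ⟨m, hm, rfl⟩ _ ⟨n, hn, rfl⟩
    exact D.val_commute (el_lt hm) (el_lt hn) (el_facts.2.2.2.2.1 m hm n hn).2
  have hmoveN : ∀ g : G, g * t * g⁻¹ ∈ D.elGrp → g ∈ N := by
    intro g hg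
    have hsub : D.elGrp.map (MulAut.conj g⁻¹).toMonoidHom ≤ D.elGrp := by
      rintro _ ⟨e, he, rfl⟩
      rw [MulEquiv.coe_toMonoidHom, MulAut.conj_apply]
      by_cases h1 : e = 1
      · rw [h1, mul_one, mul_inv_cancel]; exact one_mem _
      obtain ⟨a, ha⟩ := isConj_iff.1 (hEc e he h1)
      have e1 : g⁻¹ * a * t * (g⁻¹ * a)⁻¹ = g⁻¹ * e * g⁻¹⁻¹ := by rw [← ha]; group
      have := hE (g⁻¹ * a) (by
        rw [e1]
        have hc := conj_comm (h := g⁻¹) (hEcomm e he _ hg)
        rwa [show g⁻¹ * (g * t * g⁻¹) * g⁻¹⁻¹ = t by group] at hc)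
      rwa [e1] at this
    have heq := Subgroup.eq_of_le_of_card_ge hsub (le_of_eq
      (Nat.card_congr (D.elGrp.equivMapOfInjective _ (MulAut.conj g⁻¹).injective).toEquiv))
    rw [hN, Subgroup.mem_normalizer_iff]
    intro e
    constructor
    · intro he
      rw [← heq] at he
      obtain ⟨f, hf, rfl⟩ := he
      rw [MulEquiv.coe_toMonoidHom, MulAut.conj_apply]
      rwa [show g * (g⁻¹ * f * g⁻¹⁻¹) * g⁻¹ = f by group]
    · intro he
      rw [← heq]
      exact ⟨_, he, by rw [MulEquiv.coe_toMonoidHom, MulAut.conj_apply]; group⟩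
  have htE : t ∈ D.elGrp := ⟨tN, el_facts.2.2.2.1, D.val_tau⟩
  have hCN : Subgroup.centralizer ({t} : Set G) ≤ N := fun c hc => hmoveN c (by
    rw [Subgroup.mem_centralizer_singleton_iff.1 hc, mul_inv_cancel_right]; exact htE)
  -- centralizers of the involutions commuting with `t`
  have hcentC : ∀ i : G, orderOf i = 2 → i * t = t * i → Subgroup.centralizer ({i} : Set G) ≤ N := by
    intro i hi hit
    obtain ⟨m, hm, hmv, hc⟩ := D.invol_val hi hit
    have hbig : IsConj t i → Subgroup.centralizer ({i} : Set G) ≤ N := fun h k hk => by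
      obtain ⟨g, rfl⟩ := isConj_iff.1 h
      have hg := hmoveN g (hE g hit)
      have hkt : g⁻¹ * k * g⁻¹⁻¹ * t = t * (g⁻¹ * k * g⁻¹⁻¹) := by
        have := conj_comm (h := g⁻¹) (Subgroup.mem_centralizer_singleton_iff.1 hk)
        rwa [show g⁻¹ * (g * t * g⁻¹) * g⁻¹⁻¹ = t by group] at this
      have := mul_mem (mul_mem hg (hCN (Subgroup.mem_centralizer_singleton_iff.2 hkt))) (inv_mem hg)
      rwa [show g * (g⁻¹ * k * g⁻¹⁻¹) * g⁻¹ = k by group] at this
    have hsm : IsConj (D.val vN) i → Subgroup.centralizer ({i} : Set G) ≤ N := fun h k hk => by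
      obtain ⟨g, rfl⟩ := isConj_iff.1 h
      refine hmoveN k (hE k ?_)
      have e : g⁻¹ * (g * D.val vN * g⁻¹) * g⁻¹⁻¹ = D.val vN := by group
      have ha : ∀ b : G, b * (g * D.val vN * g⁻¹) = g * D.val vN * g⁻¹ * b →
          g⁻¹ * b * g⁻¹⁻¹ ∈ D.rvGrp := fun b hb => hsmall (Subgroup.mem_centralizer_singleton_iff.2 (by
        have := conj_comm (h := g⁻¹) hb
        rwa [e] at this))
      obtain ⟨a, har, hav⟩ := ha t hit.symm
      have hbk : k * t * k⁻¹ * (g * D.val vN * g⁻¹) = g * D.val vN * g⁻¹ * (k * t * k⁻¹) := by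
        have hk' := Subgroup.mem_centralizer_singleton_iff.1 hk
        have := conj_comm (h := k) hit.symm
        rwa [hk', mul_inv_cancel_right] at this
      obtain ⟨b, hbr, hbv⟩ := ha _ hbk
      have la := D.conj_in_rv (g := g⁻¹) har hav
      have lb := D.conj_in_rv (g := g⁻¹ * k) hbr (by rw [hbv]; group)
      have hab : mulN b a = mulN a b := by
        have : ∀ a ∈ [tN, xN, txN], ∀ b ∈ [tN, xN, txN], mulN b a = mulN a b := by decide +kernel
        exact this a (by simp [la]) b (by simp [lb])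
      have h2 := D.val_commute (rv_lt hbr) (rv_lt har) hab
      rw [hbv, hav] at h2
      have := conj_comm (h := g) h2
      rwa [show g * (g⁻¹ * (k * t * k⁻¹) * g⁻¹⁻¹) * g⁻¹ = k * t * k⁻¹ by group,
        show g * (g⁻¹ * t * g⁻¹⁻¹) * g⁻¹ = t by group] at this
    rw [← hmv] at hbig hsm ⊢
    rcases hc with rfl | h | h | h
    · exact hbig (by rw [D.val_tau])
    · exact hbig (hx.trans (D.xl_conj h))
    · exact hsm (hvy.trans (D.yl_conj h))
    · exact hsm (D.vl_conj h)
  have hfix : ∀ i ∈ N, orderOf i = 2 → ∃ e ∈ D.elGrp, e ≠ 1 ∧ i * e = e * i := by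
    intro i hi hi2
    haveI : Fact (Nat.Prime 2) := ⟨Nat.prime_two⟩
    have hii : i * i = 1 := by rw [← pow_two, ← hi2, pow_orderOf_eq_one]
    let f : {e : G // e ∈ D.elGrp ∧ e ≠ 1} → {e : G // e ∈ D.elGrp ∧ e ≠ 1} := fun e =>
      ⟨i * e.1 * i⁻¹, (Subgroup.mem_normalizer_iff.1 hi e.1).1 e.2.1,
        fun h => e.2.2 (conj_eq_one_iff.1 h)⟩
    have hf : Function.Involutive f := fun e => Subtype.ext (by
      show i * (i * e.1 * i⁻¹) * i⁻¹ = e.1
      rw [show i * (i * e.1 * i⁻¹) * i⁻¹ = i * i * e.1 * (i * i)⁻¹ by group, hii]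
      group)
    obtain ⟨e, he⟩ : ∃ e, f e = e := by
      classical
      haveI := Fintype.ofFinite {e : G // e ∈ D.elGrp ∧ e ≠ 1}
      refine (hf.toPerm f).exists_fixed_point_of_prime (p := 2) (n := 1) ?_ ?_
      · rw [← Nat.card_eq_fintype_card]
        have h8 : Nat.card D.elGrp = 8 :=
          (D.card_image (fun _ h => el_lt h) el_facts.1).trans el_facts.2.1
        have e2 : Nat.card {e : G // e ∈ D.elGrp ∧ e ≠ 1} =
            (((D.elGrp : Set G)) \ {1}).ncard := by
          rw [← Nat.card_coe_set_eq]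
          exact Nat.card_congr (Equiv.subtypeEquivRight fun x => by simp)
        rw [e2, Set.ncard_diff (by simp [Subgroup.one_mem]) (Set.finite_singleton 1),
          Set.ncard_singleton, ← Nat.card_coe_set_eq]
        change ¬ 2 ∣ Nat.card D.elGrp - 1
        rw [h8]
        norm_num
      · exact Equiv.ext fun x => by rw [pow_one, pow_two]; exact hf x
    exact ⟨e.1, e.2.1, e.2.2, mul_inv_eq_iff_eq_mul.1 (congrArg Subtype.val he)⟩
  have hstrong : ∀ i ∈ N, orderOf i = 2 → Subgroup.centralizer ({i} : Set G) ≤ N := by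
    intro i hi hi2
    obtain ⟨e, he, he1, hie⟩ := hfix i hi hi2
    obtain ⟨g, hg⟩ := isConj_iff.1 (hEc e he he1)
    have hgN := hmoveN g (hg ▸ he)
    have hj : g⁻¹ * i * g⁻¹⁻¹ * t = t * (g⁻¹ * i * g⁻¹⁻¹) := by
      have := conj_comm (h := g⁻¹) hie
      rwa [← hg, show g⁻¹ * (g * t * g⁻¹) * g⁻¹⁻¹ = t by group] at this
    intro k hk
    have hk' := hcentC _ (((MulAut.conj g⁻¹).orderOf_eq i).trans hi2) hj
      (Subgroup.mem_centralizer_singleton_iff.2
        (conj_comm (h := g⁻¹) (Subgroup.mem_centralizer_singleton_iff.1 hk)))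
    have := mul_mem (mul_mem hgN hk') (inv_mem hgN)
    rwa [show g * (g⁻¹ * k * g⁻¹⁻¹) * g⁻¹ = k by group] at this
  have hvN : D.val vN ∈ N := hCN (D.mem_cent_iff.2 ⟨vN, vN_lt, rfl⟩)
  have hback : ∀ g : G, g * t * g⁻¹ ∈ N → g ∈ N := by
    intro g hg
    have hge : g * t * g⁻¹ ∈ D.elGrp := by
      obtain ⟨e, he, he1, hce⟩ := hfix (g * t * g⁻¹) hg (D.conj_ord)
      obtain ⟨k, hk⟩ := isConj_iff.1 (hEc e he he1)
      subst hk
      have hkN := hmoveN k he
      have e1 : k⁻¹ * g * t * (k⁻¹ * g)⁻¹ = k⁻¹ * (g * t * g⁻¹) * k⁻¹⁻¹ := by group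
      have hin : k⁻¹ * g * t * (k⁻¹ * g)⁻¹ ∈ D.elGrp := hE _ (by
        rw [e1]
        have := conj_comm (h := k⁻¹) hce
        rwa [show k⁻¹ * (k * t * k⁻¹) * k⁻¹⁻¹ = t by group] at this)
      rw [e1] at hin
      have := (Subgroup.mem_normalizer_iff.1 hkN _).1 hin
      rwa [show k * (k⁻¹ * (g * t * g⁻¹) * k⁻¹⁻¹) * k⁻¹ = g * t * g⁻¹ by group] at this
    exact hmoveN g hge
  have htop := eq_top_of_strong_conj D.ord D.v_invol
    (hCN (D.mem_cent_iff.2 ⟨tN, tN_lt, D.val_tau⟩)) hvN D.not_conj_v hback hstrong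
  exact ⟨Subgroup.normalizer_eq_top_iff.1 htop, hEc⟩

/-- Coordinates with a standard element of order three. -/
theorem exists_std_of {h0 : G} (hh0 : D.Std0 h0) :
    ∃ (D' : Cen t) (h : G), D'.Std h := by
  obtain ⟨h, hh, hs⟩ := hh0.exists_inverted D
  obtain ⟨F, hF, hFa⟩ := hh.exists_act D
  have hFm := cands_rl F hF
  have sc : ∀ a, a ∈ rl → D.val (cjN sN a) = D.val sN * D.val a * D.val sN := fun a ha => by
    rw [D.val_cj sN_lt (rl_lt ha), D.sinv]
  obtain ⟨p, hp, hpe⟩ := normal_cases F hF (fun a ha => by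
    refine D.val_inj _ _ (rl_lt (hFm _ (rl_s _ (hFm a ha)).1)) (cjN_lt sN_lt (rl_lt ha)) ?_
    rw [← hFa _ (rl_s _ (hFm a ha)).1, sc _ (hFm a ha), ← hFa a ha, sc a ha]
    have e1 : h * D.val sN * h = D.val sN := by
      calc h * D.val sN * h = h * (D.val sN * h * D.val sN) * (D.val sN)⁻¹ := by group
        _ = D.val sN := by rw [hs, D.sinv]; group
    calc h * (D.val sN * (h * D.val a * h⁻¹) * D.val sN) * h⁻¹
        = h * D.val sN * h * D.val a * (h⁻¹ * (D.val sN)⁻¹⁻¹ * h⁻¹) := by group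
      _ = h * D.val sN * h * D.val a * (h * (D.val sN)⁻¹ * h)⁻¹ := by group
      _ = D.val sN * D.val a * D.val sN := by rw [D.sinv, e1, D.sinv])
  obtain ⟨f1, -, ft, fx, ftx, fv, fs, fr⟩ := alpha_facts p hp
  refine ⟨D.twist hp, h, ⟨⟨hh.h3, ?_, ?_, ?_⟩, ?_, fun m hm => ?_⟩⟩
  · show h * t * h⁻¹ = D.val (appN p.2 xN)
    rw [fx, hh.ht]
  · show h * D.val (appN p.2 xN) * h⁻¹ = D.val (appN p.2 txN)
    rw [fx, ftx, hh.hx]
  · show h * D.val (appN p.2 vN) = D.val (appN p.2 vN) * h
    rw [fv, hh.hv]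
  · show D.val (appN p.2 sN) * h * D.val (appN p.2 sN) = h⁻¹
    rw [fs, hs]
  · show h * D.val (appN p.2 m) * h⁻¹ = D.val (appN p.2 (appN phiN m))
    have hb := (fr m hm).1
    have e := hpe _ hb
    rw [(f1 m (mem_els (rl_lt hm))).2.2.1] at e
    rw [hFa _ hb, ← e, (f1 _ (mem_els (rl_lt (hFm _ hb)))).2.2.2]

variable {h f : G} (hh : D.Std h) (hf : D.Fr h f)
include hh hf

theorem phi_surjective_of : Function.Surjective (D.phi hh hf) := by
  haveI : Fact (Nat.Prime 2) := ⟨Nat.prime_two⟩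
  rw [← MonoidHom.range_eq_top]
  set R := (D.phi hh hf).range with hR
  have hC : Subgroup.centralizer ({t} : Set G) ≤ R := fun c hc => by
    obtain ⟨m, hm, rfl⟩ := D.mem_cent_iff.1 hc
    obtain ⟨q, -, e⟩ := D.val_mem_map hh hf hm
    exact ⟨q, e⟩
  have hhR : h ∈ R := ⟨_, D.phi_pg hh hf (x := 4) (by norm_num)⟩
  have hfR : f ∈ R := ⟨_, D.phi_pg hh hf (x := 6) (by norm_num)⟩
  have hval : ∀ m, m < 192 → D.val m ∈ R := fun m hm => hC (D.mem_cent_iff.2 ⟨m, hm, rfl⟩)
  have hK : D.KV ≤ R := hf.gen R (fun m hm => hval m (rv_lt hm)) hhR hfR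
  have htR : t ∈ R := hC (Subgroup.mem_centralizer_singleton_iff.2 rfl)
  -- the conjugators of the representatives lie in `R`
  have hrep : ∀ m, m < 192 → m ∈ tN :: (xl ++ yl ++ vl) →
      ∃ g ∈ R, g * t * g⁻¹ = D.val m ∨ g * D.val vN * g⁻¹ = D.val m := by
    intro m hm hm'
    simp only [List.mem_cons, List.mem_append] at hm'
    rcases hm' with rfl | (h1 | h1) | h1
    · exact ⟨1, one_mem _, Or.inl (by rw [D.val_tau]; group)⟩
    · obtain ⟨n, hn, e⟩ := xl_class m h1
      refine ⟨D.val n * h, mul_mem (hval n (els_lt hn)) hhR, Or.inl ?_⟩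
      rw [← e, D.val_cj (els_lt hn) xN_lt, ← hh.ht]
      group
    · obtain ⟨a, ha, hax, hay⟩ := phi_xy
      obtain ⟨n, hn, e⟩ := xl_class a hax
      obtain ⟨n', hn', e'⟩ := yl_class _ hay
      obtain ⟨k, hk, ek⟩ := yl_class m h1
      refine ⟨D.val k * (D.val n')⁻¹ * h * D.val n * h,
        mul_mem (mul_mem (mul_mem (mul_mem (hval k (els_lt hk)) (inv_mem (hval n' (els_lt hn')))) hhR)
          (hval n (els_lt hn))) hhR, Or.inl ?_⟩
      calc D.val k * (D.val n')⁻¹ * h * D.val n * h * t *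
            (D.val k * (D.val n')⁻¹ * h * D.val n * h)⁻¹
          = D.val k * ((D.val n')⁻¹ * (h * (D.val n * (h * t * h⁻¹) * (D.val n)⁻¹) * h⁻¹) *
              D.val n') * (D.val k)⁻¹ := by group
        _ = D.val k * ((D.val n')⁻¹ * D.val (appN phiN a) * D.val n') * (D.val k)⁻¹ := by
          rw [hh.ht, ← D.val_cj (els_lt hn) xN_lt, e, hh.act a ha]
        _ = D.val k * D.val yN * (D.val k)⁻¹ := by
          rw [← e', D.val_cj (els_lt hn') yN_lt]; group
        _ = _ := by rw [← D.val_cj (els_lt hk) yN_lt, ek]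
    · obtain ⟨n, hn, e⟩ := vl_class m h1
      exact ⟨D.val n, hval n (els_lt hn), Or.inr (by rw [← e, D.val_cj (els_lt hn) vN_lt])⟩
  have hlocate : ∀ i ∈ R, orderOf i = 2 → ∃ g ∈ R, ∃ k : R, ∃ n < 192,
      D.val n = (k : G) * i * (k : G)⁻¹ ∧ (g * t * g⁻¹ = D.val n ∨ g * D.val vN * g⁻¹ = D.val n) := by
    intro i hi hi2
    -- a Sylow subgroup of the centralizer of `t` is one of `R`
    obtain ⟨P, hP⟩ := D.exists_sylow
    have hPR : (P : Subgroup G) ≤ R := by
      rw [hP]
      rintro _ ⟨m, hm, rfl⟩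
      exact hval m (syl_lt hm)
    obtain ⟨Q, hQ⟩ := (IsPGroup.of_card (n := 1) (show Nat.card (Subgroup.zpowers (⟨i, hi⟩ : R)) = 2 ^ 1 by
      rw [Nat.card_zpowers, ← Subgroup.orderOf_coe, pow_one]; exact hi2)).exists_le_sylow
    obtain ⟨k, hk⟩ := MulAction.exists_smul_eq R Q (P.subtype hPR)
    have hmem : (k : G) * i * (k : G)⁻¹ ∈ sylGrp D := by
      have h1 : MulAut.conj k • (⟨i, hi⟩ : R) ∈ MulAut.conj k • (Q : Subgroup R) :=
        Subgroup.smul_mem_pointwise_smul _ _ _ (hQ (Subgroup.mem_zpowers _))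
      rw [← Sylow.coe_subgroup_smul, hk] at h1
      rw [← hP]
      exact h1
    obtain ⟨m, hm, hmv⟩ := hmem
    have hml : m < 192 := syl_lt hm
    obtain ⟨n, hn, hnv, hcases⟩ := D.invol_val (u := D.val m)
      (by rw [hmv]; exact ((MulAut.conj (k : G)).orderOf_eq i).trans hi2) (D.val_comm m hml)
    obtain rfl := D.val_inj n m hn hml hnv
    obtain ⟨g, hg, hgm⟩ := hrep n hn (by rcases hcases with e | e | e | e <;> simp [e])
    exact ⟨g, hg, k, n, hn, hmv, hgm⟩
  refine eq_top_of_strong_conj D.ord D.v_invol htR (hval vN vN_lt) D.not_conj_v (fun a ha => ?_)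
    fun i hi hi2 => ?_
  · obtain ⟨g, hg, k, n, -, hmv, hgm⟩ := hlocate _ ha D.conj_ord
    rcases hgm with e | e
    · have hb : g⁻¹ * ((k : G) * a) ∈ Subgroup.centralizer ({t} : Set G) := by
        rw [Subgroup.mem_centralizer_singleton_iff, ← mul_inv_eq_iff_eq_mul]
        calc g⁻¹ * ((k : G) * a) * t * (g⁻¹ * ((k : G) * a))⁻¹
            = g⁻¹ * ((k : G) * (a * t * a⁻¹) * (k : G)⁻¹) * g := by group
          _ = g⁻¹ * (g * t * g⁻¹) * g := by rw [← hmv, ← e]
          _ = t := by group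
      have := mul_mem (inv_mem k.2) (mul_mem hg (hC hb))
      rwa [show (k : G)⁻¹ * (g * (g⁻¹ * ((k : G) * a))) = a by group] at this
    · refine absurd (isConj_iff.2 ⟨g⁻¹ * ((k : G) * a), ?_⟩) D.not_conj_v
      calc g⁻¹ * ((k : G) * a) * t * (g⁻¹ * ((k : G) * a))⁻¹
          = g⁻¹ * ((k : G) * (a * t * a⁻¹) * (k : G)⁻¹) * g := by group
        _ = g⁻¹ * (g * D.val vN * g⁻¹) * g := by rw [← hmv, ← e]
        _ = _ := by group
  obtain ⟨g, hg, k, n, hn, hmv, hgm⟩ := hlocate i hi hi2
  intro c hc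
  have key : ∀ j : G, Subgroup.centralizer ({j} : Set G) ≤ R → g * j * g⁻¹ = D.val n → c ∈ R := by
    intro j hj e
    set a := g⁻¹ * (k : G) with ha
    have haR : a ∈ R := mul_mem (inv_mem hg) k.2
    have ej : a * i * a⁻¹ = j := by
      calc a * i * a⁻¹ = g⁻¹ * ((k : G) * i * (k : G)⁻¹) * g := by rw [ha]; group
        _ = g⁻¹ * (g * j * g⁻¹) * g := by rw [← hmv, e]
        _ = j := by group
    have hcj := conj_comm (h := a) (Subgroup.mem_centralizer_singleton_iff.1 hc)
    rw [ej] at hcj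
    have := mul_mem (mul_mem (inv_mem haR) (hj (Subgroup.mem_centralizer_singleton_iff.2 hcj))) haR
    rwa [show a⁻¹ * (a * c * a⁻¹) * a = c by group] at this
  rcases hgm with e | e
  · exact key t hC e
  · exact key _ hK e

end Cen

/-- The classification when `t` is conjugate to an involution of the class of six. -/
theorem classify_of_conj {G : Type*} [Group G] [Finite G] {t : G} (D : Cen t)
    (hx : IsConj t (D.val xN)) :
    (∃ (N : Subgroup G) (_ : N.Normal), IsMulCommutative N ∧ (∀ n ∈ N, n ^ 2 = 1) ∧ Nat.card N = 8 ∧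
      Nonempty (G ⧸ N ≃* Matrix.ProjectiveSpecialLinearGroup (Fin 3) (ZMod 2))) ∨
    Cfsg.Spor.IsoM12 G := by
  rcases D.std_or_normal hx with ⟨h0, hh0⟩ | ⟨hn, hEc⟩
  · refine Or.inr ?_
    obtain ⟨D', h, hh⟩ := D.exists_std_of hh0
    obtain ⟨f, hf⟩ := hh.exists_fr D'
    haveI := isSimple_M12
    set E₀ := cenS.mapEquiv (MulEquiv.subgroupCongr (stabG_M12 : M12s = Spor.M12))
    obtain ⟨E, k, hk⟩ := E₀.exists_std not_comm_M12
    obtain ⟨l, hl⟩ := hk.exists_fr E
    have hle : (E.phi hk hl).ker ≤ (D'.phi hh hf).ker := by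
      intro q hq
      have hqU : q ∈ subM := by
        rw [← E.comap_cent hk hl natCard_M12, Subgroup.mem_comap, MonoidHom.mem_ker.1 hq]
        exact one_mem _
      obtain ⟨m, hm, e1, e2⟩ := D'.phi_sub hh hf E hk hl hqU
      rw [MonoidHom.mem_ker] at hq ⊢
      rw [e1, E.val_eq_one hm (e2.symm.trans hq), D'.val_zero]
    set ψ : Spor.M12 ≃* PM ⧸ (E.phi hk hl).ker :=
      (QuotientGroup.quotientKerEquivOfSurjective _ (E.phi_surjective hk hl)).symm with hψ
    set χ : Spor.M12 →* G :=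
      (QuotientGroup.lift (E.phi hk hl).ker (D'.phi hh hf) hle).comp ψ.toMonoidHom
    have hsurj : Function.Surjective χ := by
      intro g
      obtain ⟨q, rfl⟩ := D'.phi_surjective_of hh hf g
      exact ⟨ψ.symm (QuotientGroup.mk q), by simp [χ]⟩
    have hinj : Function.Injective χ := by
      rw [← MonoidHom.ker_eq_bot_iff]
      rcases (inferInstance : χ.ker.Normal).eq_bot_or_eq_top with e | e
      · exact e
      · exfalso
        obtain ⟨x, hx'⟩ := hsurj t
        have : χ x = 1 := MonoidHom.mem_ker.1 (e ▸ Subgroup.mem_top x)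
        rw [this] at hx'
        have := D.ord
        rw [← hx', orderOf_one] at this
        norm_num at this
    exact ⟨(MulEquiv.ofBijective χ ⟨hinj, hsurj⟩).symm⟩
  · refine Or.inl ?_
    haveI := hn
    have hcomm : ∀ a ∈ D.elGrp, ∀ b ∈ D.elGrp, a * b = b * a := by
      rintro _ ⟨m, hm, rfl⟩ _ ⟨n, hn', rfl⟩
      exact D.val_commute (el_lt hm) (el_lt hn') (el_facts.2.2.2.2.1 m hm n hn').2
    have htE : t ∈ D.elGrp := ⟨tN, el_facts.2.2.2.1, D.val_tau⟩
    have hsq : ∀ e ∈ D.elGrp, e ^ 2 = 1 := by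
      intro e he
      rcases eq_or_ne e 1 with rfl | h1
      · simp
      obtain ⟨g, rfl⟩ := isConj_iff.1 (hEc e he h1)
      rw [conj_pow, pow_two, D.tt, mul_one, mul_inv_cancel]
    have h8 : Nat.card D.elGrp = 8 :=
      (D.card_image (fun _ h => el_lt h) el_facts.1).trans el_facts.2.1
    have hC : Subgroup.centralizer (D.elGrp : Set G) ≤ D.elGrp := fun g hg => by
      have hg' := Subgroup.mem_centralizer_iff.1 hg
      obtain ⟨m, hm, rfl⟩ := D.val_surj g (hg' t htE).symm
      exact ⟨m, el_self_cent m (mem_els hm) fun e he =>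
        D.mul_val_eq hm (el_lt he) (hg' _ ⟨e, he, rfl⟩).symm, rfl⟩
    have hclass : {x : G | IsConj t x} = (D.elGrp : Set G) \ {1} := by
      ext x
      constructor
      · intro hxc
        obtain ⟨g, rfl⟩ := isConj_iff.1 hxc
        refine ⟨hn.conj_mem t htE g, fun h1 => ?_⟩
        have := D.ord
        rw [conj_eq_one_iff.1 h1, orderOf_one] at this
        norm_num at this
      · exact fun hxE => hEc x hxE.1 hxE.2
    have h7 : (Subgroup.centralizer ({t} : Set G)).index = 7 := by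
      have e : (MulAction.stabilizer (ConjAct G) t).index = (MulAction.orbit (ConjAct G) t).ncard :=
        MulAction.index_stabilizer _ _
      rw [ConjAct.orbit_eq_carrier_conjClasses, show (ConjClasses.mk t).carrier = {x : G | IsConj t x} from
        Set.ext fun x => by rw [ConjClasses.mem_carrier_iff_mk_eq, ConjClasses.mk_eq_mk_iff_isConj, isConj_comm]; rfl,
        hclass, Set.ncard_diff_singleton_of_mem (D.elGrp.one_mem), ← Nat.card_coe_set_eq,
        show Nat.card (D.elGrp : Set G) = 8 from h8] at e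
      rw [show MulAction.stabilizer (ConjAct G) t = (Subgroup.centralizer {ConjAct.toConjAct t} :
        Subgroup (ConjAct G)) from ConjAct.stabilizer_eq_centralizer t] at e
      exact e
    refine ⟨D.elGrp, hn, ⟨⟨fun a b => Subtype.ext (hcomm a a.2 b b.2)⟩⟩, hsq, h8,
      quot_psl D.elGrp h8 hcomm hsq hC ?_⟩
    have e1 := (Subgroup.centralizer ({t} : Set G)).card_mul_index
    rw [D.card_cent, h7] at e1
    have e2 := D.elGrp.card_mul_index
    rw [h8, ← e1] at e2
    rw [← Subgroup.index_eq_card]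
    omega

end CfsgLib.M12Cent
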