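import Cfsg.Agent.Lib.PresCert.Check

/-!
Coset table certificate (generated data).
-/

namespace CfsgLib.M12Cent.Bad

open CfsgLib.PresCert

noncomputable def tab : BTree := (.leaf 0x40c001300000000074c00208000000000100020800000000068000200000000001000020000000000280001000000000010000100000)

noncomputable def par : BTree := (.leaf 0x1100000000000000120000000000200011000000000020000e000000000010000f000000000040000e0000000000400000000000000020000c0000000000000009000000000000000a00000000006000090000000000300008000000000010000700000000003000020000000000100003000000000010000400000000002000030000000000200002000000000000000100000000006000000000000000000000)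

noncomputable def fact : BTree := (.node (.leaf 0x240000170000000023000017000000002200002700000000210000b700000000200000270000b0001f000077000040001e0000b7000000001d0000a7000000001c000077000040001b000087000050001a0000a700000000190000870000500018000097000010001700001700009000160000d100001000150000d20000c000140000600000c000130000c000009000120000430000b000110000b00000a000100000a6000090000f000031000090000e000093000080000d000081000070000c000073000020000b000061000030000a0000520000100009000051000040000800004200003000070000320000200006000020000010000500001600000) (.leaf 0x40000005000000003f0000e7000000003e0000070000e0003d0000f70000e0003c0000f70000e0003b000137000110003a0001170001300039000147000120003800014700012000370001410001100036000143000100003500014000011000340000f60000f000330000f30001300032000120000130003100013000012000300000e2000120002f000122000110002e0001120000e0002d0000f1000100002c0001010000f0002b0000040000f0002a0000f40000e000290000e60000e000280000e00000e000270000e4000000002500000600000))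

/-- the certificate -/
noncomputable def cert : Cert where
  n := 1
  v := 20
  g := 7
  inv := [1, 0, 3, 2, 5, 4, 6]
  rels := [[0, 1], [2, 3], [4, 5], [0, 0, 0, 0], [3, 1, 3, 0, 3, 1, 3, 0], [2, 0, 3, 0, 3, 0, 3, 0, 2], [1, 3, 0, 0, 3, 1, 1, 3, 1], [4, 4, 4], [4, 0, 5, 3, 1, 2, 1, 3, 1], [4, 2, 2, 2, 5, 1, 1], [4, 3, 0, 0, 2, 5, 3, 1, 3, 3, 0, 3, 1], [4, 2, 0, 3, 0, 2, 5, 3, 3, 3, 1], [0, 2, 2, 1, 3, 4, 2, 0, 3, 3, 1, 4], [6, 6], [6, 0, 2, 2, 1, 3, 6, 2, 0, 3, 3, 1], [6, 5, 0, 2, 2, 1, 3, 6, 2, 0, 3, 3, 1, 4], [6, 2, 0, 3, 1, 2, 6, 3, 0, 2, 1, 3], [0, 3, 1, 3, 6, 0, 3, 1, 3, 6, 0, 3, 1, 3, 6], [0, 2, 0, 6, 0, 3, 1, 3, 1, 3, 1, 6, 0, 3, 1, 3]]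
  subs := [[0], [1], [2], [3]]
  tab := tab
  par := par
  fact := fact
  nfact := 59

/-- justifications -/
noncomputable def just0 : List Cert.Just :=
  [.define,
   .define,
   .define,
   .define,
   .define,
   .loop (some (14, 7)) [.bwd 4, .bwd 3, .bwd 2, .bwd 1, .bwd 0, .edge 0, .edge 2, .edge 2, .edge 1, .edge 3, .fwd 0],
   .define,
   .define,
   .define,
   .define,
   .loop (some (18, 8)) [.bwd 2, .bwd 1, .bwd 0, .edge 0, .edge 3, .edge 1, .edge 3, .edge 0, .edge 2, .edge 0, .fwd 0, .fwd 1, .fwd 7, .fwd 8, .fwd 9],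
   .define,
   .define,
   .loop (some (17, 1)) [.fwd 4, .bwd 5, .bwd 0, .edge 0, .edge 3, .edge 1, .edge 3, .fwd 0, .fwd 1, .fwd 7, .fwd 8, .fwd 9, .fwd 11, .fwd 12],
   .define,
   .loop (some (3, 1)) [.bwd 6, .bwd 10, .fwd 14],
   .define,
   .loop (some (18, 8)) [.bwd 16, .bwd 14, .fwd 11, .fwd 12, .fwd 13, .fwd 4, .bwd 5, .fwd 1, .fwd 2, .bwd 10, .fwd 11, .fwd 12, .fwd 13, .fwd 4, .bwd 5],
   .loop (some (6, 0)) [.fwd 17, .bwd 16, .fwd 15, .bwd 6, .bwd 2, .bwd 1, .fwd 17, .bwd 16, .bwd 14],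
   .loop none [.fwd 18],
   .loop none [.fwd 9, .bwd 19, .fwd 5],
   .loop none [.bwd 11, .bwd 19, .bwd 0],
   .loop none [.bwd 20],
   .loop none [.fwd 8, .bwd 22, .bwd 4],
   .loop none [.bwd 21],
   .loop none [.bwd 12, .bwd 24, .edge 0],
   .loop none [.bwd 23],
   .loop none [.fwd 7, .bwd 26, .bwd 13],
   .loop none [.bwd 25],
   .loop none [.bwd 27, .bwd 28],
   .loop none [.fwd 1, .bwd 29, .edge 1],
   .loop none [.bwd 30],
   .loop none [.fwd 0, .bwd 31],
   .define,
   .loop (some (8, 1)) [.bwd 33, .edge 3, .edge 1, .edge 2, .edge 1, .edge 3, .edge 1, .fwd 33],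
   .loop (some (15, 0)) [.bwd 33, .edge 0, .edge 2, .edge 2, .edge 1, .edge 3, .edge 6, .edge 2, .edge 0, .edge 3, .edge 3, .edge 1, .fwd 33],
   .define,
   .loop (some (7, 1)) [.fwd 33, .fwd 36],
   .define,
   .loop (some (9, 6)) [.fwd 37, .edge 2, .edge 2, .edge 2, .bwd 37, .fwd 38],
   .define,
   .define,
   .loop (some (9, 3)) [.bwd 33, .edge 1, .edge 1, .fwd 33, .fwd 40, .fwd 41],
   .define,
   .loop (some (10, 3)) [.fwd 42, .bwd 33, .edge 3, .edge 1, .edge 3, .edge 3, .edge 0, .edge 3, .edge 1, .fwd 33, .bwd 42, .fwd 43],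
   .loop (some (12, 4)) [.fwd 37, .edge 2, .edge 0, .edge 3, .edge 3, .edge 1, .fwd 33, .fwd 34, .fwd 40, .fwd 41, .bwd 44],
   .loop (some (14, 6)) [.bwd 45, .fwd 44, .bwd 41, .bwd 40, .bwd 34, .fwd 35, .fwd 34, .fwd 40, .fwd 41, .bwd 44, .fwd 45],
   .define,
   .loop (some (4, 0)) [.bwd 47, .bwd 40, .fwd 34, .bwd 42, .bwd 44, .fwd 45, .bwd 39],
   .loop (some (6, 8)) [.bwd 47, .bwd 40, .fwd 34, .fwd 34, .bwd 42, .bwd 44, .bwd 43, .bwd 41],
   .loop (some (17, 2)) [.bwd 47, .bwd 40, .fwd 35, .fwd 34, .bwd 42, .bwd 44, .fwd 45, .fwd 46, .bwd 39, .fwd 48, .bwd 47, .bwd 40, .fwd 35, .fwd 34, .bwd 42],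
   .loop none [.bwd 50],
   .loop none [.fwd 49, .bwd 51, .fwd 43],
   .loop none [.fwd 52],
   .loop none [.bwd 45, .bwd 53, .bwd 40],
   .loop none [.bwd 54],
   .loop none [.bwd 37, .bwd 55, .fwd 36, .bwd 55],
   .loop none [.fwd 56],
   .loop none [.fwd 33, .bwd 57]]

/-- justifications -/
noncomputable def justs : List Cert.Just := just0

end CfsgLib.M12Cent.Bad
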