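import Cfsg.Agent.Lib.M12Cent.Model

/-!
# Finite facts about the model
-/

set_option autoImplicit false
set_option maxRecDepth 100000
set_option maxHeartbeats 4000000

namespace CfsgLib.M12Cent

/-- the elements of the model -/
abbrev els : List Nat := List.range 192

/-- the named elements -/
def named : List Nat := [0, tN, xN, txN, yN, vN, sN, s3N, aN, bN]

theorem named_lt : ∀ m ∈ named, m < 192 := by decide +kernel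

theorem lists_lt : ∀ m ∈ xl ++ yl ++ vl ++ rl ++ rv ++ syl ++ el ++ ey ++ gR, m < 192 := by
  decide +kernel

theorem mul_lt : ∀ m ∈ els, ∀ n ∈ els, mulN m n < 192 := by decide +kernel

theorem inv_facts : ∀ m ∈ els, invN m < 192 ∧ mulN m (invN m) = 0 ∧ mulN 0 m = m ∧ mulN m 0 = m ∧
    mulN m tN = mulN tN m := by decide +kernel

theorem tau_mul : mulN tN xN = txN ∧ mulN tN tN = 0 ∧ mulN xN xN = 0 ∧ mulN sN sN = 0 ∧
    mulN vN vN = 0 := by decide +kernel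

theorem invol_cases : ∀ m ∈ els, mulN m m = 0 → m = 0 ∨ m = tN ∨ m ∈ xl ++ yl ++ vl := by
  decide +kernel

theorem invol_lists : ∀ m ∈ tN :: (xl ++ yl ++ vl), mulN m m = 0 ∧ m ≠ 0 := by decide +kernel

theorem reps : xN ∈ xl ∧ txN ∈ xl ∧ yN ∈ yl ∧ vN ∈ vl ∧ sN ∈ rv ∧ s3N ∈ rv ∧ vN ∈ rl ∧ xN ∈ rv ∧
    txN ∈ rv ∧ yN ∈ rl ∧ mulN tN vN ∈ vl ∧ mulN xN vN ∈ vl ∧ mulN txN vN ∈ vl := by
  decide +kernel

theorem xl_class : ∀ m ∈ xl, ∃ n ∈ els, cjN n xN = m := by decide +kernel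

theorem yl_class : ∀ m ∈ yl, ∃ n ∈ els, cjN n yN = m := by decide +kernel

theorem vl_class : ∀ m ∈ vl, ∃ n ∈ els, cjN n vN = m := by decide +kernel

theorem disjoint_lists : (∀ m ∈ xl, m ∉ yl ∧ m ∉ vl ∧ m ≠ tN) ∧ (∀ m ∈ yl, m ∉ vl ∧ m ≠ tN) ∧
    (∀ m ∈ vl, m ≠ tN) := by decide +kernel

theorem cent_x : ∀ m ∈ els, (mulN m xN = mulN xN m ↔ m ∈ rl) := by decide +kernel

theorem cent_v : ∀ m ∈ els, (mulN m vN = mulN vN m ↔ m ∈ rv) := by decide +kernel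

theorem cent_y : ∀ m ∈ els, (mulN m yN = mulN yN m ↔ m ∈ ey) := by decide +kernel

/-- the order of the centralizer in the model -/
def centLen (m : Nat) : Nat := (els.filter fun n => mulN n m == mulN m n).length

theorem cent_lengths : centLen xN = 32 ∧ centLen tN = 192 ∧ (∀ m ∈ xl, centLen m = 32) ∧
    (∀ m ∈ yl, centLen m = 8) ∧ (∀ m ∈ vl, centLen m = 16) := by decide +kernel

theorem syl_facts : syl.length = 64 ∧ syl.Nodup ∧ 0 ∈ syl ∧ tN ∈ syl ∧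
    (∀ a ∈ syl, ∀ b ∈ syl, mulN a b ∈ syl) ∧ (∀ a ∈ syl, invN a ∈ syl) := by decide +kernel

theorem syl_center : ∀ n ∈ syl, (∀ a ∈ syl, mulN n a = mulN a n) → n = 0 ∨ n = tN := by
  decide +kernel

theorem rv_facts : rv.length = 16 ∧ rv.Nodup ∧ 0 ∈ rv ∧ tN ∈ rv ∧ vN ∈ rv ∧
    (∀ a ∈ rv, ∀ b ∈ rv, mulN a b ∈ rv) ∧ (∀ a ∈ rv, invN a ∈ rv) ∧
    (∀ a ∈ rv, mulN a a = 0 ∨ mulN a a = tN) ∧ ∃ a ∈ rv, mulN a a = tN := by decide +kernel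

theorem rl_facts : rl.length = 32 ∧ rl.Nodup ∧ 0 ∈ rl ∧ tN ∈ rl ∧ xN ∈ rl ∧
    (∀ a ∈ rl, ∀ b ∈ rl, mulN a b ∈ rl) ∧ (∀ a ∈ rl, invN a ∈ rl) ∧ (∀ a ∈ rl, powN a 64 = 0) := by
  decide +kernel

theorem swap_facts : cjN sN xN = txN ∧ cjN sN txN = xN ∧ cjN sN tN = tN ∧ cjN sN vN = vN := by
  decide +kernel

theorem ey_pair : ∃ a b, a ∈ ey ∧ b ∈ ey ∧ a ∈ xl ∧ b ∈ xl ∧ a ≠ b ∧ mulN a b = tN ∧
    (∀ c ∈ ey, c = 0 ∨ c = tN ∨ c ∈ yl ∨ c = a ∨ c = b) ∧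
    (∀ c ∈ ey, ∀ d ∈ ey, mulN c d = mulN d c) ∧ tN ∈ ey ∧ yN ∈ ey := by
  refine ⟨(ey.filter fun m => xl.contains m).getD 0 0,
    (ey.filter fun m => xl.contains m).getD 1 0, ?_⟩
  decide +kernel

theorem coset_v : (∀ m ∈ rl, m ∈ vl → ∃ n ∈ rl, cjN n m = vN) ∧
    (∀ m ∈ rl, m ∈ vl → m = vN ∨ m = mulN vN tN ∨ m = mulN vN xN ∨ m = mulN vN txN) ∧
    (∀ w ∈ [0, tN, xN, txN], mulN vN w ∈ vl) ∧
    (∀ n ∈ rl, cjN n xN = xN ∧ cjN n tN = tN ∧ cjN n txN = txN) := by decide +kernel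

theorem rv_labels : ∀ m ∈ rv, (m = tN ∨ m ∈ xl ++ yl) → m = tN ∨ m = xN ∨ m = txN := by
  decide +kernel

theorem el_facts : el.Nodup ∧ el.length = 8 ∧ 0 ∈ el ∧ tN ∈ el ∧
    (∀ a ∈ el, ∀ b ∈ el, mulN a b ∈ el ∧ mulN a b = mulN b a) ∧ (∀ a ∈ el, invN a ∈ el) ∧
    (∀ a ∈ el, a = 0 ∨ a = tN ∨ a ∈ xl) ∧ (∀ a ∈ xl, a ∈ el) := by decide +kernel

theorem center_facts : ∀ m ∈ els, mulN m aN = mulN aN m → mulN m bN = mulN bN m →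
    m = 0 ∨ m = tN := by decide +kernel

end CfsgLib.M12Cent
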