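import Cfsg.Agent.Lib.M12Cent.Codes
import Cfsg.Agent.Lib.M12Cent.Checks
import Cfsg.Agent.Lib.Involutions.MathieuSylowM12

/-!
# The model inside `M₁₂`
-/

set_option autoImplicit false
set_option maxRecDepth 100000
set_option maxHeartbeats 4000000

namespace CfsgLib.M12Cent

open CfsgLib.MathieuOut CfsgLib.Spor CfsgLib.Involutions.MathieuSylow

/-- the code of an element -/
def codeN (m : Nat) : Nat := codes.getD m idP

theorem gens_elem : ([aN, invN aN, bN, invN bN].all fun g => elemB dodMasks [] (codeN g)) = true ∧
    (gens12.all fun e => elemB dodMasks [] e.1 && elemB dodMasks [] e.2 &&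
      Nat.beq (compP e.2 e.1) idP) = true := by decide +kernel

theorem codes_gen : ([aN, invN aN, bN, invN bN].all fun g => (List.range 192).all fun n =>
    Nat.beq (compP (codeN g) (codeN n)) (codeN (mulN g n))) = true := by decide +kernel

theorem mul_assoc_gen : ([aN, invN aN, bN, invN bN].all fun g => (List.range 192).all fun m =>
    (List.range 192).all fun n => Nat.beq (mulN g (mulN m n)) (mulN (mulN g m) n)) = true := by
  decide +kernel

theorem codes_inj : ((List.range 192).all fun m => Nat.beq m 0 || !Nat.beq (codeN m) idP) = true ∧
    codeN 0 = idP := by decide +kernel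

/-- the conjugates of the involution, earliest first -/
def imgs : List Nat := codeN tN :: steps.map fun e => e.1

theorem steps_ok : ((List.range steps.length).all fun i =>
    let e := steps.getD i (0, 0, 0)
    Nat.ble e.2.1 i && Nat.blt e.2.2 3 &&
      Nat.beq e.1 (compP (compP (gens12.getD e.2.2 (0, 0)).1 (imgs.getD e.2.1 0))
        (gens12.getD e.2.2 (0, 0)).2)) = true := by decide +kernel

/-- a short invariant of a code -/
def keyN (c : Nat) : Nat := c % 2 ^ 61

theorem imgs_nodup : (imgs.map keyN).Nodup ∧ imgs.length = 495 := by decide +kernel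

end CfsgLib.M12Cent
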