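import Cfsg.Agent.Lib.M12Cent.Checks
import Mathlib.Data.List.ProdSigma

/-!
# The model of `<v> × S₄` and the counts
-/

set_option autoImplicit false
set_option maxRecDepth 100000
set_option maxHeartbeats 1000000

namespace CfsgLib.M12Cent

/-- powers of the action -/
def phip : Nat → Nat → Nat
  | 0, m => m
  | k + 1, m => appN phiN (phip k m)

/-- the product in the centralizer of `v`; `192 i + m` stands for `h ^ i m` -/
def kmul (p q : Nat) : Nat :=
  if rl.contains (p % 192) then
    192 * ((p / 192 + q / 192) % 3) + mulN (phip ((3 - q / 192) % 3) (p % 192)) (q % 192)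
  else
    192 * ((p / 192 + 2 * (q / 192)) % 3) +
      mulN (mulN (phip (q / 192) (mulN (p % 192) sN)) sN) (q % 192)

/-- the elements of `<v> × S₄` -/
def klist : List Nat := (List.range 3).flatMap fun i => rv.map fun m => 192 * i + m

/-- the powers -/
def kpow (p : Nat) : Nat → Nat
  | 0 => 0
  | k + 1 => kmul (kpow p k) p

/-- its conjugates of `t` -/
def akl : List Nat := klist.filter fun p => klist.any fun q =>
  [tN, xN, txN].any fun m => kmul q p == kmul m q

/-- its other involutions -/
def bkl : List Nat := klist.filter fun p => kmul p p == 0 && p != 0 && !akl.contains p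

/-- the first pair count -/
def cntT : Nat := (((tN :: (xl ++ yl)).product vl).filter fun p =>
  (List.range 24).any fun i => powN (mulN p.1 p.2) i == tN).length

/-- the second pair count -/
def cntV : Nat := ((akl.product bkl).filter fun p =>
  (List.range 24).any fun i => kpow (kmul p.1 p.2) i == vN).length

theorem counts : cntT = 240 ∧ cntV = 3 := by decide +kernel

theorem exponents : (∀ m ∈ els, powN m 24 = 0) ∧ (∀ p ∈ klist, kpow p 24 = 0) := by decide +kernel

theorem phi_facts : ∀ m ∈ rl, appN phiN m ∈ rl ∧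
    (mulN m vN = mulN vN m → mulN (appN phiN m) vN = mulN vN (appN phiN m)) := by decide +kernel

theorem rv_split : ∀ m ∈ rv, m ∉ rl → mulN m sN ∈ rl ∧ mulN (mulN m sN) sN = m := by decide +kernel

theorem klist_facts : klist.length = 48 ∧ klist.Nodup ∧ akl.Nodup ∧ bkl.Nodup ∧ vN ∈ klist ∧
    0 ∈ klist ∧ (∀ p ∈ klist, p % 192 ∈ rv ∧ p / 192 < 3) ∧
    (∀ p ∈ klist, ∀ q ∈ klist, kmul p q ∈ klist) ∧
    (∀ p ∈ bkl, ∃ q ∈ klist, ∃ m ∈ rv, m ∈ vl ∧ kmul q p = kmul m q) ∧
    (∀ m ∈ rv, m ∈ klist) := by decide +kernel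

theorem lists_nodup : (tN :: (xl ++ yl)).Nodup ∧ vl.Nodup ∧ (xl ++ yl).Nodup ∧
    (xl ++ yl).length = 30 ∧ (∀ m ∈ xl ++ yl, mulN tN m ∈ xl ++ yl) := by decide +kernel

/-- the members commuting with a given one -/
def comLen (m : Nat) : Nat :=
  ((tN :: (xl ++ yl)).filter fun n => mulN n m == mulN m n).length

theorem paths : ((xl ++ yl).map fun m => 31 - comLen m).sum = 672 := by decide +kernel

end CfsgLib.M12Cent
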