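import Cfsg.Agent.Lib.M12Cent.Kay
import Cfsg.Agent.Lib.M12Cent.CountData
import Cfsg.Agent.Lib.U42.Count
import Mathlib.Combinatorics.Enumerative.DoubleCounting

/-!
# The centralizer of `v` is not of order `48`

Otherwise the group has order `12096` and the class of `t` has only `63` members, too few for the
paths of length two in its commuting graph.
-/

set_option autoImplicit false
set_option linter.unusedSectionVars false
set_option linter.style.haveILetI false
set_option maxRecDepth 100000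
set_option maxHeartbeats 1000000

namespace CfsgLib.M12Cent

open Cfsg
open CfsgLib.U42 (conj_comm Pair order_formula)

universe u

attribute [local irreducible] xl yl vl rl rv syl

variable {G : Type u} [Group G] [Finite G] {t : G}

namespace Cen

variable (D : Cen t)
include D

/-- The elements of the centralizer of `v`. -/
def kval (h : G) (p : ℕ) : G := h ^ (p / 192) * D.val (p % 192)

theorem card_cent' : Nat.card (Subgroup.centralizer ({t} : Set G)) = 192 := D.card_cent

variable {h : G} (hh : D.Std h)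
include hh

theorem Std.act_pow {m : ℕ} (hm : m ∈ rl) : ∀ k, phip k m ∈ rl ∧
    h ^ k * D.val m * (h ^ k)⁻¹ = D.val (phip k m)
  | 0 => ⟨hm, by simp [phip]⟩
  | k + 1 => by
    obtain ⟨h1, h2⟩ := Std.act_pow hm k
    refine ⟨(phi_facts _ h1).1, ?_⟩
    show _ = D.val (appN phiN (phip k m))
    rw [← hh.act _ h1, ← h2, pow_succ']
    group

theorem Std.pow_mod (k : ℕ) : h ^ (k % 3) = h ^ k := by
  conv_rhs => rw [← Nat.mod_add_div k 3, pow_add, pow_mul, hh.h3, one_pow, mul_one]

theorem Std.rl_move {m : ℕ} (hm : m ∈ rl) {j : ℕ} (hj : j < 3) :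
    D.val m * h ^ j = h ^ j * D.val (phip ((3 - j) % 3) m) := by
  rw [← ((hh.act_pow D hm _).2), hh.pow_mod D]
  have e : h ^ j * h ^ (3 - j) = 1 := by
    rw [← pow_add, show j + (3 - j) = 3 by omega, hh.h3]
  calc D.val m * h ^ j = h ^ j * h ^ (3 - j) * D.val m * h ^ j := by rw [e, one_mul]
    _ = _ := by rw [inv_eq_of_mul_eq_one_left e]; group

theorem Std.s_move (j : ℕ) : D.val sN * h ^ j = (h ^ j)⁻¹ * D.val sN := by
  have e : ∀ k, D.val sN * h ^ k * D.val sN = (h ^ k)⁻¹ := fun k => by
    have := map_pow (MulAut.conj (D.val sN)) h k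
    simp only [MulAut.conj_apply, D.sinv] at this
    rw [this, hh.hs, inv_pow]
  rw [← e j, mul_assoc _ (D.val sN) (D.val sN), D.ss, mul_one]

theorem Std.kval_mul {p q : ℕ} (hp : p ∈ klist) (hq : q ∈ klist) :
    D.kval h (kmul p q) = D.kval h p * D.kval h q := by
  obtain ⟨hp1, hp2⟩ := klist_facts.2.2.2.2.2.2.1 p hp
  obtain ⟨hq1, hq2⟩ := klist_facts.2.2.2.2.2.2.1 q hq
  have hpl := rv_lt hp1
  have hql := rv_lt hq1
  have step : ∀ i m, m < 192 → i < 3 → D.kval h (192 * i + m) = h ^ i * D.val m := fun i m hm hi => by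
    rw [kval, show (192 * i + m) / 192 = i by omega, show (192 * i + m) % 192 = m by omega]
  simp only [kmul]
  split
  · next hr =>
    have hr' : p % 192 ∈ rl := by simpa using hr
    have hph := rl_lt (hh.act_pow D hr' ((3 - q / 192) % 3)).1
    rw [step _ _ (mulN_lt hph hql) (Nat.mod_lt _ (by norm_num)), hh.pow_mod D, pow_add, kval, kval,
      D.val_mul _ _ hph hql]
    calc h ^ (p / 192) * h ^ (q / 192) * (D.val (phip ((3 - q / 192) % 3) (p % 192)) * D.val (q % 192))
        = h ^ (p / 192) * (h ^ (q / 192) * D.val (phip ((3 - q / 192) % 3) (p % 192))) *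
            D.val (q % 192) := by group
      _ = h ^ (p / 192) * (D.val (p % 192) * h ^ (q / 192)) * D.val (q % 192) := by
        rw [hh.rl_move D hr' hq2]
      _ = _ := by group
  · next hr =>
    obtain ⟨hm1, hm2⟩ := rv_split _ hp1 (by simpa using hr)
    obtain ⟨hph', hact⟩ := hh.act_pow D hm1 (q / 192)
    have hph := rl_lt hph'
    have hm1' := rl_lt hm1
    rw [step _ _ (mulN_lt (mulN_lt hph sN_lt) hql) (Nat.mod_lt _ (by norm_num)), hh.pow_mod D,
      pow_add, kval, kval, D.val_mul _ _ (mulN_lt hph sN_lt) hql, D.val_mul _ _ hph sN_lt]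
    conv_rhs => rw [← hm2, D.val_mul _ _ hm1' sN_lt]
    have e2 : h ^ (2 * (q / 192)) = (h ^ (q / 192))⁻¹ := by
      refine eq_inv_of_mul_eq_one_left ?_
      rw [← pow_add, show 2 * (q / 192) + q / 192 = 3 * (q / 192) by omega, pow_mul, hh.h3, one_pow]
    calc h ^ (p / 192) * h ^ (2 * (q / 192)) *
          (D.val (phip (q / 192) (mulN (p % 192) sN)) * D.val sN * D.val (q % 192))
        = h ^ (p / 192) * (h ^ (q / 192))⁻¹ *
          ((h ^ (q / 192) * D.val (mulN (p % 192) sN) * (h ^ (q / 192))⁻¹) * D.val sN *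
            D.val (q % 192)) := by rw [e2, hact]
      _ = h ^ (p / 192) * D.val (mulN (p % 192) sN) * ((h ^ (q / 192))⁻¹ * D.val sN) *
            D.val (q % 192) := by group
      _ = h ^ (p / 192) * D.val (mulN (p % 192) sN) * (D.val sN * h ^ (q / 192)) *
            D.val (q % 192) := by rw [hh.s_move D]
      _ = _ := by group

theorem Std.kval_mem {p : ℕ} (hp : p ∈ klist) : D.kval h p ∈ D.KV :=
  mul_mem (pow_mem (hh.mem_KV D) _) (D.val_mem_KV (klist_facts.2.2.2.2.2.2.1 p hp).1)

theorem Std.not_cent : h * t ≠ t * h := fun e => by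
  have := hh.ht
  rw [e, mul_inv_cancel_right] at this
  exact (disjoint_lists.1 xN reps.1).2.2 (D.val_inj _ _ xN_lt tN_lt (this.symm.trans D.val_tau.symm))

theorem Std.kval_inj {p q : ℕ} (hp : p ∈ klist) (hq : q ∈ klist)
    (e : D.kval h p = D.kval h q) : p = q := by
  obtain ⟨hp1, hp2⟩ := klist_facts.2.2.2.2.2.2.1 p hp
  obtain ⟨hq1, hq2⟩ := klist_facts.2.2.2.2.2.2.1 q hq
  have hpl := rv_lt hp1
  have hql := rv_lt hq1
  suffices key : p / 192 = q / 192 by
    rw [kval, kval, key] at e
    have := D.val_inj _ _ hpl hql (mul_left_cancel e)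
    omega
  by_contra hne
  have hc : ∀ k : ℕ, 0 < k → k < 3 → ∀ a b, a < 192 → b < 192 → h ^ k * D.val a ≠ D.val b := by
    intro k hk0 hk a b ha hb e'
    have hct : Commute (h ^ k) t := by
      have : h ^ k = D.val b * (D.val a)⁻¹ := by rw [← e', mul_inv_cancel_right]
      rw [this]
      exact (show Commute (D.val b) t from D.val_comm b hb).mul_left
        (show Commute (D.val a) t from D.val_comm a ha).inv_left
    refine hh.not_cent D (Commute.eq ?_)
    interval_cases k
    · simpa using hct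
    · have h4 : h = h ^ 2 * h ^ 2 := by
        rw [← pow_add, show 2 + 2 = 3 + 1 by rfl, pow_add, hh.h3, one_mul, pow_one]
      rw [h4]
      exact hct.mul_left hct
  rcases Nat.lt_or_gt_of_ne hne with hlt | hlt
  · refine hc (q / 192 - p / 192) (by omega) (by omega) _ _ hql hpl ?_
    rw [kval, kval, show q / 192 = p / 192 + (q / 192 - p / 192) by omega, pow_add, mul_assoc] at e
    exact (mul_left_cancel e).symm
  · refine hc (p / 192 - q / 192) (by omega) (by omega) _ _ hpl hql ?_
    rw [kval, kval, show p / 192 = q / 192 + (p / 192 - q / 192) by omega, pow_add, mul_assoc] at e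
    exact mul_left_cancel e

theorem Std.kval_zero : D.kval h 0 = 1 := by simp [kval, D.val_zero]

theorem Std.kval_pow {p : ℕ} (hp : p ∈ klist) : ∀ k, kpow p k ∈ klist ∧
    D.kval h (kpow p k) = D.kval h p ^ k
  | 0 => ⟨klist_facts.2.2.2.2.2.1, by rw [kpow, hh.kval_zero D, pow_zero]⟩
  | k + 1 => by
    obtain ⟨h1, h2⟩ := Std.kval_pow hp k
    exact ⟨klist_facts.2.2.2.2.2.2.2.1 _ h1 p hp,
      by rw [kpow, hh.kval_mul D h1 hp, h2, pow_succ]⟩

theorem Std.kconj {p q m : ℕ} (hp : p ∈ klist) (hq : q ∈ klist) (hm : m ∈ rv)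
    (e : kmul q p = kmul m q) : IsConj (D.kval h p) (D.val m) := by
  have hmk := klist_facts.2.2.2.2.2.2.2.2.2 m hm
  have e' := congrArg (D.kval h) e
  rw [hh.kval_mul D hq hp, hh.kval_mul D hmk hq] at e'
  have hmv : D.kval h m = D.val m := by
    rw [kval, Nat.div_eq_of_lt (rv_lt hm), Nat.mod_eq_of_lt (rv_lt hm), pow_zero, one_mul]
  rw [hmv] at e'
  exact isConj_iff.2 ⟨D.kval h q, by rw [e', mul_inv_cancel_right]⟩

theorem Std.kconj_t {p : ℕ} (hp : p ∈ akl) : IsConj t (D.kval h p) := by
  obtain ⟨hpk, hp'⟩ := List.mem_filter.1 hp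
  simp only [List.any_eq_true, beq_iff_eq] at hp'
  obtain ⟨q, hq, m, hm, e⟩ := hp'
  have hm' : m ∈ rv ∧ m ∈ alist := by
    have : ∀ m ∈ [tN, xN, txN], m ∈ rv ∧ m ∈ tN :: (xl ++ yl) := by decide +kernel
    exact this m hm
  exact ((hh.conj_t_iff D (by
    have := hm'.2
    simp only [alist, List.mem_cons, List.mem_append] at this ⊢
    tauto)).2 hm'.2).trans (hh.kconj D hpk hq hm'.1 e).symm

theorem Std.kconj_v {p : ℕ} (hp : p ∈ bkl) : IsConj (D.val vN) (D.kval h p) := by
  obtain ⟨q, hq, m, hm, hmv, e⟩ := klist_facts.2.2.2.2.2.2.2.2.1 p hp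
  exact (D.vl_conj hmv).trans (hh.kconj D (List.mem_filter.1 hp).1 hq hm e).symm

theorem Std.kinvol {p : ℕ} (hp : p ∈ klist) (hi : orderOf (D.kval h p) = 2) :
    p ∈ akl ∨ p ∈ bkl := by
  by_cases ha : p ∈ akl
  · exact Or.inl ha
  right
  have h1 : kmul p p = 0 := hh.kval_inj D (klist_facts.2.2.2.2.2.2.2.1 p hp p hp)
    klist_facts.2.2.2.2.2.1 (by
      rw [hh.kval_mul D hp hp, hh.kval_zero D, ← pow_two, ← hi, pow_orderOf_eq_one])
  have h2 : p ≠ 0 := fun e => by
    rw [e, hh.kval_zero D, orderOf_one] at hi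
    norm_num at hi
  exact List.mem_filter.2 ⟨hp, by simp [h1, h2, ha]⟩

theorem Std.card_pair_t : Nat.card (Pair t (D.val vN) t) = 240 := by
  classical
  rw [← counts.1, cntT]
  set L := ((tN :: (xl ++ yl)).product vl).filter fun p =>
    (List.range 24).any fun i => powN (mulN p.1 p.2) i == tN with hL
  have hnd : L.Nodup := List.Nodup.filter _ (List.Nodup.product lists_nodup.1 lists_nodup.2.1)
  have hmem : ∀ p, p ∈ L ↔ p.1 ∈ tN :: (xl ++ yl) ∧ p.2 ∈ vl ∧
      ∃ i < 24, powN (mulN p.1 p.2) i = tN := by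
    intro p
    obtain ⟨x, y⟩ := p
    simp [hL, List.mem_filter, List.pair_mem_product, List.any_eq_true, and_assoc]
  have hlt : ∀ p ∈ L, p.1 < 192 ∧ p.2 < 192 := fun p hp => by
    obtain ⟨h1, h2, -⟩ := (hmem p).1 hp
    refine ⟨?_, vl_lt h2⟩
    simp only [List.mem_cons, List.mem_append] at h1
    rcases h1 with e | e | e
    exacts [e ▸ tN_lt, xl_lt e, yl_lt e]
  have e : {p // p ∈ L} ≃ Pair t (D.val vN) t := Equiv.ofBijective
    (fun p => ⟨(D.val p.1.1, D.val p.1.2), by
      obtain ⟨h1, h2, i, -, hi⟩ := (hmem p.1).1 p.2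
      obtain ⟨l1, l2⟩ := hlt p.1 p.2
      refine ⟨(hh.conj_t_iff D ?_).2 h1, D.vl_conj h2, D.val_comm _ l1, D.val_comm _ l2, i, ?_⟩
      · simp only [List.mem_cons, List.mem_append] at h1 ⊢
        tauto
      · rw [← D.val_mul _ _ l1 l2, ← D.val_pow (mulN_lt l1 l2), hi, D.val_tau]⟩)
    ⟨fun a b hab => Subtype.ext (Prod.ext
      (D.val_inj _ _ (hlt _ a.2).1 (hlt _ b.2).1 (congrArg (fun p => p.1.1) hab))
      (D.val_inj _ _ (hlt _ a.2).2 (hlt _ b.2).2 (congrArg (fun p => p.1.2) hab))),
    fun ⟨⟨x, y⟩, h1, h2, h3, h4, i, hi⟩ => by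
      have ox : orderOf x = 2 := by
        obtain ⟨k, rfl⟩ := isConj_iff.1 h1; exact ((MulAut.conj k).orderOf_eq t).trans D.ord
      have oy : orderOf y = 2 := by
        obtain ⟨k, rfl⟩ := isConj_iff.1 h2; exact ((MulAut.conj k).orderOf_eq _).trans D.v_invol
      obtain ⟨m, hm, rfl, hm'⟩ := D.invol_val ox h3
      obtain ⟨n, hn, rfl, hn'⟩ := D.invol_val oy h4
      have hmm : m ∈ tN :: (xl ++ yl ++ vl) := by
        rcases hm' with e | e | e | e <;> simp [e]
      have hnn : n ∈ tN :: (xl ++ yl ++ vl) := by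
        rcases hn' with e | e | e | e <;> simp [e]
      have hmn := mulN_lt hm hn
      have h24 : (D.val (mulN m n)) ^ 24 = 1 := by
        rw [← D.val_pow hmn, exponents.1 _ (mem_els hmn), D.val_zero]
      refine ⟨⟨(m, n), (hmem _).2 ⟨(hh.conj_t_iff D hmm).1 h1, (hh.conj_v_iff D hnn).1 h2, i % 24,
        Nat.mod_lt _ (by norm_num), D.val_inj _ _ (powN_lt hmn _) tN_lt ?_⟩⟩, rfl⟩
      rw [D.val_pow hmn, D.val_tau, ← pow_eq_pow_mod i h24, D.val_mul _ _ hm hn]
      exact hi⟩
  rw [← Nat.card_congr e, Nat.card_eq_fintype_card,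
    Fintype.card_of_subtype L.toFinset (fun x => List.mem_toFinset),
    List.toFinset_card_of_nodup hnd]

/-- In the small case the model is the whole centralizer of `v`. -/
theorem Std.kval_surj (h48 : Nat.card D.KV = 48) {g : G} (hg : g ∈ D.KV) :
    ∃ p ∈ klist, D.kval h p = g := by
  classical
  have hinj : Function.Injective fun p : {p // p ∈ klist} => (⟨D.kval h p.1, hh.kval_mem D p.2⟩ : D.KV) :=
    fun a b e => Subtype.ext (hh.kval_inj D a.2 b.2 (congrArg Subtype.val e))
  have hb := hinj.bijective_of_nat_card_le (by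
    rw [h48, Nat.card_eq_fintype_card, Fintype.card_of_subtype klist.toFinset
      (fun x => List.mem_toFinset), List.toFinset_card_of_nodup klist_facts.2.1, klist_facts.1])
  obtain ⟨p, hp⟩ := hb.2 ⟨g, hg⟩
  exact ⟨p.1, p.2, congrArg Subtype.val hp⟩

theorem Std.card_pair_v (h48 : Nat.card D.KV = 48) :
    Nat.card (Pair t (D.val vN) (D.val vN)) = 3 := by
  classical
  rw [← counts.2, cntV]
  set L := (akl.product bkl).filter fun p =>
    (List.range 24).any fun i => kpow (kmul p.1 p.2) i == vN with hL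
  have hnd : L.Nodup := List.Nodup.filter _
    (List.Nodup.product klist_facts.2.2.1 klist_facts.2.2.2.1)
  have hmem : ∀ p, p ∈ L ↔ p.1 ∈ akl ∧ p.2 ∈ bkl ∧ ∃ i < 24, kpow (kmul p.1 p.2) i = vN := by
    intro p
    obtain ⟨x, y⟩ := p
    simp [hL, List.mem_filter, List.pair_mem_product, List.any_eq_true, and_assoc]
  have hk : ∀ p ∈ L, p.1 ∈ klist ∧ p.2 ∈ klist := fun p hp =>
    ⟨(List.mem_filter.1 ((hmem p).1 hp).1).1, (List.mem_filter.1 ((hmem p).1 hp).2.1).1⟩
  have hv : D.kval h vN = D.val vN := by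
    rw [kval, Nat.div_eq_of_lt vN_lt, Nat.mod_eq_of_lt vN_lt, pow_zero, one_mul]
  have e : {p // p ∈ L} ≃ Pair t (D.val vN) (D.val vN) := Equiv.ofBijective
    (fun p => ⟨(D.kval h p.1.1, D.kval h p.1.2), by
      obtain ⟨h1, h2, i, -, hi⟩ := (hmem p.1).1 p.2
      obtain ⟨l1, l2⟩ := hk p.1 p.2
      refine ⟨hh.kconj_t D h1, hh.kconj_v D h2,
        Subgroup.mem_centralizer_singleton_iff.1 (hh.kval_mem D l1),
        Subgroup.mem_centralizer_singleton_iff.1 (hh.kval_mem D l2), i, ?_⟩
      rw [← hh.kval_mul D l1 l2,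
        ← (hh.kval_pow D (klist_facts.2.2.2.2.2.2.2.1 _ l1 _ l2) i).2, hi, hv]⟩)
    ⟨fun a b hab => Subtype.ext (Prod.ext
      (hh.kval_inj D (hk _ a.2).1 (hk _ b.2).1 (congrArg (fun p => p.1.1) hab))
      (hh.kval_inj D (hk _ a.2).2 (hk _ b.2).2 (congrArg (fun p => p.1.2) hab))),
    fun ⟨⟨x, y⟩, h1, h2, h3, h4, i, hi⟩ => by
      have ox : orderOf x = 2 := by
        obtain ⟨k, rfl⟩ := isConj_iff.1 h1; exact ((MulAut.conj k).orderOf_eq t).trans D.ord
      have oy : orderOf y = 2 := by
        obtain ⟨k, rfl⟩ := isConj_iff.1 h2; exact ((MulAut.conj k).orderOf_eq _).trans D.v_invol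
      obtain ⟨m, hm, rfl⟩ := hh.kval_surj D h48 (Subgroup.mem_centralizer_singleton_iff.2 h3)
      obtain ⟨n, hn, rfl⟩ := hh.kval_surj D h48 (Subgroup.mem_centralizer_singleton_iff.2 h4)
      have hma : m ∈ akl := (hh.kinvol D hm ox).resolve_right fun hb =>
        D.not_conj_v (h1.trans (hh.kconj_v D hb).symm)
      have hnb : n ∈ bkl := (hh.kinvol D hn oy).resolve_left fun ha =>
        D.not_conj_v ((hh.kconj_t D ha).trans h2.symm)
      have hmn := klist_facts.2.2.2.2.2.2.2.1 _ hm _ hn
      have h24 : (D.kval h (kmul m n)) ^ 24 = 1 := by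
        rw [← (hh.kval_pow D hmn 24).2, exponents.2 _ hmn, hh.kval_zero D]
      refine ⟨⟨(m, n), (hmem _).2 ⟨hma, hnb, i % 24, Nat.mod_lt _ (by norm_num),
        hh.kval_inj D (hh.kval_pow D hmn _).1 klist_facts.2.2.2.2.1 ?_⟩⟩, rfl⟩
      rw [(hh.kval_pow D hmn _).2, ← pow_eq_pow_mod i h24, hh.kval_mul D hm hn, hv]
      exact hi⟩
  rw [← Nat.card_congr e, Nat.card_eq_fintype_card,
    Fintype.card_of_subtype L.toFinset (fun x => List.mem_toFinset),
    List.toFinset_card_of_nodup hnd]

/-- The small case does not occur. -/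
theorem Std.no_forty_eight : Nat.card D.KV ≠ 48 := by
  classical
  intro h48
  haveI := Fintype.ofFinite G
  have hcard : Nat.card G = 12096 := by
    rw [order_formula D.ord D.v_invol D.not_conj_v (fun i hi => hh.two_classes D hi),
      hh.card_pair_t D, hh.card_pair_v D h48, h48, D.card_cent']
  set A : Finset G := Finset.univ.filter fun w => IsConj t w with hA
  have hA63 : A.card = 63 := by
    have e1 : Nat.card {w : G // IsConj t w} = A.card := by
      rw [Nat.card_eq_fintype_card, Fintype.card_subtype]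
    have h := (Subgroup.centralizer ({t} : Set G)).card_mul_index
    rw [D.card_cent', hcard, ← CfsgLib.FgsB.card_isConj_eq_index, e1] at h
    omega
  set a30 := xl ++ yl with ha30
  set At : Finset G := (tN :: a30).toFinset.image D.val with hAt
  set A0 : Finset G := a30.toFinset.image D.val with hA0
  have hlt : ∀ m ∈ tN :: a30, m < 192 := by
    intro m hm
    simp only [ha30, List.mem_cons, List.mem_append] at hm
    rcases hm with rfl | e | e
    exacts [tN_lt, xl_lt e, yl_lt e]
  have hinj : Set.InjOn D.val ((tN :: a30).toFinset : Set ℕ) := fun a ha b hb =>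
    D.val_inj a b (hlt a (List.mem_toFinset.1 ha)) (hlt b (List.mem_toFinset.1 hb))
  have hAtA : At = A.filter fun w => w * t = t * w := by
    ext w
    simp only [hAt, hA, Finset.mem_image, List.mem_toFinset, Finset.mem_filter, Finset.mem_univ,
      true_and]
    constructor
    · rintro ⟨m, hm, rfl⟩
      refine ⟨(hh.conj_t_iff D ?_).2 hm, D.val_comm m (hlt m hm)⟩
      rcases List.mem_cons.1 hm with e | e
      · exact List.mem_cons.2 (Or.inl e)
      · exact List.mem_cons_of_mem _ (List.mem_append_left vl e)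
    · rintro ⟨hc, hwt⟩
      obtain ⟨m, hm, rfl, hm'⟩ := D.invol_val (by
        obtain ⟨k, rfl⟩ := isConj_iff.1 hc
        exact ((MulAut.conj k).orderOf_eq t).trans D.ord) hwt
      exact ⟨m, (hh.conj_t_iff D (by rcases hm' with e | e | e | e <;> simp [e])).1 hc, rfl⟩
  have hAt31 : At.card = 31 := by
    rw [hAt, Finset.card_image_of_injOn hinj, List.toFinset_card_of_nodup lists_nodup.1,
      List.length_cons, lists_nodup.2.2.2.1]
  set R : Finset G := A \ At with hR
  have hR32 : R.card = 32 := by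
    rw [hR, Finset.card_sdiff_of_subset (by rw [hAtA]; exact Finset.filter_subset _ _), hA63, hAt31]
  -- each member of `R` has at most fifteen common neighbours with `t`
  have hup : ∀ w ∈ R, (Finset.bipartiteBelow (fun i w => w * i = i * w) A0 w).card ≤ 15 := by
    intro w hw
    rw [hR, hAtA, Finset.mem_sdiff] at hw
    have hw' : ¬ w * t = t * w := fun e => hw.2 (Finset.mem_filter.2 ⟨hw.1, e⟩)
    set S := Finset.bipartiteBelow (fun i w => w * i = i * w) A0 w with hS
    have hA0card : A0.card = 30 := by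
      rw [hA0, Finset.card_image_of_injOn (hinj.mono (fun m hm => by
        simp only [Finset.mem_coe, List.mem_toFinset] at hm ⊢
        exact List.mem_cons_of_mem _ hm)), List.toFinset_card_of_nodup lists_nodup.2.2.1,
        lists_nodup.2.2.2.1]
    have hsub : S ∪ S.image (t * ·) ⊆ A0 := by
      intro i hi
      rcases Finset.mem_union.1 hi with h1 | h1
      · exact ((Finset.mem_bipartiteBelow _).1 h1).1
      · obtain ⟨j, hj, rfl⟩ := Finset.mem_image.1 h1
        obtain ⟨m, hm, rfl⟩ := Finset.mem_image.1 ((Finset.mem_bipartiteBelow _).1 hj).1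
        rw [List.mem_toFinset] at hm
        refine Finset.mem_image.2 ⟨mulN tN m, List.mem_toFinset.2 (lists_nodup.2.2.2.2 m hm), ?_⟩
        rw [D.val_mul _ _ tN_lt (hlt m (List.mem_cons_of_mem _ hm)), D.val_tau]
    have hdisj : Disjoint S (S.image (t * ·)) := by
      rw [Finset.disjoint_left]
      intro i hi hi'
      obtain ⟨j, hj, rfl⟩ := Finset.mem_image.1 hi'
      have e1 := ((Finset.mem_bipartiteBelow _).1 hi).2
      have e2 := ((Finset.mem_bipartiteBelow _).1 hj).2
      refine hw' ?_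
      have e1' : Commute w (t * j) := e1
      have e2' : Commute w j⁻¹ := Commute.inv_right e2
      have := e1'.mul_right e2'
      rwa [mul_inv_cancel_right] at this
    have h1 := Finset.card_le_card hsub
    rw [Finset.card_union_of_disjoint hdisj, Finset.card_image_of_injective _ (mul_right_injective t),
      hA0card] at h1
    omega
  -- the number of paths
  have hlow : ∀ m ∈ a30, (Finset.bipartiteAbove (fun i w => w * i = i * w) R (D.val m)).card =
      31 - comLen m := by
    intro m hm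
    have hml := hlt m (List.mem_cons_of_mem _ hm)
    obtain ⟨g, hg⟩ := isConj_iff.1 ((hh.conj_t_iff D
      (List.mem_cons_of_mem _ (List.mem_append_left vl hm))).2 (List.mem_cons_of_mem _ hm))
    set B := A.filter fun w => w * D.val m = D.val m * w with hB
    have hB31 : B.card = 31 := by
      rw [← hAt31, hAtA]
      refine Finset.card_bij' (fun w _ => g⁻¹ * w * g⁻¹⁻¹) (fun w _ => g * w * g⁻¹) ?_ ?_ ?_ ?_
      · intro w hw
        rw [hB, Finset.mem_filter, hA, Finset.mem_filter] at hw
        rw [Finset.mem_filter, hA, Finset.mem_filter]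
        refine ⟨⟨Finset.mem_univ _, hw.1.2.trans (isConj_iff.2 ⟨g⁻¹, rfl⟩)⟩, ?_⟩
        have := conj_comm (h := g⁻¹) hw.2
        rwa [← hg, show g⁻¹ * (g * t * g⁻¹) * g⁻¹⁻¹ = t by group] at this
      · intro w hw
        rw [Finset.mem_filter, hA, Finset.mem_filter] at hw
        rw [hB, Finset.mem_filter, hA, Finset.mem_filter]
        refine ⟨⟨Finset.mem_univ _, hw.1.2.trans (isConj_iff.2 ⟨g, rfl⟩)⟩, ?_⟩
        have := conj_comm (h := g) hw.2
        rwa [hg] at this
      · intro w _; group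
      · intro w _; group
    have hcom : (At.filter fun w => w * D.val m = D.val m * w).card = comLen m := by
      rw [comLen, ← List.toFinset_card_of_nodup (lists_nodup.1.filter _), hAt, Finset.filter_image,
        Finset.card_image_of_injOn (hinj.mono (Finset.coe_subset.2 (Finset.filter_subset _ _)))]
      congr 1
      ext n
      simp only [Finset.mem_filter, List.mem_toFinset, List.mem_filter, beq_iff_eq, ha30]
      exact and_congr_right fun hn => D.commute_iff (hlt n hn) hml
    have e : Finset.bipartiteAbove (fun i w => w * i = i * w) R (D.val m) =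
        B \ (At.filter fun w => w * D.val m = D.val m * w) := by
      ext w
      simp only [Finset.mem_bipartiteAbove, hR, hB, Finset.mem_sdiff, Finset.mem_filter]
      exact ⟨fun h => ⟨⟨h.1.1, h.2⟩, fun h' => h.1.2 h'.1⟩,
        fun h => ⟨⟨h.1.1, fun h' => h.2 ⟨h', h.1.2⟩⟩, h.1.2⟩⟩
    rw [e, Finset.card_sdiff_of_subset (by
      intro w hw
      rw [Finset.mem_filter] at hw
      rw [hB, Finset.mem_filter]
      exact ⟨(Finset.mem_filter.1 (hAtA ▸ hw.1)).1, hw.2⟩), hB31, hcom]
  have hsum : (∑ i ∈ A0, (Finset.bipartiteAbove (fun i w => w * i = i * w) R i).card) = 672 := by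
    rw [hA0, Finset.sum_image (hinj.mono (fun m hm => List.mem_toFinset.2 (List.mem_cons_of_mem _ (List.mem_toFinset.1 hm)))),
      List.sum_toFinset _ lists_nodup.2.2.1, List.map_congr_left hlow]
    exact paths
  have := Finset.sum_card_bipartiteAbove_eq_sum_card_bipartiteBelow (s := A0) (t := R)
    (fun i w : G => w * i = i * w)
  rw [hsum] at this
  have hle := Finset.sum_le_card_nsmul R _ 15 hup
  rw [← this, hR32, smul_eq_mul] at hle
  norm_num at hle

end Cen

end CfsgLib.M12Cent
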