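import Cfsg.Agent.Lib.M12Cent.Count
import Mathlib.GroupTheory.Perm.Sign
import Mathlib.GroupTheory.Perm.Closure

/-!
# The fourth transposition in the centralizer of `v`
-/

set_option autoImplicit false
set_option linter.unusedSectionVars false
set_option linter.style.haveILetI false
set_option maxRecDepth 100000
set_option maxHeartbeats 1000000

namespace CfsgLib.M12Cent

open Cfsg
open CfsgLib.U42 (conj_comm)

universe u

/-- the product of the inverse of `h` and `s` -/
def s2P : Nat := 384 + sN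

/-- the element carrying `v` to `s v` -/
def cN : Nat := 39

/-- the words in the model -/
theorem five_model : s2P ∈ klist ∧ sN ∈ klist ∧ s3N ∈ klist ∧ kmul sN sN = 0 ∧ kmul s2P s2P = 0 ∧
    kmul s3N s3N = 0 ∧ kmul sN s3N = kmul s3N sN ∧ kpow (kmul sN s2P) 3 = 0 ∧
    kpow (kmul s2P s3N) 3 = 0 ∧ sN ≠ s3N ∧ s3N ≠ kmul sN vN ∧ s2P ≠ sN ∧ s2P ≠ kmul sN vN ∧
    s3N ≠ s2P ∧ s3N ≠ kmul s2P vN := by decide +kernel

theorem cN_facts : cN < 192 ∧ cjN cN vN = mulN sN vN ∧ cjN cN sN = vN := by decide +kernel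

set_option synthInstance.maxSize 512 in
set_option synthInstance.maxHeartbeats 100000 in
open Equiv in
theorem coxeter_five : ∀ p : Perm (Fin 5), p * p = 1 → ∀ q : Perm (Fin 5), q * q = 1 →
    p * q * (p * q) * (p * q) = 1 → p ≠ q → ∀ r : Perm (Fin 5), r * r = 1 → p * r = r * p →
    p ≠ r → q * r * (q * r) * (q * r) = 1 → q ≠ r → ∃ σ : Perm (Fin 5),
      σ * p * σ⁻¹ = swap 0 1 ∧ σ * q * σ⁻¹ = swap 1 2 ∧ σ * r * σ⁻¹ = swap 2 3 := by
  decide +kernel

open Equiv in
theorem five_facts :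
    (∃ τ : Perm (Fin 5), τ * swap 0 1 * τ⁻¹ = swap 3 4 ∧ τ * swap 2 3 * τ⁻¹ = swap 0 1) ∧
    (∃ τ : Perm (Fin 5), τ * swap 0 1 * τ⁻¹ = swap 3 4 ∧ τ * swap 2 3 * τ⁻¹ = swap 1 2) ∧
    ((swap 2 3 * swap 3 4 : Perm (Fin 5)) * (swap 2 3 * swap 3 4) * (swap 2 3 * swap 3 4) = 1) ∧
    (∀ z : Perm (Fin 5), z * z * z = 1 → z * swap 0 1 = swap 0 1 * z →
      z = 1 ∨ z = swap 3 4 * swap 2 3 ∨ z = (swap 3 4 * swap 2 3)⁻¹) := by
  decide +kernel

variable {G : Type u} [Group G] [Finite G] {t : G}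

namespace Cen

variable (D : Cen t)
include D

/-- The fourth transposition. -/
structure Fr (h f : G) : Prop where
  ff : f * f = 1
  fv : f * D.val vN = D.val vN * f
  fs : f * D.val sN = D.val sN * f
  f2 : f * (h⁻¹ * D.val sN) = h⁻¹ * D.val sN * f
  f3 : (D.val s3N * f) ^ 3 = 1
  link : (D.val cN)⁻¹ * (f * D.val s3N) * D.val cN = f * D.val s3N ∨
    (D.val cN)⁻¹ * (f * D.val s3N) * D.val cN = (f * D.val s3N)⁻¹
  gen : ∀ R : Subgroup G, (∀ m ∈ rv, D.val m ∈ R) → h ∈ R → f ∈ R → D.KV ≤ R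

variable {h : G} (hh : D.Std h)
include hh

theorem Std.kval_hs : D.kval h s2P = h⁻¹ * D.val sN := by
  have h2 : h ^ 2 = h⁻¹ := eq_inv_of_mul_eq_one_left (by rw [← pow_succ]; exact hh.h3)
  rw [kval, show s2P / 192 = 2 by decide +kernel, show s2P % 192 = sN by decide +kernel, h2]

/-- The centralizer of `v` contains a fourth transposition. -/
theorem Std.exists_fr : ∃ f, D.Fr h f := by
  classical
  obtain ⟨e⟩ : Nonempty (D.KB ≃* Equiv.Perm (Fin 5)) := (hh.recog D).resolve_left fun ⟨e⟩ =>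
    hh.no_forty_eight D (by
      rw [D.card_KV, Nat.card_congr e.toEquiv, Nat.card_perm, Nat.card_fin]; rfl)
  obtain ⟨k1, k2, k3, f1, f2, f3, f13, f12, f23, n13, n13', n12, n12', n23, n23'⟩ := five_model
  have hmem : ∀ p, p ∈ klist → D.kval h p ∈ D.KV := fun p hp => hh.kval_mem D hp
  set π : D.KV →* Equiv.Perm (Fin 5) := e.toMonoidHom.comp (QuotientGroup.mk' _) with hπ
  have πeq : ∀ {a b : D.KV}, π a = π b ↔ (b : G) = a ∨ (b : G) = (a : G) * D.val vN := fun {a b} => by
    show e (QuotientGroup.mk a) = e (QuotientGroup.mk b) ↔ _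
    rw [e.injective.eq_iff, D.mk_eq_iff]
  have πsurj : Function.Surjective π := fun z => by
    obtain ⟨k, hk⟩ := QuotientGroup.mk_surjective (e.symm z)
    exact ⟨k, by show e (QuotientGroup.mk k) = z; rw [hk, e.apply_symm_apply]⟩
  have hmul : ∀ p q (hp : p ∈ klist) (hq : q ∈ klist), (⟨D.kval h p, hmem p hp⟩ : D.KV) *
      ⟨D.kval h q, hmem q hq⟩ = ⟨D.kval h (kmul p q), hmem _ (klist_facts.2.2.2.2.2.2.2.1 p hp q hq)⟩ :=
    fun p q hp hq => Subtype.ext (hh.kval_mul D hp hq).symm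
  have hone : ∀ hp, (⟨D.kval h 0, hmem 0 hp⟩ : D.KV) = 1 := fun _ => Subtype.ext (hh.kval_zero D)
  set a1 : D.KV := ⟨D.kval h sN, hmem _ k2⟩ with ha1
  set a2 : D.KV := ⟨D.kval h s2P, hmem _ k1⟩ with ha2
  set a3 : D.KV := ⟨D.kval h s3N, hmem _ k3⟩ with ha3
  have hinv : ∀ p (hp : p ∈ klist), kmul p p = 0 →
      π ⟨D.kval h p, hmem p hp⟩ * π ⟨D.kval h p, hmem p hp⟩ = 1 := fun p hp h0 => by
    rw [← map_mul, hmul p p hp hp]
    simp only [h0]
    rw [hone klist_facts.2.2.2.2.2.1, map_one]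
  have hcube : ∀ p q (hp : p ∈ klist) (hq : q ∈ klist), kpow (kmul p q) 3 = 0 →
      π ⟨D.kval h p, hmem p hp⟩ * π ⟨D.kval h q, hmem q hq⟩ *
        (π ⟨D.kval h p, hmem p hp⟩ * π ⟨D.kval h q, hmem q hq⟩) *
        (π ⟨D.kval h p, hmem p hp⟩ * π ⟨D.kval h q, hmem q hq⟩) = 1 := fun p q hp hq h0 => by
    rw [← map_mul, ← map_mul, ← map_mul, hmul p q hp hq]
    refine (congrArg π (Subtype.ext ?_)).trans (map_one π)
    have := (hh.kval_pow D (klist_facts.2.2.2.2.2.2.2.1 p hp q hq) 3).2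
    rw [h0, hh.kval_zero D] at this
    show D.kval h (kmul p q) * D.kval h (kmul p q) * D.kval h (kmul p q) = 1
    rw [this]
    simp [pow_succ]
  have hne : ∀ p q (hp : p ∈ klist) (hq : q ∈ klist), q ≠ p → q ≠ kmul p vN →
      π ⟨D.kval h p, hmem p hp⟩ ≠ π ⟨D.kval h q, hmem q hq⟩ := fun p q hp hq e1 e2 h0 => by
    have hvk := klist_facts.2.2.2.2.1
    rcases πeq.1 h0 with e' | e'
    · exact e1 (hh.kval_inj D hq hp e')
    · refine e2 (hh.kval_inj D hq (klist_facts.2.2.2.2.2.2.2.1 p hp _ hvk) ?_)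
      rw [hh.kval_mul D hp hvk]
      rw [show D.kval h vN = D.val vN by
        rw [kval, Nat.div_eq_of_lt vN_lt, Nat.mod_eq_of_lt vN_lt, pow_zero, one_mul]]
      exact e'
  obtain ⟨σ, σ1, σ2, σ3⟩ := coxeter_five (π a1) (hinv _ k2 f1) (π a2) (hinv _ k1 f2)
    (hcube _ _ k2 k1 f12) (hne _ _ k2 k1 n12 n12') (π a3) (hinv _ k3 f3)
    (by rw [← map_mul, ← map_mul, hmul _ _ k2 k3, hmul _ _ k3 k2]; simp only [f13])
    (hne _ _ k2 k3 n13.symm n13') (hcube _ _ k1 k3 f23) (hne _ _ k1 k3 n23 n23')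
  set ρ : D.KV →* Equiv.Perm (Fin 5) := (MulAut.conj σ).toMonoidHom.comp π with hρ
  have r1 : ρ a1 = Equiv.swap 0 1 := σ1
  have r2 : ρ a2 = Equiv.swap 1 2 := σ2
  have r3 : ρ a3 = Equiv.swap 2 3 := σ3
  have ρeq : ∀ {a b : D.KV}, ρ a = ρ b ↔ (b : G) = a ∨ (b : G) = (a : G) * D.val vN := fun {a b} => by
    show MulAut.conj σ (π a) = MulAut.conj σ (π b) ↔ _
    rw [(MulAut.conj σ).injective.eq_iff, πeq]
  have ρsurj : Function.Surjective ρ := (MulAut.conj σ).surjective.comp πsurj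
  obtain ⟨⟨τ, t1, t3⟩, ⟨τ', u1, u3⟩, hord3, hcent⟩ := five_facts
  obtain ⟨k, hk⟩ := ρsurj τ
  obtain ⟨k', hk'⟩ := ρsurj τ'
  have cv : ∀ a : D.KV, (a : G) * D.val vN = D.val vN * a := fun a =>
    Subgroup.mem_centralizer_singleton_iff.1 a.2
  have vv := D.vv
  -- conjugates of commuting elements commute up to `v`
  have hcomm : ∀ (k : D.KV) (b b' : D.KV), ρ (k * a1 * k⁻¹) = ρ b → ρ (k * a3 * k⁻¹) = ρ b' →
      (b : G) * b' = (b' : G) * b := by
    intro k b b' e1 e3
    have h13 : ((k * a1 * k⁻¹ : D.KV) : G) * ((k * a3 * k⁻¹ : D.KV) : G) =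
        ((k * a3 * k⁻¹ : D.KV) : G) * ((k * a1 * k⁻¹ : D.KV) : G) := by
      have h0 : a1 * a3 = a3 * a1 := by rw [hmul _ _ k2 k3, hmul _ _ k3 k2]; simp only [f13]
      rw [← Subgroup.coe_mul, ← Subgroup.coe_mul]
      congr 1
      calc k * a1 * k⁻¹ * (k * a3 * k⁻¹) = k * (a1 * a3) * k⁻¹ := by group
        _ = k * (a3 * a1) * k⁻¹ := by rw [h0]
        _ = _ := by group
    set A := ((k * a1 * k⁻¹ : D.KV) : G) with hA
    set B := ((k * a3 * k⁻¹ : D.KV) : G) with hB
    have cA : Commute A (D.val vN) := cv _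
    have cB : Commute B (D.val vN) := cv _
    have cAB : Commute A B := h13
    rcases ρeq.1 e1 with h1 | h1 <;> rcases ρeq.1 e3 with h3 | h3 <;> rw [h1, h3]
    · exact cAB.eq
    · exact (cAB.mul_right cA).eq
    · exact (cAB.mul_left cB.symm).eq
    · exact ((cAB.mul_right cA).mul_left (cB.symm.mul_right (Commute.refl _))).eq
  set b0 := k * a1 * k⁻¹ with hb0
  have rb0 : ρ b0 = Equiv.swap 3 4 := by rw [map_mul, map_mul, map_inv, hk, r1, t1]
  have hb0sq : b0 * b0 = 1 := by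
    have h11 : a1 * a1 = 1 := by rw [hmul _ _ k2 k2]; simp only [f1]; exact hone klist_facts.2.2.2.2.2.1
    calc k * a1 * k⁻¹ * (k * a1 * k⁻¹) = k * (a1 * a1) * k⁻¹ := by group
      _ = 1 := by rw [h11]; group
  have hc1 : (b0 : G) * a1 = (a1 : G) * b0 :=
    hcomm k b0 a1 rfl (by rw [map_mul, map_mul, map_inv, hk, r3, t3, r1])
  have hc2 : (b0 : G) * a2 = (a2 : G) * b0 :=
    hcomm k' b0 a2 (by rw [map_mul, map_mul, map_inv, hk', r1, u1, rb0])
      (by rw [map_mul, map_mul, map_inv, hk', r3, u3, r2])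
  obtain ⟨f, hf, hf2, hfs, hfh, hf3⟩ : ∃ f : D.KV, ρ f = Equiv.swap 3 4 ∧ f * f = 1 ∧
      (f : G) * a1 = (a1 : G) * f ∧ (f : G) * a2 = (a2 : G) * f ∧ ((a3 : G) * f) ^ 3 = 1 := by
    have e3 : ρ ((a3 * b0) * (a3 * b0) * (a3 * b0)) = ρ 1 := by
      rw [map_mul, map_mul, map_mul, r3, rb0, hord3, map_one]
    rcases ρeq.1 e3 with e' | e'
    · refine ⟨b0, rb0, hb0sq, hc1, hc2, ?_⟩
      rw [Subgroup.coe_one, Subgroup.coe_mul, Subgroup.coe_mul, Subgroup.coe_mul] at e'
      rw [e']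
      simp [pow_succ]
    · set w : D.KV := D.vK with hw
      have hwc : ∀ a : D.KV, Commute a w := fun a => D.vK_comm a
      have hww : w * w = 1 := Subtype.ext vv
      refine ⟨b0 * w, ?_, ?_, ?_, ?_, ?_⟩
      · rw [← rb0]
        exact ρeq.2 (Or.inr (by
          show (b0 : G) = ((b0 : G) * D.val vN) * D.val vN
          rw [mul_assoc, vv, mul_one]))
      · calc b0 * w * (b0 * w) = b0 * (w * b0) * w := by simp only [mul_assoc]
          _ = b0 * (b0 * w) * w := by rw [← (hwc b0).eq]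
          _ = b0 * b0 * (w * w) := by simp only [mul_assoc]
          _ = 1 := by rw [hb0sq, hww, mul_one]
      · show ((b0 : G) * D.val vN) * a1 = a1 * ((b0 : G) * D.val vN)
        exact ((show Commute (b0 : G) a1 from hc1).mul_left (show Commute (a1 : G) (D.val vN) from cv _).symm).eq
      · show ((b0 : G) * D.val vN) * a2 = a2 * ((b0 : G) * D.val vN)
        exact ((show Commute (b0 : G) a2 from hc2).mul_left (show Commute (a2 : G) (D.val vN) from cv _).symm).eq
      · rw [Subgroup.coe_one, Subgroup.coe_mul, Subgroup.coe_mul, Subgroup.coe_mul] at e'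
        show ((a3 : G) * ((b0 : G) * D.val vN)) ^ 3 = 1
        have hcm : Commute ((a3 : G) * b0) (D.val vN) :=
          (show Commute (a3 : G) (D.val vN) from cv _).mul_left (cv b0)
        have e3' : D.val vN ^ 3 = D.val vN := by
          rw [pow_succ, pow_two, vv, one_mul]
        rw [← mul_assoc, hcm.mul_pow, e3', show ((a3 : G) * b0) ^ 3 =
          (a3 : G) * b0 * ((a3 : G) * b0) * ((a3 : G) * b0) by simp [pow_succ]]
        exact e'.symm
  have ev : ∀ {p : ℕ}, p < 192 → D.kval h p = D.val p := fun {p} hp => by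
    rw [kval, Nat.div_eq_of_lt hp, Nat.mod_eq_of_lt hp, pow_zero, one_mul]
  have v1 : (a1 : G) = D.val sN := ev sN_lt
  have v2 : (a2 : G) = h⁻¹ * D.val sN := hh.kval_hs D
  have v3 : (a3 : G) = D.val s3N := ev (lt_named (by simp [named]))
  rw [v1] at hfs
  rw [v2] at hfh
  rw [v3] at hf3
  refine ⟨f, congrArg Subtype.val hf2, cv f, hfs, hfh, hf3, ?_, ?_⟩
  · -- the element of order three centralizing `s`
    obtain ⟨hcl, hcv, hcs⟩ := cN_facts
    set c := D.val cN with hc
    set p := (f : G) * D.val s3N with hp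
    have hps : p * D.val sN = D.val sN * p := by
      have c1 : Commute (f : G) (D.val sN) := hfs
      have c2 : Commute (D.val s3N) (D.val sN) := by
        have : mulN s3N sN = mulN sN s3N := by decide +kernel
        exact D.val_commute (lt_named (by simp [named])) sN_lt this
      exact (c1.mul_left c2).eq
    have hpv : p * D.val vN = D.val vN * p := by
      exact ((show Commute (f : G) (D.val vN) from cv f).mul_left
        (show Commute (D.val s3N) (D.val vN) from D.rv_comm reps.2.2.2.2.2.1)).eq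
    have ec1 : c⁻¹ * (D.val sN * D.val vN) * c⁻¹⁻¹ = D.val vN := by
      rw [← D.val_mul _ _ sN_lt vN_lt, ← hcv, D.val_cj hcl vN_lt, ← hc]; group
    have ec2 : c⁻¹ * D.val vN * c⁻¹⁻¹ = D.val sN := by
      rw [← hcs, D.val_cj hcl sN_lt, ← hc]; group
    set q := c⁻¹ * p * c⁻¹⁻¹ with hq
    have hqv : q * D.val vN = D.val vN * q := by
      have := conj_comm (h := c⁻¹)
        (((show Commute p (D.val sN) from hps).mul_right hpv).eq)
      rwa [ec1] at this
    have hqs : q * D.val sN = D.val sN * q := by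
      have := conj_comm (h := c⁻¹) hpv
      rwa [ec2] at this
    have hp3 : p * p * p = 1 := by
      have e' : D.val s3N * f * (D.val s3N * f) * (D.val s3N * f) = 1 := by
        rw [← hf3]; simp [pow_succ]
      have hs3 : D.val s3N * D.val s3N = 1 := by
        have : mulN s3N s3N = 0 := by decide +kernel
        rw [← D.val_mul _ _ (lt_named (by simp [named])) (lt_named (by simp [named])), this, D.val_zero]
      calc p * p * p = D.val s3N * (D.val s3N * f * (D.val s3N * f) * (D.val s3N * f)) * D.val s3N := by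
            simp only [hp, mul_assoc]
            rw [← mul_assoc (D.val s3N) (D.val s3N), hs3, one_mul]
        _ = 1 := by rw [e', mul_one, hs3]
    have hq3 : q * q * q = 1 := by
      calc q * q * q = c⁻¹ * (p * p * p) * c⁻¹⁻¹ := by rw [hq]; group
        _ = 1 := by rw [hp3]; group
    set qK : D.KV := ⟨q, Subgroup.mem_centralizer_singleton_iff.2 hqv⟩ with hqK
    set pK : D.KV := f * a3 with hpK
    have hpKv : (pK : G) = p := by rw [hpK, Subgroup.coe_mul, v3]
    have hsm : ρ qK * Equiv.swap 0 1 = Equiv.swap 0 1 * ρ qK := by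
      rw [← r1, ← map_mul, ← map_mul]
      refine congrArg ρ (Subtype.ext ?_)
      show q * (a1 : G) = (a1 : G) * q
      rw [v1]; exact hqs
    have hcu : ρ qK * ρ qK * ρ qK = 1 := by
      rw [← map_mul, ← map_mul, show qK * qK * qK = 1 from Subtype.ext hq3, map_one]
    have rpK : ρ pK = Equiv.swap 3 4 * Equiv.swap 2 3 := by rw [hpK, map_mul, hf, r3]
    have cube_inj : ∀ a b : G, a * a * a = 1 → b * b * b = 1 → b * D.val vN = D.val vN * b →
        (a = b ∨ a = b * D.val vN) → a = b := fun a b ha hb hbv hab => hab.resolve_right fun e' => by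
      have hv3 : D.val vN = 1 := by
        calc D.val vN = b * b * b * (D.val vN * D.val vN * D.val vN) := by
              rw [hb, vv, one_mul, one_mul]
          _ = b ^ 3 * D.val vN ^ 3 := by simp [pow_succ]
          _ = (b * D.val vN) ^ 3 := ((show Commute b (D.val vN) from hbv).mul_pow 3).symm
          _ = 1 := by rw [← e', ← ha]; simp [pow_succ]
      have := D.v_invol
      rw [hv3, orderOf_one] at this
      norm_num at this
    have hq' : q = p ∨ q = p⁻¹ := by
      rcases hcent _ hcu hsm with e' | e' | e'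
      · exfalso
        rw [← map_one ρ, eq_comm, ρeq] at e'
        have hq1 : q = 1 := cube_inj q 1 hq3 (by simp) (by simp) (by
          rw [Subgroup.coe_one] at e'
          exact e')
        rw [hq, conj_eq_one_iff] at hq1
        have h1 : ρ pK = ρ 1 := congrArg ρ (Subtype.ext (hpKv.trans hq1))
        rw [rpK, map_one] at h1
        exact absurd h1 (by decide +kernel)
      · rw [← rpK, eq_comm, ρeq, hpKv] at e'
        exact Or.inl (cube_inj q p hq3 hp3 hpv e')
      · rw [← rpK, ← map_inv, eq_comm, ρeq, Subgroup.coe_inv, hpKv] at e'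
        exact Or.inr (cube_inj q p⁻¹ hq3 (by rw [← mul_inv_rev, ← mul_inv_rev, ← mul_assoc, hp3, inv_one])
          (show Commute p (D.val vN) from hpv).inv_left.eq e')
    rw [hq, inv_inv] at hq'
    exact hq'
  · intro R hrv hhR hfR k hk
    obtain ⟨z, hz⟩ : ∃ z : D.KV, ((z : G) ∈ R) ∧ ρ z = ρ ⟨k, hk⟩ := by
      have htop : (Submonoid.closure (Set.range fun i : Fin 4 => Equiv.swap i.castSucc i.succ) :
          Submonoid (Equiv.Perm (Fin 5))) = ⊤ := Equiv.Perm.mclosure_swap_castSucc_succ 4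
      have hmem : ρ ⟨k, hk⟩ ∈ Submonoid.closure (Set.range fun i : Fin 4 =>
          (Equiv.swap i.castSucc i.succ : Equiv.Perm (Fin 5))) := by rw [htop]; exact Submonoid.mem_top _
      generalize ρ ⟨k, hk⟩ = y at hmem ⊢
      induction hmem using Submonoid.closure_induction with
      | mem x hx =>
        obtain ⟨i, rfl⟩ := hx
        fin_cases i
        · exact ⟨a1, by rw [v1]; exact hrv _ reps.2.2.2.2.1, r1⟩
        · exact ⟨a2, by rw [v2]; exact mul_mem (inv_mem hhR) (hrv _ reps.2.2.2.2.1), r2⟩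
        · exact ⟨a3, by rw [v3]; exact hrv _ reps.2.2.2.2.2.1, r3⟩
        · exact ⟨f, hfR, hf⟩
      | one => exact ⟨1, one_mem R, map_one ρ⟩
      | mul x y _ _ hx hy =>
        obtain ⟨z, hz, ez⟩ := hx
        obtain ⟨w, hw, ew⟩ := hy
        exact ⟨z * w, mul_mem hz hw, by rw [map_mul, ez, ew]⟩
    rcases ρeq.1 hz.2 with e' | e'
    · exact (show k = (z : G) from e') ▸ hz.1
    · exact (show k = (z : G) * D.val vN from e') ▸ mul_mem hz.1 (hrv _ rv_facts.2.2.2.2.1)

end Cen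

end CfsgLib.M12Cent
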