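import Cfsg.Agent.Lib.M12Cent.Strong

/-!
# The standard element of order three

Its action on the centralizer of `t` and `x` is the standard one after a change of coordinates, and
it is inverted by `s`.
-/

set_option autoImplicit false
set_option linter.unusedSectionVars false
set_option linter.style.haveILetI false
set_option maxRecDepth 100000
set_option maxHeartbeats 1000000

namespace CfsgLib.M12Cent

open Cfsg
open CfsgLib.U42 (conj_comm)

universe u

/-- The extension of images of two generators. -/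
def extN (p q m : Nat) : Nat :=
  (((wR.find? fun e => e.1 == m).map Prod.snd).getD []).foldl
    (fun a k => mulN a ([vN, p, q].getD k 0)) 0

/-- The evaluation of a word in the generators of the centralizer of `x`. -/
def evR (l : List Nat) : Nat := l.foldl (fun a k => mulN a (gR.getD k 0)) 0

theorem wR_facts : ∀ m ∈ rl, evR (((wR.find? fun e => e.1 == m).map Prod.snd).getD []) = m ∧
    ∀ k ∈ ((wR.find? fun e => e.1 == m).map Prod.snd).getD [], k < 3 := by decide +kernel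

theorem gR_facts : (∀ k ∈ List.range 3, gR.getD k 0 ∈ rl) ∧ gR.getD 0 0 = vN := by decide +kernel

theorem ext_cases : ∀ p ∈ rl, ∀ q ∈ rl, extN p q tN = xN → extN p q xN = txN →
    (∀ m ∈ rl, ∀ k ∈ List.range 3, extN p q (mulN m (gR.getD k 0)) =
      mulN (extN p q m) ([vN, p, q].getD k 0)) →
    (∀ m ∈ rl, extN p q (extN p q (extN p q m)) = m) →
    ∃ F ∈ cands, ∀ m ∈ rl, appN F m = extN p q m := by decide +kernel

theorem cands_rl : ∀ F ∈ cands, ∀ m ∈ rl, appN F m ∈ rl := by decide +kernel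

theorem inverter_cases : ∀ F ∈ cands, ∀ r ∈ rl, mulN r vN = mulN vN r →
    appN F (cjN sN r) = r → mulN (mulN (appN F (appN F r)) (appN F r)) r = 0 →
    (∀ a ∈ rl, appN F (cjN sN (appN F a)) = cjN r (cjN sN a)) →
    ∃ a ∈ rl, mulN a vN = mulN vN a ∧
      r = mulN (mulN (appN F (mulN (invN (cjN sN a)) a)) (invN a)) (cjN sN a) := by decide +kernel

theorem normal_cases : ∀ F ∈ cands, (∀ a ∈ rl, appN F (cjN sN (appN F a)) = cjN sN a) →
    ∃ p ∈ alphas, ∀ m ∈ rl, appN p.1 (appN F m) = appN phiN (appN p.1 m) := by decide +kernel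

theorem alpha_facts : ∀ p ∈ alphas, (∀ m ∈ els, appN p.2 m < 192 ∧ appN p.1 m < 192 ∧
      appN p.1 (appN p.2 m) = m ∧ appN p.2 (appN p.1 m) = m) ∧
    (∀ m ∈ els, ∀ n ∈ els, appN p.2 (mulN m n) = mulN (appN p.2 m) (appN p.2 n)) ∧
    appN p.2 tN = tN ∧ appN p.2 xN = xN ∧ appN p.2 txN = txN ∧ appN p.2 vN = vN ∧
    appN p.2 sN = sN ∧ (∀ m ∈ rl, appN p.2 m ∈ rl ∧ appN p.1 m ∈ rl) := by decide +kernel

theorem rl_s : ∀ m ∈ rl, cjN sN m ∈ rl ∧ (mulN m vN = mulN vN m → mulN (cjN sN m) vN = mulN vN (cjN sN m)) := by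
  decide +kernel

variable {G : Type u} [Group G] [Finite G] {t : G}

namespace Cen

variable (D : Cen t)
include D

/-- The standard element of order three. -/
structure Std (h : G) : Prop extends D.Std0 h where
  hs : D.val sN * h * D.val sN = h⁻¹
  act : ∀ m ∈ rl, h * D.val m * h⁻¹ = D.val (appN phiN m)

theorem ss : D.val sN * D.val sN = 1 := by
  rw [← D.val_mul _ _ sN_lt sN_lt, tau_mul.2.2.2.1, D.val_zero]

theorem sinv : (D.val sN)⁻¹ = D.val sN := inv_eq_of_mul_eq_one_right D.ss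

theorem s_fix : D.val sN * t * D.val sN = t ∧ D.val sN * D.val xN * D.val sN = D.val txN ∧
    D.val sN * D.val txN * D.val sN = D.val xN ∧
    D.val sN * D.val vN = D.val vN * D.val sN := by
  have e : ∀ m, m < 192 → D.val sN * D.val m * D.val sN = D.val (cjN sN m) := fun m hm => by
    rw [D.val_cj sN_lt hm, D.sinv]
  refine ⟨?_, ?_, ?_, ?_⟩
  · rw [D.val_comm _ sN_lt, mul_assoc, D.ss, mul_one]
  · rw [e _ xN_lt, swap_facts.1]
  · rw [e _ txN_lt, swap_facts.2.1]
  · exact D.val_commute sN_lt vN_lt ((cent_v sN (mem_els sN_lt)).2 reps.2.2.2.2.1)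

theorem rl_comm {m : ℕ} (hm : m ∈ rl) : D.val m * t = t * D.val m ∧
    D.val m * D.val xN = D.val xN * D.val m :=
  ⟨D.val_comm m (rl_lt hm), D.val_commute (rl_lt hm) xN_lt ((cent_x m (mem_els (rl_lt hm))).2 hm)⟩

theorem mem_rl {g : G} (h1 : g * t = t * g) (h2 : g * D.val xN = D.val xN * g) :
    ∃ m ∈ rl, D.val m = g := by
  obtain ⟨m, hm, rfl⟩ := D.val_surj g h1
  exact ⟨m, (cent_x m (mem_els hm)).1 (D.mul_val_eq hm xN_lt h2), rfl⟩

variable {h : G} (hh : D.Std0 h)
include hh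

theorem Std0.htx : h * D.val txN * h⁻¹ = t := by
  have e3 : ∀ y, h * (h * (h * y * h⁻¹) * h⁻¹) * h⁻¹ = h ^ 3 * y * (h ^ 3)⁻¹ := fun y => by
    simp [pow_succ, mul_assoc]
  have := e3 t
  rw [hh.ht, hh.hx, hh.h3] at this
  rw [this]
  group

theorem Std0.image {m : ℕ} (hm : m ∈ rl) : ∃ n ∈ rl, D.val n = h * D.val m * h⁻¹ := by
  obtain ⟨h1, h2⟩ := D.rl_comm hm
  have htxc : D.val m * D.val txN = D.val txN * D.val m :=
    D.val_commute (rl_lt hm) txN_lt (by
      have : ∀ m ∈ rl, mulN m txN = mulN txN m := by decide +kernel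
      exact this m hm)
  refine D.mem_rl ?_ ?_
  · have := conj_comm (h := h) htxc
    rwa [hh.htx D] at this
  · have := conj_comm (h := h) h1
    rwa [hh.ht] at this

/-- The action on the centralizer of `t` and `x` is one of the candidates. -/
theorem Std0.exists_act : ∃ F ∈ cands, ∀ m ∈ rl, h * D.val m * h⁻¹ = D.val (appN F m) := by
  choose f hf hfv using fun m (hm : m ∈ rl) => hh.image D hm
  set p := f _ (gR_facts.1 1 (by simp)) with hp
  set q := f _ (gR_facts.1 2 (by simp)) with hq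
  have hgen : ∀ k, k < 3 → ([vN, p, q].getD k 0) ∈ rl ∧
      D.val ([vN, p, q].getD k 0) = h * D.val (gR.getD k 0) * h⁻¹ := by
    intro k hk
    interval_cases k
    · refine ⟨reps.2.2.2.2.2.2.1, ?_⟩
      rw [gR_facts.2, hh.hv, mul_inv_cancel_right]
      rfl
    · exact ⟨hf _ _, hfv _ (gR_facts.1 1 (by simp))⟩
    · exact ⟨hf _ _, hfv _ (gR_facts.1 2 (by simp))⟩
  have hfold : ∀ (l : List ℕ), (∀ k ∈ l, k < 3) → ∀ a b, a ∈ rl → b ∈ rl →
      D.val b = h * D.val a * h⁻¹ →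
      D.val (l.foldl (fun a k => mulN a ([vN, p, q].getD k 0)) b) =
        h * D.val (l.foldl (fun a k => mulN a (gR.getD k 0)) a) * h⁻¹ := by
    intro l
    induction l with
    | nil => intro _ a b _ _ e; exact e
    | cons k l ih =>
      intro hl a b ha hb e
      have hk := hl k (List.mem_cons_self ..)
      obtain ⟨g1, g2⟩ := hgen k hk
      have g0 := gR_facts.1 k (List.mem_range.2 hk)
      refine ih (fun j hj => hl j (List.mem_cons_of_mem _ hj)) _ _
        (rl_facts.2.2.2.2.2.1 a ha _ g0) (rl_facts.2.2.2.2.2.1 b hb _ g1) ?_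
      rw [D.val_mul _ _ (rl_lt hb) (rl_lt g1), e, g2, D.val_mul _ _ (rl_lt ha) (rl_lt g0)]
      group
  have hext : ∀ m ∈ rl, D.val (extN p q m) = h * D.val m * h⁻¹ ∧ extN p q m ∈ rl := by
    intro m hm
    obtain ⟨e1, e2⟩ := wR_facts m hm
    have := hfold _ e2 0 0 rl_facts.2.2.1 rl_facts.2.2.1 (by rw [D.val_zero]; group)
    rw [show (List.foldl (fun a k => mulN a (gR.getD k 0)) 0
      ((Option.map Prod.snd (List.find? (fun e => e.1 == m) wR)).getD [])) = m from e1] at this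
    refine ⟨this, ?_⟩
    have hlen : ∀ (l : List ℕ), (∀ k ∈ l, k < 3) → ∀ b ∈ rl,
        l.foldl (fun a k => mulN a ([vN, p, q].getD k 0)) b ∈ rl := by
      intro l
      induction l with
      | nil => intro _ b hb; exact hb
      | cons k l ih =>
        intro hl b hb
        rw [List.foldl_cons]
        exact ih (fun j hj => hl j (List.mem_cons_of_mem _ hj)) _
          (rl_facts.2.2.2.2.2.1 b hb _ (hgen k (hl k (List.mem_cons_self ..))).1)
    exact hlen _ e2 0 rl_facts.2.2.1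
  have hinj : ∀ a b, a ∈ rl → b ∈ rl → D.val a = D.val b → a = b :=
    fun a b ha hb => D.val_inj a b (rl_lt ha) (rl_lt hb)
  obtain ⟨F, hF, hFe⟩ := ext_cases p (hf _ _) q (hf _ _)
    (hinj _ _ (hext _ rl_facts.2.2.2.1).2 rl_facts.2.2.2.2.1 (by
      rw [(hext _ rl_facts.2.2.2.1).1, D.val_tau]; exact hh.ht))
    (hinj _ _ (hext _ rl_facts.2.2.2.2.1).2 (by decide +kernel) (by
      rw [(hext _ rl_facts.2.2.2.2.1).1]; exact hh.hx))
    (fun m hm k hk => by
      have hk' := List.mem_range.1 hk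
      obtain ⟨g1, g2⟩ := hgen k hk'
      have g0 := gR_facts.1 k hk
      have hmk := rl_facts.2.2.2.2.2.1 m hm _ g0
      refine hinj _ _ (hext _ hmk).2 (rl_facts.2.2.2.2.2.1 _ (hext _ hm).2 _ g1) ?_
      rw [(hext _ hmk).1, D.val_mul _ _ (rl_lt (hext _ hm).2) (rl_lt g1), (hext _ hm).1, g2,
        D.val_mul _ _ (rl_lt hm) (rl_lt g0)]
      group)
    (fun m hm => by
      have h1 := (hext _ hm).2
      have h2 := (hext _ h1).2
      refine hinj _ _ (hext _ h2).2 hm ?_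
      rw [(hext _ h2).1, (hext _ h1).1, (hext _ hm).1]
      have : h * (h * (h * D.val m * h⁻¹) * h⁻¹) * h⁻¹ = h ^ 3 * D.val m * (h ^ 3)⁻¹ := by
        simp [pow_succ, mul_assoc]
      rw [this, hh.h3]
      group)
  exact ⟨F, hF, fun m hm => by rw [hFe m hm, (hext m hm).1]⟩

/-- A conjugate of the element is inverted by `s`. -/
theorem Std0.exists_inverted : ∃ k, D.Std0 k ∧ D.val sN * k * D.val sN = k⁻¹ := by
  obtain ⟨F, hF, hFa⟩ := hh.exists_act D
  obtain ⟨s1, s2, s3, s4⟩ := D.s_fix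
  have hi2 : h⁻¹ = h * h := inv_eq_of_mul_eq_one_right (by rw [← hh.h3]; simp [pow_succ, mul_assoc])
  set s := D.val sN with hs
  have hss : s * s = 1 := D.ss
  have hsi : s⁻¹ = s := D.sinv
  have hq1 : h * (s * h * s) * t * (h * (s * h * s))⁻¹ = t := by
    calc h * (s * h * s) * t * (h * (s * h * s))⁻¹
        = h * (s * (h * (s * t * s⁻¹) * h⁻¹) * s⁻¹) * h⁻¹ := by group
      _ = t := by rw [hsi, s1, hh.ht, s2, hh.htx D]
  have hq2 : h * (s * h * s) * D.val xN * (h * (s * h * s))⁻¹ = D.val xN := by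
    calc h * (s * h * s) * D.val xN * (h * (s * h * s))⁻¹
        = h * (s * (h * (s * D.val xN * s⁻¹) * h⁻¹) * s⁻¹) * h⁻¹ := by group
      _ = D.val xN := by rw [hsi, s2, hh.htx D, s1, hh.ht]
  obtain ⟨r, hr, hrv⟩ := D.mem_rl (mul_inv_eq_iff_eq_mul.1 hq1) (mul_inv_eq_iff_eq_mul.1 hq2)
  have hrv' : mulN r vN = mulN vN r := D.mul_val_eq (rl_lt hr) vN_lt (by
    rw [hrv]
    have c1 : Commute s (D.val vN) := s4
    have c2 : Commute h (D.val vN) := hh.hv
    exact (c2.mul_left ((c1.mul_left c2).mul_left c1)).eq)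
  have hrl : r < 192 := rl_lt hr
  have sc : ∀ a, a ∈ rl → D.val (cjN sN a) = s * D.val a * s := fun a ha => by
    rw [D.val_cj sN_lt (rl_lt ha), ← hs, hsi]
  have hshs : s * h * s = h⁻¹ * D.val r := by rw [hrv]; group
  have hFm := cands_rl F hF
  obtain ⟨a, ha, hav, hae⟩ := inverter_cases F hF r hr hrv'
    (D.val_inj _ _ (rl_lt (hFm _ (rl_s r hr).1)) hrl (by
      rw [← hFa _ (rl_s r hr).1, sc r hr, hrv]
      calc h * (s * (h * (s * h * s)) * s) * h⁻¹ = h * (s * h * s) * (h * (s * s)) * h⁻¹ := by group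
        _ = h * (s * h * s) := by rw [hss]; group))
    (D.val_eq_one (mulN_lt (mulN_lt (rl_lt (hFm _ (hFm r hr))) (rl_lt (hFm r hr))) hrl) (by
      have e3 : (s * h * s) ^ 3 = 1 := by
        calc (s * h * s) ^ 3 = s * h * (s * s) * h * (s * s) * h * s := by
              simp [pow_succ, mul_assoc]
          _ = s * (h ^ 3) * s := by rw [hss]; simp [pow_succ, mul_assoc]
          _ = 1 := by rw [hh.h3, mul_one, hss]
      rw [D.val_mul _ _ (mulN_lt (rl_lt (hFm _ (hFm r hr))) (rl_lt (hFm r hr))) hrl,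
        D.val_mul _ _ (rl_lt (hFm _ (hFm r hr))) (rl_lt (hFm r hr)), ← hFa _ (hFm r hr),
        ← hFa _ hr, ← e3, hshs]
      have eh : h * h = h⁻¹ := hi2.symm
      calc h * (h * D.val r * h⁻¹) * h⁻¹ * (h * D.val r * h⁻¹) * D.val r
          = h * h * D.val r * (h * h)⁻¹ * (h * D.val r * h⁻¹) * D.val r := by group
        _ = h⁻¹ * D.val r * (h * h) * D.val r * h⁻¹ * D.val r := by conv_lhs => rw [eh]
                                                                    group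
        _ = h⁻¹ * D.val r * h⁻¹ * D.val r * h⁻¹ * D.val r := by rw [eh]
        _ = (h⁻¹ * D.val r) ^ 3 := by simp [pow_succ, mul_assoc]))
    (fun b hb => by
      refine D.val_inj _ _ (rl_lt (hFm _ (rl_s _ (hFm b hb)).1)) (cjN_lt hrl (cjN_lt sN_lt (rl_lt hb))) ?_
      rw [← hFa _ (rl_s _ (hFm b hb)).1, sc _ (hFm b hb), ← hFa b hb,
        D.val_cj hrl (cjN_lt sN_lt (rl_lt hb)), sc b hb, hrv]
      calc h * (s * (h * D.val b * h⁻¹) * s) * h⁻¹
          = h * (s * h * s) * (s⁻¹ * D.val b * s⁻¹) * (s * h⁻¹ * s) * h⁻¹ := by group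
        _ = h * (s * h * s) * (s * D.val b * s) * (s⁻¹ * h⁻¹ * s⁻¹) * h⁻¹ := by rw [hsi]
        _ = _ := by group)
  have hal := rl_lt ha
  set a' := cjN sN a with ha'
  have ha'r : a' ∈ rl := (rl_s a ha).1
  have hkey : D.val r = h * ((D.val a')⁻¹ * D.val a) * h⁻¹ * (D.val a)⁻¹ * D.val a' := by
    have hm := rl_facts.2.2.2.2.2.1 _ (rl_facts.2.2.2.2.2.2.1 a' ha'r) a ha
    conv_lhs => rw [hae]
    rw [D.val_mul _ _ (mulN_lt (rl_lt (hFm _ hm)) (invN_lt hal)) (rl_lt ha'r),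
      D.val_mul _ _ (rl_lt (hFm _ hm)) (invN_lt hal), ← hFa _ hm, D.val_mul _ _ (invN_lt (rl_lt ha'r)) hal,
      D.val_inv hal, D.val_inv (rl_lt ha'r)]
  obtain ⟨c1, c2⟩ := D.rl_comm ha
  have c3 : D.val a * D.val txN = D.val txN * D.val a := D.val_commute hal txN_lt (by
    have : ∀ m ∈ rl, mulN m txN = mulN txN m := by decide +kernel
    exact this a ha)
  have cf : ∀ {b : G}, D.val a * b = b * D.val a → (D.val a)⁻¹ * b * D.val a = b := fun e => by
    rw [mul_assoc, ← e, inv_mul_cancel_left]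
  refine ⟨D.val a * h * (D.val a)⁻¹, ⟨by rw [conj_pow, hh.h3, mul_one, mul_inv_cancel], ?_, ?_, ?_⟩, ?_⟩
  · calc D.val a * h * (D.val a)⁻¹ * t * (D.val a * h * (D.val a)⁻¹)⁻¹
        = D.val a * (h * ((D.val a)⁻¹ * t * D.val a) * h⁻¹) * (D.val a)⁻¹ := by group
      _ = _ := by rw [cf c1, hh.ht, c2, mul_inv_cancel_right]
  · calc D.val a * h * (D.val a)⁻¹ * D.val xN * (D.val a * h * (D.val a)⁻¹)⁻¹
        = D.val a * (h * ((D.val a)⁻¹ * D.val xN * D.val a) * h⁻¹) * (D.val a)⁻¹ := by group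
      _ = _ := by rw [cf c2, hh.hx, c3, mul_inv_cancel_right]
  · have ca : Commute (D.val a) (D.val vN) := D.val_commute hal vN_lt hav
    exact ((ca.mul_left hh.hv).mul_left ca.inv_left).eq
  · calc s * (D.val a * h * (D.val a)⁻¹) * s
        = s * D.val a * s⁻¹ * (s * h * s⁻¹) * (s * D.val a * s⁻¹)⁻¹ * (s * s) := by group
      _ = D.val a' * (h⁻¹ * D.val r) * (D.val a')⁻¹ := by rw [hsi, ← sc a ha, hshs, hss, mul_one]
      _ = (D.val a * h * (D.val a)⁻¹)⁻¹ := by rw [hkey]; group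

omit hh

/-- A change of coordinates fixing the named elements. -/
def twist {p : Nat × Nat} (hp : p ∈ alphas) : Cen t where
  ord := D.ord
  val m := D.val (appN p.2 m)
  val_mul m n hm hn := by
    obtain ⟨f1, f2, -⟩ := alpha_facts p hp
    rw [f2 m (mem_els hm) n (mem_els hn),
      D.val_mul _ _ (f1 m (mem_els hm)).1 (f1 n (mem_els hn)).1]
  val_comm m hm := D.val_comm _ ((alpha_facts p hp).1 m (mem_els hm)).1
  val_inj m n hm hn h := by
    obtain ⟨f1, -⟩ := alpha_facts p hp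
    have e := D.val_inj _ _ (f1 m (mem_els hm)).1 (f1 n (mem_els hn)).1 h
    rw [← (f1 m (mem_els hm)).2.2.1, e, (f1 n (mem_els hn)).2.2.1]
  val_surj g hg := by
    obtain ⟨m, hm, rfl⟩ := D.val_surj g hg
    obtain ⟨-, f2, f3, f4⟩ := (alpha_facts p hp).1 m (mem_els hm)
    exact ⟨appN p.1 m, f2, by rw [f4]⟩
  val_tau := by rw [(alpha_facts p hp).2.2.1]; exact D.val_tau

/-- Coordinates with a standard element of order three. -/
theorem exists_std [IsSimpleGroup G] (hG : ¬ IsMulCommutative G) :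
    ∃ (D' : Cen t) (h : G), D'.Std h := by
  obtain ⟨h0, hh0⟩ := D.std_exists hG
  obtain ⟨h, hh, hs⟩ := hh0.exists_inverted D
  obtain ⟨F, hF, hFa⟩ := hh.exists_act D
  have hFm := cands_rl F hF
  have sc : ∀ a, a ∈ rl → D.val (cjN sN a) = D.val sN * D.val a * D.val sN := fun a ha => by
    rw [D.val_cj sN_lt (rl_lt ha), D.sinv]
  obtain ⟨p, hp, hpe⟩ := normal_cases F hF (fun a ha => by
    refine D.val_inj _ _ (rl_lt (hFm _ (rl_s _ (hFm a ha)).1)) (cjN_lt sN_lt (rl_lt ha)) ?_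
    rw [← hFa _ (rl_s _ (hFm a ha)).1, sc _ (hFm a ha), ← hFa a ha, sc a ha]
    have e1 : h * D.val sN * h = D.val sN := by
      calc h * D.val sN * h = h * (D.val sN * h * D.val sN) * (D.val sN)⁻¹ := by group
        _ = D.val sN := by rw [hs, D.sinv]; group
    calc h * (D.val sN * (h * D.val a * h⁻¹) * D.val sN) * h⁻¹
        = h * D.val sN * h * D.val a * (h⁻¹ * (D.val sN)⁻¹⁻¹ * h⁻¹) := by group
      _ = h * D.val sN * h * D.val a * (h * (D.val sN)⁻¹ * h)⁻¹ := by group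
      _ = D.val sN * D.val a * D.val sN := by rw [D.sinv, e1, D.sinv])
  obtain ⟨f1, -, ft, fx, ftx, fv, fs, fr⟩ := alpha_facts p hp
  refine ⟨D.twist hp, h, ⟨⟨hh.h3, ?_, ?_, ?_⟩, ?_, fun m hm => ?_⟩⟩
  · show h * t * h⁻¹ = D.val (appN p.2 xN)
    rw [fx, hh.ht]
  · show h * D.val (appN p.2 xN) * h⁻¹ = D.val (appN p.2 txN)
    rw [fx, ftx, hh.hx]
  · show h * D.val (appN p.2 vN) = D.val (appN p.2 vN) * h
    rw [fv, hh.hv]
  · show D.val (appN p.2 sN) * h * D.val (appN p.2 sN) = h⁻¹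
    rw [fs, hs]
  · show h * D.val (appN p.2 m) * h⁻¹ = D.val (appN p.2 (appN phiN m))
    have hb := (fr m hm).1
    have e := hpe _ hb
    rw [(f1 m (mem_els (rl_lt hm))).2.2.1] at e
    rw [hFa _ hb, ← e, (f1 _ (mem_els (rl_lt (hFm _ hb)))).2.2.2]

end Cen

end CfsgLib.M12Cent
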