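import Cfsg.Agent.Lib.M12Cent.Setup
import Cfsg.Agent.Lib.Involutions.ZStar.Main
import Cfsg.Agent.Lib.Involutions.Isolated

/-!
# Fusion of involutions

`t` is conjugate to `x` and not to `v`; an element of order three permutes `t`, `x`, `t x`.
-/

set_option autoImplicit false
set_option linter.unusedSectionVars false
set_option linter.style.haveILetI false
set_option maxRecDepth 100000

namespace CfsgLib.M12Cent

open Cfsg
open CfsgLib.U42 (conj_comm)

universe u

variable {G : Type u} [Group G] [Finite G] {t : G}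

namespace Cen

variable (D : Cen t)
include D

/-- The centralizer of `v` in the centralizer of `t`. -/
def rvGrp : Subgroup G where
  carrier := {g | ∃ m ∈ rv, D.val m = g}
  one_mem' := ⟨0, rv_facts.2.2.1, D.val_zero⟩
  mul_mem' := by
    rintro a b ⟨m, hm, rfl⟩ ⟨n, hn, rfl⟩
    exact ⟨mulN m n, rv_facts.2.2.2.2.2.1 m hm n hn, D.val_mul m n (rv_lt hm) (rv_lt hn)⟩
  inv_mem' := by
    rintro a ⟨m, hm, rfl⟩
    exact ⟨invN m, rv_facts.2.2.2.2.2.2.1 m hm, D.val_inv (rv_lt hm)⟩

theorem card_rvGrp : Nat.card D.rvGrp = 16 :=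
  (D.card_image (fun _ h => rv_lt h) rv_facts.2.1).trans rv_facts.1

theorem mem_rvGrp {g : G} : g ∈ D.rvGrp ↔ g * t = t * g ∧ g * D.val vN = D.val vN * g := by
  constructor
  · rintro ⟨m, hm, rfl⟩
    exact ⟨D.val_comm m (rv_lt hm),
      D.val_commute (rv_lt hm) vN_lt ((cent_v m (mem_els (rv_lt hm))).2 hm)⟩
  · rintro ⟨h1, h2⟩
    obtain ⟨m, hm, rfl⟩ := D.val_surj g h1
    exact ⟨m, (cent_v m (mem_els hm)).1 (D.mul_val_eq hm vN_lt h2), rfl⟩

/-- A normalizer argument: `t` is not conjugate to `v`. -/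
theorem not_conj_v : ¬ IsConj t (D.val vN) := by
  intro hc
  haveI : Fact (Nat.Prime 2) := ⟨Nat.prime_two⟩
  obtain ⟨g, hg⟩ := isConj_iff.1 hc
  set K := Subgroup.centralizer ({D.val vN} : Set G) with hK
  have h64 : ∀ P : Sylow 2 K, 64 ≤ Nat.card (P : Subgroup K) := by
    intro P
    have hle : (sylGrp D).map (MulAut.conj g).toMonoidHom ≤ K := by
      rintro _ ⟨_, ⟨m, hm, rfl⟩, rfl⟩
      rw [hK, Subgroup.mem_centralizer_singleton_iff, MulEquiv.coe_toMonoidHom, MulAut.conj_apply,
        ← hg]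
      exact conj_comm (D.val_comm m (syl_lt hm))
    have hc : Nat.card (((sylGrp D).map (MulAut.conj g).toMonoidHom).subgroupOf K) = 2 ^ 6 := by
      rw [Nat.card_congr (Subgroup.subgroupOfEquivOfLe hle).toEquiv,
        Nat.card_congr ((sylGrp D).equivMapOfInjective _ (MulAut.conj g).injective).toEquiv.symm,
        D.card_sylGrp]
      norm_num
    obtain ⟨Q, hQ⟩ := (IsPGroup.of_card hc).exists_le_sylow
    have h := Subgroup.card_le_of_le hQ
    rw [hc] at h
    obtain ⟨k, hk⟩ := MulAction.exists_smul_eq K Q P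
    rw [← hk, Sylow.coe_subgroup_smul]
    refine le_of_le_of_eq (le_trans (by norm_num) h) ?_
    exact Nat.card_congr (Subgroup.equivSMul (MulAut.conj k) (Q : Subgroup K)).toEquiv
  have hle : D.rvGrp ≤ K := fun a ha =>
    Subgroup.mem_centralizer_singleton_iff.2 (D.mem_rvGrp.1 ha).2
  have hcard : Nat.card (D.rvGrp.subgroupOf K) = 16 := by
    rw [Nat.card_congr (Subgroup.subgroupOfEquivOfLe hle).toEquiv, D.card_rvGrp]
  obtain ⟨P, hP⟩ := (IsPGroup.of_card (n := 4) (show Nat.card (D.rvGrp.subgroupOf K) = 2 ^ 4 by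
    rw [hcard]; norm_num)).exists_le_sylow
  have hlt : D.rvGrp.subgroupOf K < (P : Subgroup K) := lt_of_le_of_ne hP fun e => by
    have h := h64 P
    rw [← e, hcard] at h
    norm_num at h
  obtain ⟨n, hn, hnr⟩ := SetLike.exists_of_lt
    (Group.normalizerCondition_of_isNilpotent (G := (P : Subgroup K)) (h := P.2.isNilpotent)
      ((D.rvGrp.subgroupOf K).subgroupOf (P : Subgroup K)) (by
        rw [lt_top_iff_ne_top]
        intro e
        exact hlt.not_ge (Subgroup.subgroupOf_eq_top.1 e)))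
  obtain ⟨a, ha, ha2⟩ := rv_facts.2.2.2.2.2.2.2.2
  have hmem : ((n : K) : G) * D.val a * ((n : K) : G)⁻¹ ∈ D.rvGrp :=
    (Subgroup.mem_normalizer_iff.1 hn ⟨⟨D.val a, hle ⟨a, ha, rfl⟩⟩, hP ⟨a, ha, rfl⟩⟩).1 ⟨a, ha, rfl⟩
  obtain ⟨b, hb, hbv⟩ := hmem
  have hsq : D.val (mulN b b) = ((n : K) : G) * t * ((n : K) : G)⁻¹ := by
    have e : ((n : K) : G) * (D.val a * D.val a) * ((n : K) : G)⁻¹ =
        ((n : K) : G) * t * ((n : K) : G)⁻¹ := by
      rw [← D.val_mul a a (rv_lt ha) (rv_lt ha), ha2, D.val_tau]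
    rw [← e, D.val_mul b b (rv_lt hb) (rv_lt hb), hbv]
    group
  rcases rv_facts.2.2.2.2.2.2.2.1 b hb with e | e <;> rw [e] at hsq
  · rw [D.val_zero, eq_comm, conj_eq_one_iff] at hsq
    have := D.ord
    rw [hsq, orderOf_one] at this
    norm_num at this
  · rw [D.val_tau, eq_mul_inv_iff_mul_eq] at hsq
    exact hnr (D.mem_rvGrp.2 ⟨hsq.symm, Subgroup.mem_centralizer_singleton_iff.1 (n : K).2⟩)

theorem conj_ord {g : G} : orderOf (g * t * g⁻¹) = 2 :=
  ((MulAut.conj g).orderOf_eq t).trans D.ord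

theorem not_conj_vl {m : ℕ} (h : m ∈ vl) : ¬ IsConj t (D.val m) :=
  fun hc => D.not_conj_v (hc.trans (D.vl_conj h).symm)

/-- A conjugate of `t` commuting with `t` is not in the third class. -/
theorem conj_cases {g : G} (hc : g * t * g⁻¹ * t = t * (g * t * g⁻¹)) :
    ∃ m < 192, D.val m = g * t * g⁻¹ ∧ (m = tN ∨ m ∈ xl ∨ m ∈ yl) := by
  obtain ⟨m, hm, hmv, h⟩ := D.invol_val D.conj_ord hc
  refine ⟨m, hm, hmv, ?_⟩
  rcases h with h | h | h | h
  · exact Or.inl h
  · exact Or.inr (Or.inl h)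
  · exact Or.inr (Or.inr h)
  · exact absurd (isConj_iff.2 ⟨g, hmv.symm⟩) (D.not_conj_vl h)

/-- In a simple group `t` is conjugate to `x`. -/
theorem conj_x [IsSimpleGroup G] (hG : ¬ IsMulCommutative G) : IsConj t (D.val xN) := by
  by_contra hno
  by_cases hy : IsConj t (D.val yN)
  · obtain ⟨g, hg⟩ := isConj_iff.1 hy
    have hyt : D.val yN * t = t * D.val yN := D.val_comm yN yN_lt
    have hu : g⁻¹ * t * g⁻¹⁻¹ * t = t * (g⁻¹ * t * g⁻¹⁻¹) := by
      have e : g⁻¹ * D.val yN * g⁻¹⁻¹ = t := by rw [← hg]; group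
      have := conj_comm (h := g⁻¹) hyt
      rw [e] at this
      exact this.symm
    obtain ⟨m, hm, hmv, hcases⟩ := D.conj_cases hu
    rcases hcases with rfl | h | h
    · rw [D.val_tau, inv_inv] at hmv
      have h1 : g * t * g⁻¹ = t := by
        calc g * t * g⁻¹ = g * (g⁻¹ * t * g) * g⁻¹ := by rw [← hmv]
          _ = t := by group
      rw [hg] at h1
      exact (disjoint_lists.2.1 yN reps.2.2.1).2 (D.val_inj _ _ yN_lt tN_lt (h1.trans D.val_tau.symm))
    · exact hno (((isConj_iff.2 ⟨g⁻¹, hmv.symm⟩ : IsConj t (D.val m))).trans (D.xl_conj h).symm)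
    · obtain ⟨n, hn, e⟩ := yl_class m h
      set k := g * D.val n with hk
      have hcjv : D.val n * D.val yN * (D.val n)⁻¹ = g⁻¹ * t * g⁻¹⁻¹ := by
        rw [← D.val_cj (els_lt hn) yN_lt, e, hmv]
      have k1 : k * D.val yN * k⁻¹ = t := by
        calc k * D.val yN * k⁻¹ = g * (D.val n * D.val yN * (D.val n)⁻¹) * g⁻¹ := by rw [hk]; group
          _ = g * (g⁻¹ * t * g⁻¹⁻¹) * g⁻¹ := by rw [hcjv]
          _ = t := by group
      have k2 : k * t * k⁻¹ = D.val yN := by
        calc k * t * k⁻¹ = g * (D.val n * t) * (D.val n)⁻¹ * g⁻¹ := by rw [hk]; group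
          _ = g * (t * D.val n) * (D.val n)⁻¹ * g⁻¹ := by rw [D.val_comm n (els_lt hn)]
          _ = g * t * g⁻¹ := by group
          _ = _ := hg
      obtain ⟨a, b, ha, hb, hax, hbx, hab, habt, hall, hcomm, htE, hyE⟩ := ey_pair
      have key : ∀ c ∈ ey, c ∈ xl → ∃ d, (d = a ∨ d = b) ∧ D.val d = k * D.val c * k⁻¹ := by
        intro c hc hcx
        have hct := D.val_comm c (ey_lt hc)
        have hcy := D.val_commute (ey_lt hc) yN_lt ((cent_y c (mem_els (ey_lt hc))).2 hc)
        obtain ⟨d, hd, hdv, -⟩ := D.invol_val (u := k * D.val c * k⁻¹)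
          (((MulAut.conj k).orderOf_eq _).trans (D.val_invol (by simp [hcx]))) (by
            have := conj_comm (h := k) hcy
            rwa [k1] at this)
        have hdy : D.val d * D.val yN = D.val yN * D.val d := by
          have := conj_comm (h := k) hct
          rwa [k2, ← hdv] at this
        have hde := (cent_y d (mem_els hd)).1 (D.mul_val_eq hd yN_lt hdy)
        rcases hall d hde with e | e | e | e | e
        · subst e
          rw [D.val_zero, eq_comm, conj_eq_one_iff] at hdv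
          exact absurd (D.val_eq_one (ey_lt hc) hdv) (invol_lists c (by simp [hcx])).2
        · subst e
          rw [D.val_tau] at hdv
          exact absurd ((isConj_iff.2 ⟨k, hdv.symm⟩ : IsConj (D.val c) t).symm.trans
            (D.xl_conj hcx).symm) hno
        · exact absurd ((hy.trans (D.yl_conj e)).trans
            ((isConj_iff.2 ⟨k, hdv.symm⟩ : IsConj (D.val c) (D.val d)).symm.trans
              (D.xl_conj hcx).symm)) hno
        · exact ⟨d, Or.inl e, hdv⟩
        · exact ⟨d, Or.inr e, hdv⟩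
      obtain ⟨a', ha', hav⟩ := key a ha hax
      obtain ⟨b', hb', hbv⟩ := key b hb hbx
      have hne : a' ≠ b' := fun e => hab (D.val_inj _ _ (ey_lt ha) (ey_lt hb) (by
        rw [e, hbv] at hav
        exact (mul_left_cancel (mul_right_cancel hav)).symm))
      have hfin : k * t * k⁻¹ = t := by
        have h1 : t = D.val a * D.val b := by
          rw [← D.val_mul a b (ey_lt ha) (ey_lt hb), habt, D.val_tau]
        conv_lhs => rw [h1, show k * (D.val a * D.val b) * k⁻¹ =
          k * D.val a * k⁻¹ * (k * D.val b * k⁻¹) by group, ← hav, ← hbv]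
        have hba : mulN b a = tN := by rw [hcomm b hb a ha, habt]
        rcases ha' with rfl | rfl <;> rcases hb' with rfl | rfl
        · exact absurd rfl hne
        · exact h1.symm
        · rw [← D.val_mul _ _ (ey_lt hb) (ey_lt ha), hba, D.val_tau]
        · exact absurd rfl hne
      rw [k2] at hfin
      exact (disjoint_lists.2.1 yN reps.2.2.1).2
        (D.val_inj _ _ yN_lt tN_lt (hfin.trans D.val_tau.symm))
  · -- `t` would be isolated
    have hiso : Cfsg.IsIsolatedInvolution t := by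
      refine ⟨D.ord, fun g hg => ?_⟩
      obtain ⟨m, hm, hmv, hcases⟩ := D.conj_cases hg.eq.symm
      rcases hcases with rfl | h | h
      · rw [← hmv, D.val_tau]
      · exact absurd ((isConj_iff.2 ⟨g, hmv.symm⟩ : IsConj t (D.val m)).trans (D.xl_conj h).symm) hno
      · exact absurd ((isConj_iff.2 ⟨g, hmv.symm⟩ : IsConj t (D.val m)).trans (D.yl_conj h).symm) hy
    have hne : t ≠ 1 := fun h => by
      have := D.ord
      rw [h, orderOf_one] at this
      norm_num at this
    have hO : Cfsg.oddCore G = ⊥ := by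
      rcases (inferInstance : (Cfsg.oddCore G).Normal).eq_bot_or_eq_top with h | h
      · exact h
      · have h1 := CfsgLib.Base.oddCore_eq_top_iff.1 h
        have h2 : orderOf t ∣ Nat.card G := orderOf_dvd_natCard t
        rw [D.ord] at h2
        exact absurd (even_iff_two_dvd.2 h2) (Nat.not_even_iff_odd.2 h1)
    have hc := CfsgLib.Involutions.ZStar.mem_center_of_oddCore_eq_bot hiso hO
    rcases (inferInstance : (Subgroup.center G).Normal).eq_bot_or_eq_top with h | h
    · rw [h, Subgroup.mem_bot] at hc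
      exact hne hc
    · exact hG ⟨⟨fun a b => Subgroup.mem_center_iff.1 (h ▸ Subgroup.mem_top b) a⟩⟩

/-- The element of order three acting on the four-group, centralizing `v`. -/
structure Std0 (h : G) : Prop where
  h3 : h ^ 3 = 1
  ht : h * t * h⁻¹ = D.val xN
  hx : h * D.val xN * h⁻¹ = D.val txN
  hv : h * D.val vN = D.val vN * h

theorem val_tx : D.val txN = t * D.val xN := by
  rw [← tau_mul.1, D.val_mul _ _ tN_lt xN_lt, D.val_tau]

/-- A three-cycle gives an element of order three with the same action. -/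
theorem pow_cycle {h₀ : G} (a1 : h₀ * t * h₀⁻¹ = D.val xN)
    (a2 : h₀ * D.val xN * h₀⁻¹ = D.val txN) :
    (h₀ ^ 64) ^ 3 = 1 ∧ h₀ ^ 64 * t * (h₀ ^ 64)⁻¹ = D.val xN ∧
      h₀ ^ 64 * D.val xN * (h₀ ^ 64)⁻¹ = D.val txN := by
  have hxx : D.val xN * D.val xN = 1 := by
    rw [← D.val_mul _ _ xN_lt xN_lt, tau_mul.2.2.1, D.val_zero]
  set c := MulAut.conj h₀ with hc
  have c1 : c t = D.val xN := a1
  have c2 : c (D.val xN) = D.val txN := a2
  have c3 : c (D.val txN) = t := by
    rw [D.val_tx, map_mul, c1, c2, D.val_tx, ← mul_assoc, D.val_comm xN xN_lt, mul_assoc, hxx,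
      mul_one]
  have e3 : ∀ y, h₀ ^ 3 * y * (h₀ ^ 3)⁻¹ = c (c (c y)) := fun y => by
    simp only [hc, MulAut.conj_apply, pow_succ, pow_zero, one_mul]
    group
  obtain ⟨m, hm, hmv⟩ := D.val_surj (h₀ ^ 3) (mul_inv_eq_iff_eq_mul.1 (by rw [e3, c1, c2, c3]))
  have hml : m ∈ rl := (cent_x m (mem_els hm)).1 (D.mul_val_eq hm xN_lt (by
    rw [hmv]
    exact mul_inv_eq_iff_eq_mul.1 (by rw [e3, c2, c3, c1])))
  have h3 : (h₀ ^ 3) ^ 64 = 1 := by
    rw [← hmv, ← D.val_pow hm, rl_facts.2.2.2.2.2.2.2 m hml, D.val_zero]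
  refine ⟨by rw [← pow_mul, mul_comm, pow_mul, h3], ?_⟩
  have hstep : ∀ k : ℕ, ∀ y, h₀ ^ (3 * k) * y * (h₀ ^ (3 * k))⁻¹ = D.val (powN m k) * y *
      (D.val (powN m k))⁻¹ := fun k y => by rw [pow_mul, ← hmv, D.val_pow hm]
  have hfix : ∀ y, D.val m * y = y * D.val m → D.val (powN m 21) * y *
      (D.val (powN m 21))⁻¹ = y := fun y hy => by
    rw [D.val_pow hm, ((show Commute (D.val m) y from hy).pow_left 21).eq, mul_inv_cancel_right]
  have f1 := hfix t (D.val_comm m hm)
  have f2 := hfix (D.val xN) (D.val_commute hm xN_lt ((cent_x m (mem_els hm)).2 hml))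
  have e64 : ∀ y, h₀ ^ 64 * y * (h₀ ^ 64)⁻¹ = c (h₀ ^ (3 * 21) * y * (h₀ ^ (3 * 21))⁻¹) := fun y => by
    rw [hc, MulAut.conj_apply, show h₀ ^ 64 = h₀ * h₀ ^ (3 * 21) by rw [← pow_succ']]
    group
  exact ⟨by rw [e64, hstep, f1, c1], by rw [e64, hstep, f2, c2]⟩

/-- An element permuting `t`, `x`, `t x` cyclically. -/
theorem exists_cycle (hx : IsConj t (D.val xN)) :
    ∃ h : G, h ^ 3 = 1 ∧ h * t * h⁻¹ = D.val xN ∧ h * D.val xN * h⁻¹ = D.val txN := by
  classical
  obtain ⟨g, hg⟩ := isConj_iff.1 hx.symm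
  have hxt := D.val_comm xN xN_lt
  obtain ⟨m, hm, hmv, hcases⟩ := D.conj_cases (g := g) (by
    have := conj_comm (h := g) hxt
    rw [hg] at this
    exact this.symm)
  -- the image of the centralizer of `x`
  have hcl : centLen m = 32 := by
    haveI := Fintype.ofFinite G
    have e : {a : G // a * t = t * a ∧ a * D.val xN = D.val xN * a} ≃
        {a : G // a * t = t * a ∧ a * D.val m = D.val m * a} :=
      { toFun := fun a => ⟨g * a.1 * g⁻¹, by
          refine ⟨?_, ?_⟩
          · have := conj_comm (h := g) a.2.2; rwa [hg] at this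
          · have := conj_comm (h := g) a.2.1; rwa [← hmv] at this⟩
        invFun := fun a => ⟨g⁻¹ * a.1 * g⁻¹⁻¹, by
          refine ⟨?_, ?_⟩
          · have := conj_comm (h := g⁻¹) a.2.2
            have e : g⁻¹ * D.val m * g⁻¹⁻¹ = t := by rw [hmv]; group
            rwa [e] at this
          · have := conj_comm (h := g⁻¹) a.2.1
            have e : g⁻¹ * t * g⁻¹⁻¹ = D.val xN :=
              (congrArg (fun y => g⁻¹ * y * g⁻¹⁻¹) hg).symm.trans (by group)
            rwa [e] at this⟩
        left_inv := fun a => Subtype.ext (by group)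
        right_inv := fun a => Subtype.ext (by group) }
    have hcount : ∀ n, n < 192 →
        Nat.card {a : G // a * t = t * a ∧ a * D.val n = D.val n * a} = centLen n := by
      intro n hn
      rw [centLen, ← D.card_image (l := els.filter fun k => mulN k n == mulN n k)
        (fun k hk => els_lt (List.mem_filter.1 hk).1) (List.nodup_range.filter _)]
      refine Nat.card_congr (Equiv.subtypeEquivRight fun a => ⟨fun ⟨h1, h2⟩ => ?_, ?_⟩)
      · obtain ⟨k, hk, rfl⟩ := D.val_surj a h1
        exact ⟨k, List.mem_filter.2 ⟨mem_els hk, by simp [D.mul_val_eq hk hn h2]⟩, rfl⟩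
      · rintro ⟨k, hk, rfl⟩
        obtain ⟨h1, h2⟩ := List.mem_filter.1 hk
        exact ⟨D.val_comm k (els_lt h1), D.val_commute (els_lt h1) hn (by simpa using h2)⟩
    rw [← hcount m hm, ← Nat.card_congr e, hcount _ xN_lt, cent_lengths.1]
  rcases hcases with rfl | h | h
  · rw [cent_lengths.2.1] at hcl; norm_num at hcl
  · obtain ⟨n, hn, e⟩ := xl_class m h
    set k := (D.val n)⁻¹ * g with hk
    have k1 : k * D.val xN * k⁻¹ = t := by
      calc k * D.val xN * k⁻¹ = (D.val n)⁻¹ * (g * D.val xN * g⁻¹) * D.val n := by rw [hk]; group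
        _ = (D.val n)⁻¹ * (t * D.val n) := by rw [hg, mul_assoc]
        _ = (D.val n)⁻¹ * (D.val n * t) := by rw [D.val_comm n (els_lt hn)]
        _ = t := by group
    have k2 : k * t * k⁻¹ = D.val xN := by
      calc k * t * k⁻¹ = (D.val n)⁻¹ * (g * t * g⁻¹) * D.val n := by rw [hk]; group
        _ = (D.val n)⁻¹ * (D.val n * D.val xN * (D.val n)⁻¹) * D.val n := by
          rw [← D.val_cj (els_lt hn) xN_lt, e, hmv]
        _ = D.val xN := by group
    obtain ⟨s1, -, s3, -⟩ := swap_facts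
    have c1 : k * D.val sN * t * (k * D.val sN)⁻¹ = D.val xN := by
      calc k * D.val sN * t * (k * D.val sN)⁻¹ = k * (D.val sN * t * (D.val sN)⁻¹) * k⁻¹ := by group
        _ = _ := by
          rw [show D.val sN * t * (D.val sN)⁻¹ = t by
            rw [D.val_comm _ sN_lt, mul_inv_cancel_right], k2]
    have c2 : k * D.val sN * D.val xN * (k * D.val sN)⁻¹ = D.val txN := by
      calc k * D.val sN * D.val xN * (k * D.val sN)⁻¹
          = k * (D.val sN * D.val xN * (D.val sN)⁻¹) * k⁻¹ := by group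
        _ = k * D.val txN * k⁻¹ := by rw [← D.val_cj sN_lt xN_lt, s1]
        _ = k * t * k⁻¹ * (k * D.val xN * k⁻¹) := by rw [D.val_tx]; group
        _ = _ := by rw [k1, k2, D.val_tx, D.val_comm xN xN_lt]
    exact ⟨_, D.pow_cycle c1 c2⟩
  · rw [cent_lengths.2.2.2.1 m h] at hcl; norm_num at hcl

/-- Either an element of order three centralizes `v`, or `v` is conjugate to `y`. -/
theorem std_or_conj (hx : IsConj t (D.val xN)) :
    (∃ h, D.Std0 h) ∨ IsConj (D.val vN) (D.val yN) := by
  obtain ⟨h, h3, ht, hh⟩ := D.exists_cycle hx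
  have h' : h * (D.val txN) * h⁻¹ = t := by
    have e : h⁻¹ = h * h := inv_eq_of_mul_eq_one_right (by rw [← h3]; simp [pow_succ, mul_assoc])
    calc h * D.val txN * h⁻¹ = h * (h * D.val xN * h⁻¹) * h⁻¹ := by rw [hh]
      _ = h * (h * (h * t * h⁻¹) * h⁻¹) * h⁻¹ := by rw [ht]
      _ = h ^ 3 * t * (h ^ 3)⁻¹ := by simp [pow_succ, mul_assoc]
      _ = t := by rw [h3]; group
  have hvl := vN_lt
  obtain ⟨u, hu, huv, hcases⟩ := D.invol_val (u := h * D.val vN * h⁻¹)
    (((MulAut.conj h).orderOf_eq _).trans (D.val_invol (by simp [reps.2.2.2.1]))) (by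
      have := conj_comm (h := h) (D.val_commute hvl txN_lt (by
        exact ((cent_v txN (mem_els txN_lt)).2 reps.2.2.2.2.2.2.2.2.1).symm))
      rwa [h'] at this)
  have hux : D.val u * D.val xN = D.val xN * D.val u := by
    have := conj_comm (h := h) (D.val_comm vN hvl)
    rwa [ht, ← huv] at this
  have hurl := (cent_x u (mem_els hu)).1 (D.mul_val_eq hu xN_lt hux)
  have hconj : IsConj (D.val vN) (D.val u) := isConj_iff.2 ⟨h, huv.symm⟩
  rcases hcases with rfl | hu' | hu' | hu'
  · rw [D.val_tau] at hconj; exact absurd hconj.symm D.not_conj_v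
  · exact absurd ((hx.trans (D.xl_conj hu')).trans hconj.symm) D.not_conj_v
  · exact Or.inr (hconj.trans (D.yl_conj hu').symm)
  · -- the coset of `v` is invariant, so it contains a fixed point
    left
    obtain ⟨w, hw, huw⟩ : ∃ w ∈ [0, tN, xN, txN], u = mulN vN w := by
      rcases coset_v.2.1 u hurl hu' with e | e | e | e
      · exact ⟨0, by simp, e.trans ((inv_facts vN (mem_els vN_lt)).2.2.2.1).symm⟩
      · exact ⟨tN, by simp, e⟩
      · exact ⟨xN, by simp, e⟩
      · exact ⟨txN, by simp, e⟩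
    set c := MulAut.conj h with hc
    obtain ⟨z, hz, hzf⟩ : ∃ z ∈ [0, tN, xN, txN],
        c (D.val vN * D.val z) = D.val vN * D.val z := by
      have cv : c (D.val vN) = D.val vN * D.val w := by
        rw [hc, MulAut.conj_apply, ← huv, huw, D.val_mul _ _ vN_lt (by
          simp only [List.mem_cons, List.not_mem_nil, or_false] at hw
          rcases hw with rfl | rfl | rfl | rfl
          exacts [by norm_num, tN_lt, xN_lt, txN_lt])]
      have c0 : c (D.val 0) = D.val 0 := by rw [D.val_zero, map_one]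
      have ct : c (D.val tN) = D.val xN := by rw [D.val_tau]; exact ht
      have cx : c (D.val xN) = D.val txN := hh
      have ctx : c (D.val txN) = D.val tN := by rw [D.val_tau]; exact h'
      have f : ∀ a ∈ [0, tN, xN, txN], ∀ b ∈ [0, tN, xN, txN], a < 192 ∧ mulN a b < 192 := by
        decide +kernel
      have hsplit : ∀ a ∈ [0, tN, xN, txN], ∀ b ∈ [0, tN, xN, txN],
          c (D.val a) = D.val b → mulN w b = a → c (D.val vN * D.val a) = D.val vN * D.val a := by
        intro a ha b hb e1 e2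
        rw [map_mul, cv, e1, mul_assoc, ← D.val_mul _ _ (f w hw b hb).1 (f b hb w hw).1, e2]
      have g : mulN 0 0 = 0 ∧ mulN tN txN = xN ∧ mulN xN tN = txN ∧ mulN txN xN = tN := by
        decide +kernel
      simp only [List.mem_cons, List.not_mem_nil, or_false] at hw
      rcases hw with rfl | rfl | rfl | rfl
      · exact ⟨0, by simp, hsplit 0 (by simp) 0 (by simp) c0 g.1⟩
      · exact ⟨xN, by simp, hsplit xN (by simp) txN (by simp) cx g.2.1⟩
      · exact ⟨txN, by simp, hsplit txN (by simp) tN (by simp) ctx g.2.2.1⟩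
      · exact ⟨tN, by simp, hsplit tN (by simp) xN (by simp) ct g.2.2.2⟩
    have hzl : z < 192 := by
      simp only [List.mem_cons, List.not_mem_nil, or_false] at hz
      rcases hz with rfl | rfl | rfl | rfl
      exacts [by norm_num, tN_lt, xN_lt, txN_lt]
    have hzr : mulN vN z ∈ rl := by
      have : ∀ z ∈ [0, tN, xN, txN], mulN vN z ∈ rl := by decide +kernel
      exact this z hz
    obtain ⟨n, hn, hnc⟩ := coset_v.1 _ hzr (coset_v.2.2.1 z hz)
    have hnl := rl_lt hn
    obtain ⟨n1, n2, n3⟩ := coset_v.2.2.2 n hn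
    have q : ∀ m, m < 192 → cjN n m = m → D.val n * D.val m = D.val m * D.val n := fun m hm e => by
      have := D.val_cj hnl hm
      rw [e] at this
      exact mul_inv_eq_iff_eq_mul.1 this.symm
    have qx := q xN xN_lt n1
    have qt := q tN tN_lt n2
    have qtx := q txN txN_lt n3
    rw [D.val_tau] at qt
    have cf : ∀ {b : G}, D.val n * b = b * D.val n → (D.val n)⁻¹ * b * D.val n = b := fun e => by
      rw [mul_assoc, ← e, inv_mul_cancel_left]
    refine ⟨D.val n * h * (D.val n)⁻¹, ⟨by rw [conj_pow, h3, mul_one, mul_inv_cancel], ?_, ?_, ?_⟩⟩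
    · calc D.val n * h * (D.val n)⁻¹ * t * (D.val n * h * (D.val n)⁻¹)⁻¹
          = D.val n * (h * ((D.val n)⁻¹ * t * D.val n) * h⁻¹) * (D.val n)⁻¹ := by group
        _ = _ := by rw [cf qt, ht, qx, mul_inv_cancel_right]
    · calc D.val n * h * (D.val n)⁻¹ * D.val xN * (D.val n * h * (D.val n)⁻¹)⁻¹
          = D.val n * (h * ((D.val n)⁻¹ * D.val xN * D.val n) * h⁻¹) * (D.val n)⁻¹ := by group
        _ = _ := by rw [cf qx, hh, qtx, mul_inv_cancel_right]
    · have e : D.val n * (D.val vN * D.val z) * (D.val n)⁻¹ = D.val vN := by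
        rw [← D.val_mul _ _ vN_lt hzl, ← D.val_cj hnl (mulN_lt vN_lt hzl), hnc]
      rw [← e]
      exact conj_comm (mul_inv_eq_iff_eq_mul.1 hzf)

end Cen

end CfsgLib.M12Cent
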