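import Cfsg.Agent.Lib.M12Cent.Frame
import Cfsg.Agent.Lib.Small.DihedralRecog
import Cfsg.Agent.S3864

/-!
# The centralizer of `v`

Modulo `v` it is the symmetric group of degree four or five.
-/

set_option autoImplicit false
set_option linter.unusedSectionVars false
set_option linter.style.haveILetI false
set_option maxRecDepth 100000
set_option maxHeartbeats 1000000

namespace CfsgLib.M12Cent

open Cfsg
open CfsgLib.U42 (conj_comm)

universe u

/-- the images in the dihedral group of order eight -/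
def dihT : List (Nat × Bool × Nat) := [(0, false, 0), (1, false, 2), (5, false, 1), (7, false, 3), (56, true, 3), (60, true, 1), (61, true, 2), (63, true, 0), (129, false, 0), (130, false, 1), (131, false, 2), (134, false, 3), (185, true, 3), (186, true, 2), (187, true, 1), (190, true, 0)]

/-- the map onto the dihedral group -/
def dih (m : Nat) : DihedralGroup 4 :=
  match (dihT.find? fun e => e.1 == m).map Prod.snd with
  | some (true, k) => .sr (k : ZMod 4)
  | some (false, k) => .r (k : ZMod 4)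
  | none => 1

theorem dih_facts : (∀ a ∈ rv, ∀ b ∈ rv, dih (mulN a b) = dih a * dih b) ∧
    (∀ a ∈ rv, dih a = 1 → a = 0 ∨ a = vN) ∧ dih vN = 1 ∧ dih 0 = 1 ∧
    (∀ k : DihedralGroup 4, ∃ a ∈ rv, dih a = k) := by decide +kernel

/-- an involution of the centralizer whose coset modulo `v` contains no conjugate of `t` -/
def uN : Nat := 61

theorem uN_facts : uN ∈ rv ∧ uN ∈ vl ∧ mulN uN vN ∈ vl ∧ uN ≠ vN := by decide +kernel

theorem phi_xy : ∃ m ∈ rl, m ∈ xl ∧ appN phiN m ∈ yl := by decide +kernel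

variable {G : Type u} [Group G] [Finite G] {t : G}

namespace Cen

variable (D : Cen t)
include D

/-- The conjugates of `t` in the model. -/
def alist : List Nat := tN :: (xl ++ yl)

theorem rv_comm {m : ℕ} (hm : m ∈ rv) : D.val m * D.val vN = D.val vN * D.val m :=
  D.val_commute (rv_lt hm) vN_lt ((cent_v m (mem_els (rv_lt hm))).2 hm)

theorem val_mem_KV {m : ℕ} (hm : m ∈ rv) : D.val m ∈ D.KV :=
  Subgroup.mem_centralizer_singleton_iff.2 (D.rv_comm hm)

variable {h : G} (hh : D.Std h)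
include hh

theorem Std.conj_x : IsConj t (D.val xN) := isConj_iff.2 ⟨h, hh.ht⟩

theorem Std.conj_y : IsConj t (D.val yN) := by
  obtain ⟨m, hm, hx, hy⟩ := phi_xy
  exact ((hh.conj_x D).trans (D.xl_conj hx)).trans
    ((isConj_iff.2 ⟨h, hh.act m hm⟩).trans (D.yl_conj hy).symm)

theorem Std.conj_t_iff {m : ℕ} (hm : m ∈ tN :: (xl ++ yl ++ vl)) :
    IsConj t (D.val m) ↔ m ∈ alist := by
  constructor
  · intro hc
    simp only [List.mem_cons, List.mem_append] at hm
    rcases hm with rfl | (h1 | h1) | h1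
    · simp [alist]
    · simp [alist, h1]
    · simp [alist, h1]
    · exact absurd hc (D.not_conj_vl h1)
  · intro h1
    simp only [alist, List.mem_cons, List.mem_append] at h1
    rcases h1 with rfl | h1 | h1
    · rw [D.val_tau]
    · exact (hh.conj_x D).trans (D.xl_conj h1)
    · exact (hh.conj_y D).trans (D.yl_conj h1)

theorem Std.conj_v_iff {m : ℕ} (hm : m ∈ tN :: (xl ++ yl ++ vl)) :
    IsConj (D.val vN) (D.val m) ↔ m ∈ vl := by
  constructor
  · intro hc
    by_contra hv
    refine D.not_conj_v (((hh.conj_t_iff D hm).2 ?_).trans hc.symm)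
    simp only [alist, List.mem_cons, List.mem_append] at hm ⊢
    tauto
  · exact D.vl_conj

/-- There are two classes of involutions. -/
theorem Std.two_classes {i : G} (hi : orderOf i = 2) : IsConj t i ∨ IsConj (D.val vN) i := by
  rcases D.invol_fused hi with h1 | h1 | h1 | h1
  exacts [Or.inl h1, Or.inl ((hh.conj_x D).trans h1), Or.inl ((hh.conj_y D).trans h1), Or.inr h1]

/-- The element of order three in the centralizer of `v`. -/
theorem Std.mem_KV : h ∈ D.KV := Subgroup.mem_centralizer_singleton_iff.2 hh.hv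

omit hh

theorem cent_zB_equiv :
    Nonempty (Subgroup.centralizer ({D.zB} : Set D.KB) ≃* DihedralGroup 4) := by
  classical
  choose f hf hfv using fun g : D.rvGrp => g.2
  have hinj : ∀ a b, a ∈ rv → b ∈ rv → D.val a = D.val b → a = b :=
    fun a b ha hb => D.val_inj a b (rv_lt ha) (rv_lt hb)
  let χ : D.rvGrp →* DihedralGroup 4 :=
    { toFun := fun g => dih (f g)
      map_one' := by
        rw [hinj _ 0 (hf _) rv_facts.2.2.1 (by rw [hfv, D.val_zero]; rfl)]
        exact dih_facts.2.2.2.1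
      map_mul' := fun a b => by
        rw [← dih_facts.1 _ (hf a) _ (hf b)]
        congr 1
        refine hinj _ _ (hf _) (rv_facts.2.2.2.2.2.1 _ (hf a) _ (hf b)) ?_
        rw [hfv, D.val_mul _ _ (rv_lt (hf a)) (rv_lt (hf b)), hfv, hfv]
        rfl }
  let ψ : D.rvGrp →* Subgroup.centralizer ({D.zB} : Set D.KB) :=
    { toFun := fun g => ⟨QuotientGroup.mk ⟨g.1, Subgroup.mem_centralizer_singleton_iff.2
        (D.mem_rvGrp.1 g.2).2⟩, Subgroup.mem_centralizer_singleton_iff.2 (by
          rw [zB, ← QuotientGroup.mk_mul, ← QuotientGroup.mk_mul]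
          exact congrArg QuotientGroup.mk (Subtype.ext (D.mem_rvGrp.1 g.2).1))⟩
      map_one' := rfl
      map_mul' := fun a b => rfl }
  have hχ : Function.Surjective χ := fun k => by
    obtain ⟨a, ha, e⟩ := dih_facts.2.2.2.2 k
    refine ⟨⟨D.val a, a, ha, rfl⟩, ?_⟩
    show dih (f _) = k
    rw [hinj _ a (hf _) ha (hfv _), e]
  have hψ : Function.Surjective ψ := by
    rintro ⟨q, hq⟩
    obtain ⟨k, rfl⟩ := QuotientGroup.mk_surjective q
    obtain ⟨m, hm, hmv⟩ := D.exists_rv (D.cent_zB (Subgroup.mem_centralizer_singleton_iff.1 hq))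
    exact ⟨⟨(k : G), m, hm, hmv⟩, rfl⟩
  have hker : ψ.ker = χ.ker := by
    ext g
    rw [MonoidHom.mem_ker, MonoidHom.mem_ker]
    have e1 : ψ g = 1 ↔ (g : G) = 1 ∨ (g : G) = D.val vN := by
      rw [Subtype.ext_iff]
      show (QuotientGroup.mk _ : D.KB) = 1 ↔ _
      rw [QuotientGroup.eq_one_iff, D.mem_zv]
    rw [e1]
    show _ ↔ dih (f g) = 1
    constructor
    · rintro (e | e)
      · rw [hinj _ 0 (hf g) rv_facts.2.2.1 (by rw [hfv, e, D.val_zero])]
        exact dih_facts.2.2.2.1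
      · rw [hinj _ vN (hf g) rv_facts.2.2.2.2.1 (by rw [hfv, e])]
        exact dih_facts.2.2.1
    · intro e
      rcases dih_facts.2.1 _ (hf g) e with e' | e' <;> rw [← hfv g, e']
      · exact Or.inl D.val_zero
      · exact Or.inr rfl
  exact ⟨((QuotientGroup.quotientKerEquivOfSurjective ψ hψ).symm.trans
    (QuotientGroup.quotientMulEquivOfEq hker)).trans
    (QuotientGroup.quotientKerEquivOfSurjective χ hχ)⟩

theorem card_zv : Nat.card (Subgroup.zpowers D.vK) = 2 := by
  rw [Nat.card_zpowers, ← Subgroup.orderOf_coe]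
  exact D.v_invol

theorem card_KV : Nat.card D.KV = 2 * Nat.card D.KB := by
  rw [Subgroup.card_eq_card_quotient_mul_card_subgroup (Subgroup.zpowers D.vK), D.card_zv, mul_comm]

include hh

/-- The image of `x` is not equal to the image of `t`. -/
theorem Std.recog : Nonempty (D.KB ≃* Equiv.Perm (Fin 4)) ∨
    Nonempty (D.KB ≃* Equiv.Perm (Fin 5)) := by
  classical
  haveI : Fact (Nat.Prime 2) := ⟨Nat.prime_two⟩
  obtain ⟨e⟩ := D.cent_zB_equiv
  obtain ⟨S, hS⟩ := CfsgLib.Small.exists_sylow_eq_centralizer D.zB D.zB_ord e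
  have hM : ∃ M : Subgroup D.KB, M.index = 2 := by
    have hdih : Nonempty (↥(S : Subgroup D.KB) ≃* DihedralGroup (2 ^ (3 - 1))) :=
      ⟨(MulEquiv.subgroupCongr hS).trans e⟩
    rcases Cfsg.Agent.S3864.result S 3 le_rfl hdih with ⟨h1, -⟩ | ⟨-, ⟨M, -, hM⟩, -⟩ | ⟨-, hN⟩
    · exfalso
      set u : D.KB := QuotientGroup.mk ⟨D.val uN, D.val_mem_KV uN_facts.1⟩ with hu
      have hu2 : orderOf u = 2 := by
        refine orderOf_eq_prime ?_ ?_
        · rw [hu, ← QuotientGroup.mk_pow, QuotientGroup.eq_one_iff, D.mem_zv]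
          left
          show D.val uN ^ 2 = 1
          rw [pow_two, ← D.val_mul _ _ (rv_lt uN_facts.1) (rv_lt uN_facts.1),
            (invol_lists uN (by simp [uN_facts.2.1])).1, D.val_zero]
        · rw [hu, Ne, QuotientGroup.eq_one_iff, D.mem_zv]
          rintro (e1 | e1)
          · exact (invol_lists uN (by simp [uN_facts.2.1])).2 (D.val_eq_one (rv_lt uN_facts.1) e1)
          · exact uN_facts.2.2.2 (D.val_inj _ _ (rv_lt uN_facts.1) vN_lt e1)
      haveI : Subsingleton {C : ConjClasses D.KB // ∃ g : D.KB, ConjClasses.mk g = C ∧ orderOf g = 2} :=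
        (Nat.card_eq_one_iff_unique.1 h1).1
      have hc := ConjClasses.mk_eq_mk_iff_isConj.1 (congrArg Subtype.val (Subsingleton.elim
        (⟨ConjClasses.mk D.zB, D.zB, rfl, D.zB_ord⟩ :
          {C : ConjClasses D.KB // ∃ g : D.KB, ConjClasses.mk g = C ∧ orderOf g = 2})
        ⟨ConjClasses.mk u, u, rfl, hu2⟩))
      obtain ⟨q, hq⟩ := isConj_iff.1 hc
      obtain ⟨k, rfl⟩ := QuotientGroup.mk_surjective q
      rw [zB, ← QuotientGroup.mk_inv, ← QuotientGroup.mk_mul, ← QuotientGroup.mk_mul, eq_comm,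
        hu, D.mk_eq_iff] at hq
      rcases hq with hq | hq
      · exact D.not_conj_vl uN_facts.2.1 (isConj_iff.2 ⟨(k : G), hq⟩)
      · refine D.not_conj_vl uN_facts.2.2.1 (isConj_iff.2 ⟨(k : G), hq.trans ?_⟩)
        rw [D.val_mul _ _ (rv_lt uN_facts.1) vN_lt]
    · exact ⟨M, hM⟩
    · obtain ⟨P, N, hNn, hNc⟩ := hN
      have hP : Nat.card (P : Subgroup D.KB) = 8 := by
        rw [← Nat.card_congr (Sylow.equiv S P).toEquiv, hS]
        exact CfsgLib.Small.card_centralizer_eq_eight D.zB D.zB_ord e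
      haveI := hNn
      have h8 : Nat.card (D.KB ⧸ N) = 8 := by
        rw [← Subgroup.index_eq_card, hNc.symm.index_eq_card, hP]
      obtain ⟨H, hH⟩ := Sylow.exists_subgroup_card_pow_prime 2 (n := 2)
        (show 2 ^ 2 ∣ Nat.card (D.KB ⧸ N) by rw [h8]; norm_num)
      refine ⟨H.comap (QuotientGroup.mk' N), ?_⟩
      rw [Subgroup.index_comap_of_surjective _ (QuotientGroup.mk'_surjective N)]
      have := H.card_mul_index
      rw [hH, h8] at this
      norm_num at this
      omega
  obtain ⟨M, hM⟩ := hM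
  refine (CfsgLib.Small.recognition_of_index_two D.zB D.zB_ord e hM).resolve_left fun htop => ?_
  set hb : D.KB := QuotientGroup.mk ⟨h, hh.mem_KV D⟩ with hhb
  have hmem : hb ∈ (Cfsg.oddCore D.KB ⊔ Subgroup.centralizer ({D.zB} : Set D.KB) : Subgroup D.KB) := by
    rw [sup_comm, htop]; exact Subgroup.mem_top _
  obtain ⟨o, ho, c, hc, hoc⟩ := Subgroup.mem_sup_of_normal_left.1 hmem
  set xb : D.KB := QuotientGroup.mk ⟨D.val xN, D.val_mem_KV reps.2.2.2.2.2.2.2.1⟩ with hxb
  have e1 : hb * D.zB * hb⁻¹ = xb := by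
    rw [hhb, zB, hxb, ← QuotientGroup.mk_inv, ← QuotientGroup.mk_mul, ← QuotientGroup.mk_mul]
    exact congrArg QuotientGroup.mk (Subtype.ext hh.ht)
  have e2 : xb * D.zB = o * (D.zB * o⁻¹ * D.zB⁻¹) := by
    have hzz : D.zB⁻¹ = D.zB := inv_eq_of_mul_eq_one_right (by
      rw [← pow_two, ← D.zB_ord, pow_orderOf_eq_one])
    calc xb * D.zB = o * (c * D.zB) * c⁻¹ * o⁻¹ * D.zB := by rw [← e1, ← hoc]; group
      _ = o * (D.zB * c) * c⁻¹ * o⁻¹ * D.zB⁻¹ := by
        rw [Subgroup.mem_centralizer_singleton_iff.1 hc, hzz]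
      _ = _ := by group
  have hin : xb * D.zB ∈ Cfsg.oddCore D.KB := e2 ▸
    mul_mem ho ((inferInstance : (Cfsg.oddCore D.KB).Normal).conj_mem _ (inv_mem ho) _)
  have hsq : (xb * D.zB) ^ 2 = 1 := by
    rw [pow_two, hxb, zB, ← QuotientGroup.mk_mul, ← QuotientGroup.mk_mul, QuotientGroup.eq_one_iff,
      D.mem_zv]
    left
    show D.val xN * t * (D.val xN * t) = 1
    rw [D.val_comm xN xN_lt, mul_assoc, ← mul_assoc (D.val xN) t, D.val_comm xN xN_lt,
      mul_assoc t (D.val xN), ← D.val_mul _ _ xN_lt xN_lt, tau_mul.2.2.1, D.val_zero, mul_one, D.tt]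
  have hodd : Odd (orderOf (xb * D.zB)) := (CfsgLib.Base.odd_card_oddCore D.KB).of_dvd_nat (by
    rw [← Subgroup.orderOf_mk _ hin]; exact orderOf_dvd_natCard _)
  have h1 := orderOf_eq_one_iff.1
    ((Nat.coprime_two_right.2 hodd).eq_one_of_dvd (orderOf_dvd_of_pow_eq_one hsq))
  rw [hxb, zB, ← QuotientGroup.mk_mul, QuotientGroup.eq_one_iff, D.mem_zv] at h1
  have e3 : D.val xN * t = D.val txN := by rw [D.val_comm xN xN_lt, D.val_tx]
  rcases h1 with h1 | h1
  · exact (invol_lists txN (by simp [reps.2.1])).2 (D.val_eq_one txN_lt (e3.symm.trans h1))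
  · exact (disjoint_lists.1 txN reps.2.1).2.1 ((D.val_inj _ _ txN_lt vN_lt (e3.symm.trans h1)) ▸ reps.2.2.2.1)

end Cen

end CfsgLib.M12Cent
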