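import Cfsg.Agent.Lib.M12Cent.Rels

/-!
# A simple group with this centralizer is unique

It is an image of the presented group, in which the subgroup of the centralizer has index at most
`495`.
-/

set_option autoImplicit false
set_option linter.unusedSectionVars false
set_option maxRecDepth 100000

namespace CfsgLib.M12Cent

open Cfsg
open scoped Pointwise
open CfsgLib.U42 (conj_comm)
open CfsgLib.J1Unique (PG pg toG toG_pg presModel wv wv_cons wv_nil)

universe u v

theorem cert_facts : (∀ w ∈ Good.cert.rels, ∀ x ∈ w, x < Good.cert.g) ∧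
    (∀ x < Good.cert.g, Good.cert.iv x < Good.cert.g ∧
      ([x, Good.cert.iv x] ∈ Good.cert.rels ∨ [Good.cert.iv x, x] ∈ Good.cert.rels)) ∧
    Good.cert.g = 7 ∧ Good.cert.n = 495 ∧ (∀ r ∈ Good.cert.subs, ∃ x ∈ List.range 4, r = [x]) := by
  decide +kernel

theorem bad_facts : (∀ w ∈ Bad.cert.rels, ∀ x ∈ w, x < Bad.cert.g) ∧
    (∀ x < Bad.cert.g, Bad.cert.iv x < Bad.cert.g ∧
      ([x, Bad.cert.iv x] ∈ Bad.cert.rels ∨ [Bad.cert.iv x, x] ∈ Bad.cert.rels)) ∧
    Bad.cert.g = 7 ∧ Bad.cert.n = 1 ∧ (∀ r ∈ Bad.cert.subs, ∃ x ∈ List.range 4, r = [x]) := by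
  decide +kernel

theorem gen_words : ∀ m ∈ els, evalW (wordsC.getD m []) = m ∧ ∀ x ∈ wordsC.getD m [], x < 4 := by
  decide +kernel

/-- The presented group. -/
abbrev PM : Type := PG Good.cert.g Good.cert.rels

/-- The subgroup of the letters of the centralizer. -/
noncomputable def subM : Subgroup PM :=
  Subgroup.closure {q | ∃ x < 4, pg Good.cert.g Good.cert.rels x = q}

theorem index_subM : subM.index ≤ 495 ∧ subM.FiniteIndex := by
  obtain ⟨h, h'⟩ := PresCert.Cert.index_le (presModel Good.cert cert_facts.1 cert_facts.2.1 subM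
    (fun r hr => by
      obtain ⟨x, hx, rfl⟩ := cert_facts.2.2.2.2 r hr
      rw [wv_cons, wv_nil, mul_one]
      exact Subgroup.subset_closure ⟨x, List.mem_range.1 hx, rfl⟩)) Good.valid
  exact ⟨h.trans_eq cert_facts.2.2.2.1, h'⟩

/-- The subgroup of the letters in the collapsing presentation. -/
noncomputable def subB : Subgroup (PG Bad.cert.g Bad.cert.rels) :=
  Subgroup.closure {q | ∃ x < 4, pg Bad.cert.g Bad.cert.rels x = q}

theorem subB_top : subB = ⊤ := by
  obtain ⟨h, h'⟩ := PresCert.Cert.index_le (presModel Bad.cert bad_facts.1 bad_facts.2.1 subB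
    (fun r hr => by
      obtain ⟨x, hx, rfl⟩ := bad_facts.2.2.2.2 r hr
      rw [wv_cons, wv_nil, mul_one]
      exact Subgroup.subset_closure ⟨x, List.mem_range.1 hx, rfl⟩)) Bad.valid
  exact Subgroup.index_eq_one.1 (le_antisymm (h.trans_eq bad_facts.2.2.2.1)
    (Nat.one_le_iff_ne_zero.2 h'.index_ne_zero))

variable {G : Type u} [Group G] [Finite G] {t : G}

namespace Cen

variable (D : Cen t)
include D

variable {h f : G} (hh : D.Std h) (hf : D.Fr h f)
include hh hf

theorem good_rels : ∀ w ∈ Good.cert.rels, wv (D.lets h f) w = 1 := by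
  refine (D.rels_hold hh hf).resolve_right fun hb => ?_
  set φ := toG Bad.cert.g Bad.cert.rels (D.lets h f) bad_facts.1 hb
  have hle : subB ≤ (Subgroup.centralizer ({t} : Set G)).comap φ := by
    rw [subB, Subgroup.closure_le]
    rintro _ ⟨x, hx, rfl⟩
    show φ _ ∈ Subgroup.centralizer ({t} : Set G)
    rw [toG_pg _ _ _ (by rw [bad_facts.2.2.1]; omega), D.lets_of hx]
    exact D.mem_cent_iff.2 ⟨_, word_vals.1 x (List.mem_range.2 hx), rfl⟩
  rw [subB_top] at hle
  have h4 := hle (Subgroup.mem_top (pg Bad.cert.g Bad.cert.rels 4))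
  rw [Subgroup.mem_comap, toG_pg _ _ _ (by rw [bad_facts.2.2.1]; norm_num)] at h4
  exact hh.not_cent D (Subgroup.mem_centralizer_singleton_iff.1 h4)

/-- The map from the presented group. -/
noncomputable def phi : PM →* G :=
  toG Good.cert.g Good.cert.rels (D.lets h f) cert_facts.1 (D.good_rels hh hf)

theorem phi_pg {x : ℕ} (hx : x < 7) :
    D.phi hh hf (pg Good.cert.g Good.cert.rels x) = D.lets h f x :=
  toG_pg _ _ _ (cert_facts.2.2.1.symm ▸ hx)

theorem val_mem_map {m : ℕ} (hm : m < 192) : ∃ q ∈ subM, D.phi hh hf q = D.val m := by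
  have key : ∀ w : List ℕ, (∀ x ∈ w, x < 4) → ∃ q ∈ subM, D.phi hh hf q = D.val (evalW w) := by
    intro w
    induction w with
    | nil => exact fun _ => ⟨1, one_mem _, by rw [map_one, evalW, D.val_zero]⟩
    | cons x w ih =>
      intro hw
      have hx := hw x (List.mem_cons_self ..)
      have hw' : ∀ y ∈ w, y < 4 := fun y hy => hw y (List.mem_cons_of_mem _ hy)
      obtain ⟨q, hq, e⟩ := ih hw'
      refine ⟨_, mul_mem (Subgroup.subset_closure ⟨x, hx, rfl⟩) hq, ?_⟩
      rw [map_mul, e, D.phi_pg hh hf (by omega), D.lets_of hx, evalW,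
        D.val_mul _ _ (word_vals.1 x (List.mem_range.2 hx)) (evalW_lt hw')]
  obtain ⟨h1, h2⟩ := gen_words m (mem_els hm)
  obtain ⟨q, hq, e⟩ := key _ h2
  exact ⟨q, hq, by rw [e, h1]⟩

theorem phi_surjective [IsSimpleGroup G] : Function.Surjective (D.phi hh hf) := by
  haveI : Fact (Nat.Prime 2) := ⟨Nat.prime_two⟩
  rw [← MonoidHom.range_eq_top]
  set R := (D.phi hh hf).range with hR
  have hC : Subgroup.centralizer ({t} : Set G) ≤ R := fun c hc => by
    obtain ⟨m, hm, rfl⟩ := D.mem_cent_iff.1 hc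
    obtain ⟨q, -, e⟩ := D.val_mem_map hh hf hm
    exact ⟨q, e⟩
  have hhR : h ∈ R := ⟨_, D.phi_pg hh hf (x := 4) (by norm_num)⟩
  have hfR : f ∈ R := ⟨_, D.phi_pg hh hf (x := 6) (by norm_num)⟩
  have hval : ∀ m, m < 192 → D.val m ∈ R := fun m hm => hC (D.mem_cent_iff.2 ⟨m, hm, rfl⟩)
  have hK : D.KV ≤ R := hf.gen R (fun m hm => hval m (rv_lt hm)) hhR hfR
  have htR : t ∈ R := hC (Subgroup.mem_centralizer_singleton_iff.2 rfl)
  -- the conjugators of the representatives lie in `R`
  have hrep : ∀ m, m < 192 → m ∈ tN :: (xl ++ yl ++ vl) →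
      ∃ g ∈ R, g * t * g⁻¹ = D.val m ∨ g * D.val vN * g⁻¹ = D.val m := by
    intro m hm hm'
    simp only [List.mem_cons, List.mem_append] at hm'
    rcases hm' with rfl | (h1 | h1) | h1
    · exact ⟨1, one_mem _, Or.inl (by rw [D.val_tau]; group)⟩
    · obtain ⟨n, hn, e⟩ := xl_class m h1
      refine ⟨D.val n * h, mul_mem (hval n (els_lt hn)) hhR, Or.inl ?_⟩
      rw [← e, D.val_cj (els_lt hn) xN_lt, ← hh.ht]
      group
    · obtain ⟨a, ha, hax, hay⟩ := phi_xy
      obtain ⟨n, hn, e⟩ := xl_class a hax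
      obtain ⟨n', hn', e'⟩ := yl_class _ hay
      obtain ⟨k, hk, ek⟩ := yl_class m h1
      refine ⟨D.val k * (D.val n')⁻¹ * h * D.val n * h,
        mul_mem (mul_mem (mul_mem (mul_mem (hval k (els_lt hk)) (inv_mem (hval n' (els_lt hn')))) hhR)
          (hval n (els_lt hn))) hhR, Or.inl ?_⟩
      calc D.val k * (D.val n')⁻¹ * h * D.val n * h * t *
            (D.val k * (D.val n')⁻¹ * h * D.val n * h)⁻¹
          = D.val k * ((D.val n')⁻¹ * (h * (D.val n * (h * t * h⁻¹) * (D.val n)⁻¹) * h⁻¹) *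
              D.val n') * (D.val k)⁻¹ := by group
        _ = D.val k * ((D.val n')⁻¹ * D.val (appN phiN a) * D.val n') * (D.val k)⁻¹ := by
          rw [hh.ht, ← D.val_cj (els_lt hn) xN_lt, e, hh.act a ha]
        _ = D.val k * D.val yN * (D.val k)⁻¹ := by
          rw [← e', D.val_cj (els_lt hn') yN_lt]; group
        _ = _ := by rw [← D.val_cj (els_lt hk) yN_lt, ek]
    · obtain ⟨n, hn, e⟩ := vl_class m h1
      exact ⟨D.val n, hval n (els_lt hn), Or.inr (by rw [← e, D.val_cj (els_lt hn) vN_lt])⟩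
  refine eq_top_of_strong D.ord D.v_invol htR (hval vN vN_lt) D.not_conj_v fun i hi hi2 => ?_
  -- a Sylow subgroup of the centralizer of `t` is one of `R`
  obtain ⟨P, hP⟩ := D.exists_sylow
  have hPR : (P : Subgroup G) ≤ R := by
    rw [hP]
    rintro _ ⟨m, hm, rfl⟩
    exact hval m (syl_lt hm)
  obtain ⟨Q, hQ⟩ := (IsPGroup.of_card (n := 1) (show Nat.card (Subgroup.zpowers (⟨i, hi⟩ : R)) = 2 ^ 1 by
    rw [Nat.card_zpowers, ← Subgroup.orderOf_coe, pow_one]; exact hi2)).exists_le_sylow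
  obtain ⟨k, hk⟩ := MulAction.exists_smul_eq R Q (P.subtype hPR)
  have hmem : (k : G) * i * (k : G)⁻¹ ∈ sylGrp D := by
    have h1 : MulAut.conj k • (⟨i, hi⟩ : R) ∈ MulAut.conj k • (Q : Subgroup R) :=
      Subgroup.smul_mem_pointwise_smul _ _ _ (hQ (Subgroup.mem_zpowers _))
    rw [← Sylow.coe_subgroup_smul, hk] at h1
    rw [← hP]
    exact h1
  obtain ⟨m, hm, hmv⟩ := hmem
  have hml : m < 192 := syl_lt hm
  obtain ⟨n, hn, hnv, hcases⟩ := D.invol_val (u := D.val m)
    (by rw [hmv]; exact ((MulAut.conj (k : G)).orderOf_eq i).trans hi2) (D.val_comm m hml)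
  obtain rfl := D.val_inj n m hn hml hnv
  obtain ⟨g, hg, hgm⟩ := hrep n hn (by rcases hcases with e | e | e | e <;> simp [e])
  intro c hc
  have key : ∀ j : G, Subgroup.centralizer ({j} : Set G) ≤ R → g * j * g⁻¹ = D.val n → c ∈ R := by
    intro j hj e
    set a := g⁻¹ * (k : G) with ha
    have haR : a ∈ R := mul_mem (inv_mem hg) k.2
    have ej : a * i * a⁻¹ = j := by
      calc a * i * a⁻¹ = g⁻¹ * ((k : G) * i * (k : G)⁻¹) * g := by rw [ha]; group
        _ = g⁻¹ * (g * j * g⁻¹) * g := by rw [← hmv, e]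
        _ = j := by group
    have hcj := conj_comm (h := a) (Subgroup.mem_centralizer_singleton_iff.1 hc)
    rw [ej] at hcj
    have := mul_mem (mul_mem (inv_mem haR) (hj (Subgroup.mem_centralizer_singleton_iff.2 hcj))) haR
    rwa [show a⁻¹ * (a * c * a⁻¹) * a = c by group] at this
  rcases hgm with e | e
  · exact key t hC e
  · exact key _ hK e

/-- Both maps agree on the subgroup of the centralizer. -/
theorem phi_sub {H : Type v} [Group H] [Finite H] {s : H} (E : Cen s) {k : H} (hk : E.Std k)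
    {l : H} (hl : E.Fr k l) {q : PM} (hq : q ∈ subM) :
    ∃ m < 192, D.phi hh hf q = D.val m ∧ E.phi hk hl q = E.val m := by
  induction hq using Subgroup.closure_induction with
  | mem q hq =>
    obtain ⟨x, hx, rfl⟩ := hq
    exact ⟨_, word_vals.1 x (List.mem_range.2 hx),
      (D.phi_pg hh hf (by omega)).trans (D.lets_of hx),
      (E.phi_pg hk hl (by omega)).trans (E.lets_of hx)⟩
  | one => exact ⟨0, by norm_num, by rw [map_one, D.val_zero], by rw [map_one, E.val_zero]⟩
  | mul a b _ _ ha hb =>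
    obtain ⟨m, hm, e1, e2⟩ := ha
    obtain ⟨n, hn, f1, f2⟩ := hb
    exact ⟨mulN m n, mulN_lt hm hn, by rw [map_mul, e1, f1, D.val_mul m n hm hn],
      by rw [map_mul, e2, f2, E.val_mul m n hm hn]⟩
  | inv a _ ha =>
    obtain ⟨m, hm, e1, e2⟩ := ha
    exact ⟨invN m, invN_lt hm, by rw [map_inv, e1, D.val_inv hm],
      by rw [map_inv, e2, E.val_inv hm]⟩

/-- In a group of order `95040` the subgroup of the letters is the whole preimage of the
centralizer. -/
theorem comap_cent [IsSimpleGroup G] (hG : Nat.card G = 95040) :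
    (Subgroup.centralizer ({t} : Set G)).comap (D.phi hh hf) = subM := by
  have hle : subM ≤ (Subgroup.centralizer ({t} : Set G)).comap (D.phi hh hf) := by
    rw [subM, Subgroup.closure_le]
    rintro _ ⟨x, hx, rfl⟩
    show D.phi hh hf _ ∈ Subgroup.centralizer ({t} : Set G)
    rw [D.phi_pg hh hf (by omega), D.lets_of hx]
    exact D.mem_cent_iff.2 ⟨_, word_vals.1 x (List.mem_range.2 hx), rfl⟩
  have hi : ((Subgroup.centralizer ({t} : Set G)).comap (D.phi hh hf)).index = 495 := by
    rw [Subgroup.index_comap_of_surjective _ (D.phi_surjective hh hf)]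
    have h := (Subgroup.centralizer ({t} : Set G)).card_mul_index
    rw [D.card_cent, hG] at h
    omega
  haveI := index_subM.2
  refine le_antisymm ?_ hle
  by_contra hne
  have h1 := Subgroup.relIndex_mul_index hle
  have h3 := index_subM.2.index_ne_zero
  have h4 := index_subM.1
  have h2 : subM.relIndex ((Subgroup.centralizer ({t} : Set G)).comap (D.phi hh hf)) ≠ 1 :=
    fun e => hne (Subgroup.relIndex_eq_one.1 e)
  rw [hi] at h1
  rcases Nat.lt_or_gt_of_ne h2 with h | h
  · rw [Nat.lt_one_iff.1 h, zero_mul] at h1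
    exact h3 h1.symm
  · have : 2 * 495 ≤ subM.index := by rw [← h1]; exact Nat.mul_le_mul_right _ h
    omega

end Cen

/-- **Uniqueness**: a non-abelian simple group with this centralizer is isomorphic to one of order
`95040`. -/
theorem unique {G : Type u} [Group G] [Finite G] [IsSimpleGroup G] (hG : ¬ IsMulCommutative G)
    {H : Type v} [Group H] [Finite H] [IsSimpleGroup H] (hH : ¬ IsMulCommutative H)
    (hcard : Nat.card H = 95040) {t : G} (D₀ : Cen t) {s : H} (E₀ : Cen s) :
    Nonempty (G ≃* H) := by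
  obtain ⟨D, h, hh⟩ := D₀.exists_std hG
  obtain ⟨E, k, hk⟩ := E₀.exists_std hH
  obtain ⟨f, hf⟩ := hh.exists_fr D
  obtain ⟨l, hl⟩ := hk.exists_fr E
  have hle : (E.phi hk hl).ker ≤ (D.phi hh hf).ker := by
    intro q hq
    have hqU : q ∈ subM := by
      rw [← E.comap_cent hk hl hcard, Subgroup.mem_comap, MonoidHom.mem_ker.1 hq]
      exact one_mem _
    obtain ⟨m, hm, e1, e2⟩ := D.phi_sub hh hf E hk hl hqU
    rw [MonoidHom.mem_ker] at hq ⊢
    rw [e1, E.val_eq_one hm (e2.symm.trans hq), D.val_zero]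
  set ψ : H ≃* PM ⧸ (E.phi hk hl).ker :=
    (QuotientGroup.quotientKerEquivOfSurjective _ (E.phi_surjective hk hl)).symm with hψ
  set χ : H →* G := (QuotientGroup.lift (E.phi hk hl).ker (D.phi hh hf) hle).comp ψ.toMonoidHom
  have hsurj : Function.Surjective χ := by
    intro g
    obtain ⟨q, rfl⟩ := D.phi_surjective hh hf g
    exact ⟨ψ.symm (QuotientGroup.mk q), by simp [χ]⟩
  have hinj : Function.Injective χ := by
    rw [← MonoidHom.ker_eq_bot_iff]
    rcases (inferInstance : χ.ker.Normal).eq_bot_or_eq_top with e | e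
    · exact e
    · exfalso
      obtain ⟨x, hx⟩ := hsurj t
      have : χ x = 1 := MonoidHom.mem_ker.1 (e ▸ Subgroup.mem_top x)
      rw [this] at hx
      have := D.ord
      rw [← hx, orderOf_one] at this
      norm_num at this
  exact ⟨(MulEquiv.ofBijective χ ⟨hinj, hsurj⟩).symm⟩

end CfsgLib.M12Cent
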