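import Cfsg.Agent.Lib.M12Cent.Five
import Cfsg.Agent.Lib.M12Cent.GoodCert
import Cfsg.Agent.Lib.M12Cent.BadCert
import Cfsg.Agent.Lib.J1Unique.Pres

/-!
# The relators hold
-/

set_option autoImplicit false
set_option linter.unusedSectionVars false
set_option maxRecDepth 100000

namespace CfsgLib.M12Cent

open Cfsg
open CfsgLib.J1Unique (wv wv_append wv_cons wv_nil)

universe u

/-- the letters in the model -/
def letM : List ℕ := [aN, invN aN, bN, invN bN]

/-- the value of a word in the model -/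
def evalW : List ℕ → ℕ
  | [] => 0
  | x :: w => mulN (letM.getD x 0) (evalW w)

/-- the relators of the centralizer -/
def crels : List (List ℕ) := [[0, 1], [2, 3], [0, 0, 0, 0], [3, 1, 3, 0, 3, 1, 3, 0],
  [2, 0, 3, 0, 3, 0, 3, 0, 2], [1, 3, 0, 0, 3, 1, 1, 3, 1]]

/-- the words giving the action -/
def actW : List (List ℕ × List ℕ) := [([0], [3, 1, 2, 1, 3, 1]), ([2, 2, 2], [1, 1]),
  ([3, 0, 0, 2], [3, 1, 3, 3, 0, 3, 1]), ([2, 0, 3, 0, 2], [3, 3, 3, 1])]

theorem word_vals : (∀ x ∈ List.range 4, letM.getD x 0 < 192) ∧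
    (∀ w ∈ crels, evalW w = 0 ∧ ∀ x ∈ w, x < 4) ∧
    (∀ e ∈ actW, evalW e.1 ∈ rl ∧ invN (appN phiN (evalW e.1)) = evalW e.2 ∧
      (∀ x ∈ e.1, x < 4) ∧ ∀ x ∈ e.2, x < 4) ∧
    evalW [0, 2, 2, 1, 3] = sN ∧ evalW [2, 0, 3, 3, 1] = sN ∧ evalW [2, 0, 3, 1, 2] = vN ∧
    evalW [3, 0, 2, 1, 3] = vN ∧ evalW [0, 3, 1, 3] = s3N ∧ evalW [2, 0, 2, 1] = s3N ∧
    evalW [1, 3, 1] = cN ∧ evalW [0, 2, 0] = invN cN ∧ invN s3N = s3N := by
  decide +kernel

/-- the relators other than the last -/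
def crels' : List (List ℕ) := crels ++ [[4, 5], [4, 4, 4],
  [0, 2, 2, 1, 3] ++ [4] ++ [2, 0, 3, 3, 1] ++ [4], [6, 6],
  [6] ++ [0, 2, 2, 1, 3] ++ [6] ++ [2, 0, 3, 3, 1],
  [6] ++ [5] ++ [0, 2, 2, 1, 3] ++ [6] ++ [2, 0, 3, 3, 1] ++ [4],
  [6] ++ [2, 0, 3, 1, 2] ++ [6] ++ [3, 0, 2, 1, 3],
  [0, 3, 1, 3] ++ [6] ++ [0, 3, 1, 3] ++ [6] ++ [0, 3, 1, 3] ++ [6]] ++
  actW.map fun e => [4] ++ e.1 ++ [5] ++ e.2

theorem rels_split : (∀ w ∈ Good.cert.rels,
      w ∈ crels' ∨ w = [0, 2, 0] ++ [6] ++ [0, 3, 1, 3] ++ [1, 3, 1] ++ [2, 0, 2, 1] ++ [6]) ∧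
    (∀ w ∈ Bad.cert.rels,
      w ∈ crels' ∨ w = [0, 2, 0] ++ [6] ++ [0, 3, 1, 3] ++ [1, 3, 1] ++ [6] ++ [0, 3, 1, 3]) := by
  decide +kernel

theorem evalW_lt : ∀ {w : List ℕ}, (∀ x ∈ w, x < 4) → evalW w < 192
  | [], _ => by norm_num [evalW]
  | x :: w, h => mulN_lt (word_vals.1 x (List.mem_range.2 (h x (List.mem_cons_self ..))))
      (evalW_lt fun y hy => h y (List.mem_cons_of_mem _ hy))

variable {G : Type u} [Group G] [Finite G] {t : G}

namespace Cen

variable (D : Cen t)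
include D

/-- the letters in the group -/
def lets (h f : G) : ℕ → G
  | 4 => h
  | 5 => h⁻¹
  | 6 => f
  | x => D.val (letM.getD x 0)

theorem lets_of {h f : G} {x : ℕ} (hx : x < 4) : D.lets h f x = D.val (letM.getD x 0) := by
  interval_cases x <;> rfl

theorem wv_word (h f : G) : ∀ {w : List ℕ}, (∀ x ∈ w, x < 4) →
    wv (D.lets h f) w = D.val (evalW w)
  | [], _ => by rw [wv_nil, evalW, D.val_zero]
  | x :: w, hw => by
    have hx := hw x (List.mem_cons_self ..)
    have hw' : ∀ y ∈ w, y < 4 := fun y hy => hw y (List.mem_cons_of_mem _ hy)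
    rw [wv_cons, wv_word h f hw', D.lets_of hx, evalW,
      D.val_mul _ _ (word_vals.1 x (List.mem_range.2 hx)) (evalW_lt hw')]

/-- The relators other than the last hold. -/
theorem crels_hold {h : G} (hh : D.Std h) {f : G} (hf : D.Fr h f) :
    ∀ w ∈ crels', wv (D.lets h f) w = 1 := by
  obtain ⟨-, ec, ea, es, es', ev, ev', e3, -⟩ := word_vals
  have l4 : wv (D.lets h f) [4] = h := by rw [wv_cons, wv_nil, mul_one]; rfl
  have l5 : wv (D.lets h f) [5] = h⁻¹ := by rw [wv_cons, wv_nil, mul_one]; rfl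
  have l6 : wv (D.lets h f) [6] = f := by rw [wv_cons, wv_nil, mul_one]; rfl
  have hw : ∀ {w : List ℕ}, (∀ x ∈ w, x < 4) → wv (D.lets h f) w = D.val (evalW w) :=
    fun hx => D.wv_word h f hx
  have ss := D.ss
  intro w hw'
  simp only [crels', List.mem_append, List.mem_cons, List.not_mem_nil, or_false, List.mem_map] at hw'
  rcases hw' with (h1 | h1) | ⟨e, he, rfl⟩
  · rw [hw (ec w h1).2, (ec w h1).1, D.val_zero]
  · rcases h1 with rfl | rfl | rfl | rfl | rfl | rfl | rfl | rfl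
    · show h * (h⁻¹ * 1) = 1
      rw [mul_one, mul_inv_cancel]
    · show h * (h * (h * 1)) = 1
      rw [mul_one, ← mul_assoc, ← hh.h3]
      simp [pow_succ]
    · simp only [wv_append]
      rw [l4, hw (by decide), hw (by decide), es, es']
      rw [show D.val sN * h * D.val sN * h = (D.val sN * h * D.val sN) * h by group, hh.hs,
        inv_mul_cancel]
    · show f * (f * 1) = 1
      rw [mul_one, hf.ff]
    · simp only [wv_append]
      rw [l6, hw (by decide), hw (by decide), es, es']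
      rw [hf.fs, mul_assoc (D.val sN * f) f, ← mul_assoc, mul_assoc (D.val sN) f f, hf.ff, mul_one, ss]
    · simp only [wv_append]
      rw [l6, l5, l4, hw (by decide), hw (by decide), es, es']
      calc f * h⁻¹ * D.val sN * f * D.val sN * h = f * (h⁻¹ * D.val sN) * f * D.val sN * h := by group
        _ = h⁻¹ * D.val sN * f * f * D.val sN * h := by rw [hf.f2]
        _ = h⁻¹ * (D.val sN * (f * f) * D.val sN) * h := by group
        _ = 1 := by rw [hf.ff, mul_one, ss]; group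
    · simp only [wv_append]
      rw [l6, hw (by decide), hw (by decide), ev, ev', hf.fv, mul_assoc (D.val vN) f f, hf.ff,
        mul_one, D.vv]
    · simp only [wv_append]
      rw [l6, hw (by decide), e3, ← hf.f3]
      simp [pow_succ, mul_assoc]
  · obtain ⟨h1, h2, h3, h4⟩ := ea e he
    simp only [wv_append]
    rw [l4, l5, hw h3, hw h4, hh.act _ h1, ← h2,
      D.val_inv (rl_lt (phi_facts _ h1).1), mul_inv_cancel]

/-- The relators of one of the two certificates hold. -/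
theorem rels_hold {h : G} (hh : D.Std h) {f : G} (hf : D.Fr h f) :
    (∀ w ∈ Good.cert.rels, wv (D.lets h f) w = 1) ∨ (∀ w ∈ Bad.cert.rels, wv (D.lets h f) w = 1) := by
  obtain ⟨-, -, -, -, -, -, -, e3, e3', ec, ec', ei⟩ := word_vals
  have l6 : wv (D.lets h f) [6] = f := by rw [wv_cons, wv_nil, mul_one]; rfl
  have hw : ∀ {w : List ℕ}, (∀ x ∈ w, x < 4) → wv (D.lets h f) w = D.val (evalW w) :=
    fun hx => D.wv_word h f hx
  have hfi : f⁻¹ = f := inv_eq_of_mul_eq_one_right hf.ff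
  have h3i : (D.val s3N)⁻¹ = D.val s3N := by
    rw [← D.val_inv (lt_named (by simp [named])), ei]
  rcases hf.link with hl | hl
  · refine Or.inl fun w hw' => (rels_split.1 w hw').elim (D.crels_hold hh hf w) fun e => ?_
    subst e
    simp only [wv_append]
    rw [l6, hw (by decide), hw (by decide), hw (by decide), hw (by decide), e3, e3', ec, ec',
      D.val_inv cN_facts.1]
    rw [show (D.val cN)⁻¹ * f * D.val s3N * D.val cN * D.val s3N * f =
      (D.val cN)⁻¹ * (f * D.val s3N) * D.val cN * (D.val s3N * f) by group, hl,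
      mul_eq_one_iff_eq_inv, mul_inv_rev, hfi, h3i]
  · refine Or.inr fun w hw' => (rels_split.2 w hw').elim (D.crels_hold hh hf w) fun e => ?_
    subst e
    simp only [wv_append]
    rw [l6, hw (by decide), hw (by decide), hw (by decide), e3, ec, ec', D.val_inv cN_facts.1]
    rw [show (D.val cN)⁻¹ * f * D.val s3N * D.val cN * f * D.val s3N =
      (D.val cN)⁻¹ * (f * D.val s3N) * D.val cN * (f * D.val s3N) by group, hl, inv_mul_cancel]

end Cen

end CfsgLib.M12Cent
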