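import Cfsg.Agent.Lib.M12Cent.Fusion
import Cfsg.Agent.Lib.Base.Cores
import Cfsg.Agent.Lib.J1Unique.Odd

/-!
# The centralizer of `v` modulo `v`, and the excluded fusion pattern

A subgroup containing the centralizer of each of its involutions is everything when there are two
classes of involutions. Without an element of order three centralizing `v` the normalizer of the
small class would be such a subgroup.
-/

set_option autoImplicit false
set_option linter.unusedSectionVars false
set_option linter.style.haveILetI false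
set_option maxRecDepth 100000

namespace CfsgLib.M12Cent

open Cfsg
open CfsgLib.U42 (conj_comm)

universe u

variable {G : Type u} [Group G] [Finite G]

/-- A strongly embedded subgroup forces one class of involutions. -/
theorem eq_top_of_strong [IsSimpleGroup G] {H : Subgroup G} {a b : G} (ha : orderOf a = 2)
    (hb : orderOf b = 2) (haH : a ∈ H) (hbH : b ∈ H) (hab : ¬ IsConj a b)
    (hH : ∀ i ∈ H, orderOf i = 2 → Subgroup.centralizer ({i} : Set G) ≤ H) : H = ⊤ := by
  by_cases hall : ∀ g : G, g * a * g⁻¹ ∈ H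
  · have hle : Subgroup.normalClosure ({a} : Set G) ≤ H := by
      rw [Subgroup.normalClosure, Subgroup.closure_le]
      intro x hx
      obtain ⟨y, hy, hc⟩ := Group.mem_conjugatesOfSet_iff.1 hx
      rw [Set.mem_singleton_iff] at hy
      subst hy
      obtain ⟨g, rfl⟩ := isConj_iff.1 hc
      exact hall g
    rcases (inferInstance : (Subgroup.normalClosure ({a} : Set G)).Normal).eq_bot_or_eq_top with
      h | h
    · have h1 : a ∈ Subgroup.normalClosure ({a} : Set G) := Subgroup.subset_normalClosure rfl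
      rw [h, Subgroup.mem_bot] at h1
      rw [h1, orderOf_one] at ha
      norm_num at ha
    · exact eq_top_iff.2 (h ▸ hle)
  · obtain ⟨g, hg⟩ := not_forall.1 hall
    set j := g * a * g⁻¹ with hj
    have hj2 : orderOf j = 2 := ((MulAut.conj g).orderOf_eq a).trans ha
    have key : ∀ i ∈ H, orderOf i = 2 → IsConj i j := by
      intro i hi hi2
      by_cases ho : Odd (orderOf (i * j))
      · exact CfsgLib.Involutions.isConj_of_odd_prod hi2 hj2 ho
      · have he := Nat.not_odd_iff_even.1 ho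
        set z := (i * j) ^ (orderOf (i * j) / 2) with hz
        have hz2 : orderOf z = 2 := CfsgLib.Involutions.half_invol he
        have hc1 := (CfsgLib.Involutions.half_comm_left hi2 hj2 he).eq
        have hc2 := (CfsgLib.Involutions.half_comm_right hi2 hj2 he).eq
        have hzH : z ∈ H := hH i hi hi2 (Subgroup.mem_centralizer_singleton_iff.2 hc1)
        exact absurd (hH z hzH hz2 (Subgroup.mem_centralizer_singleton_iff.2 hc2.symm)) hg
    exact absurd ((key a haH ha).trans (key b hbH hb).symm) hab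

variable {t : G}

namespace Cen

variable (D : Cen t)
include D

/-- The centralizer of `v`. -/
abbrev KV : Subgroup G := Subgroup.centralizer ({D.val vN} : Set G)

/-- The involution `v` in its centralizer. -/
def vK : D.KV := ⟨D.val vN, Subgroup.mem_centralizer_singleton_iff.2 rfl⟩

/-- The involution `t` in the centralizer of `v`. -/
def tK : D.KV := ⟨t, Subgroup.mem_centralizer_singleton_iff.2 (D.val_comm vN vN_lt).symm⟩

theorem vK_comm (k : D.KV) : k * D.vK = D.vK * k :=
  Subtype.ext (Subgroup.mem_centralizer_singleton_iff.1 k.2)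

instance vK_normal : (Subgroup.zpowers D.vK).Normal :=
  ⟨fun n hn g => by
    obtain ⟨i, rfl⟩ := Subgroup.mem_zpowers_iff.1 hn
    rw [((show Commute g D.vK from D.vK_comm g).zpow_right i).eq, mul_inv_cancel_right]
    exact hn⟩

/-- The quotient of the centralizer of `v`. -/
abbrev KB : Type u := D.KV ⧸ Subgroup.zpowers D.vK

/-- The image of `t`. -/
def zB : D.KB := QuotientGroup.mk D.tK

theorem v_invol : orderOf (D.val vN) = 2 := D.val_invol (by simp [reps.2.2.2.1])

theorem vv : D.val vN * D.val vN = 1 := by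
  rw [← pow_two, ← D.v_invol, pow_orderOf_eq_one]

theorem mem_zv {k : D.KV} : k ∈ Subgroup.zpowers D.vK ↔ (k : G) = 1 ∨ (k : G) = D.val vN := by
  rw [Subgroup.mem_zpowers_iff]
  constructor
  · rintro ⟨n, rfl⟩
    rw [SubgroupClass.coe_zpow]
    rcases Int.even_or_odd n with ⟨m, rfl⟩ | ⟨m, rfl⟩
    · left
      show D.val vN ^ (m + m) = 1
      rw [zpow_add, ← (Commute.refl (D.val vN)).mul_zpow, D.vv, one_zpow]
    · right
      show D.val vN ^ (2 * m + 1) = D.val vN
      rw [zpow_add, zpow_mul, zpow_one, show D.val vN ^ (2 : ℤ) = 1 by rw [zpow_two, D.vv], one_zpow,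
        one_mul]
  · rintro (h | h)
    · exact ⟨0, Subtype.ext (by simp [h])⟩
    · exact ⟨1, Subtype.ext (by simp [h]; rfl)⟩

theorem mk_eq_iff {a b : D.KV} : (QuotientGroup.mk a : D.KB) = QuotientGroup.mk b ↔
    (b : G) = a ∨ (b : G) = (a : G) * D.val vN := by
  rw [QuotientGroup.eq, D.mem_zv]
  simp only [Subgroup.coe_mul, Subgroup.coe_inv]
  rw [inv_mul_eq_one, inv_mul_eq_iff_eq_mul]
  exact or_congr_left eq_comm

theorem val_tv : D.val (mulN tN vN) = t * D.val vN := by
  rw [D.val_mul _ _ tN_lt vN_lt, D.val_tau]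

theorem zB_ord : orderOf D.zB = 2 := by
  have hne : D.zB ≠ 1 := by
    intro h
    rw [zB, QuotientGroup.eq_one_iff, D.mem_zv] at h
    rcases h with h | h
    · have := D.ord
      rw [show t = 1 from h, orderOf_one] at this
      norm_num at this
    · exact D.not_conj_v ((show t = D.val vN from h) ▸ IsConj.refl t)
  refine orderOf_eq_prime ?_ hne
  rw [zB, ← QuotientGroup.mk_pow, QuotientGroup.eq_one_iff, D.mem_zv]
  exact Or.inl (by rw [SubgroupClass.coe_pow, pow_two]; exact D.tt)

/-- The centralizer of the image of `t` comes from the centralizer of `t`. -/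
theorem cent_zB {k : D.KV} (h : (QuotientGroup.mk k : D.KB) * D.zB = D.zB * QuotientGroup.mk k) :
    (k : G) * t = t * (k : G) := by
  rw [zB, ← QuotientGroup.mk_mul, ← QuotientGroup.mk_mul, D.mk_eq_iff] at h
  simp only [Subgroup.coe_mul] at h
  rcases h with h | h
  · exact h.symm
  · exfalso
    refine D.not_conj_vl reps.2.2.2.2.2.2.2.2.2.2.1 (isConj_iff.2 ⟨(k : G)⁻¹, ?_⟩)
    rw [D.val_tv, inv_inv]
    change t * (k : G) = (k : G) * t * D.val vN at h
    rw [mul_assoc, h]
    group

theorem exists_rv {k : D.KV} (h : (k : G) * t = t * (k : G)) : ∃ m ∈ rv, D.val m = (k : G) :=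
  (D.mem_rvGrp.2 ⟨h, Subgroup.mem_centralizer_singleton_iff.1 k.2⟩)

/-- A conjugate of `t` in the centralizers of `t` and `v` is `t`, `x` or `t x`. -/
theorem conj_in_rv {g : G} {m : ℕ} (hm : m ∈ rv) (h : D.val m = g * t * g⁻¹) :
    m = tN ∨ m = xN ∨ m = txN := by
  obtain ⟨n, hn, hnv, hc⟩ := D.conj_cases (g := g) (by rw [← h]; exact D.val_comm m (rv_lt hm))
  obtain rfl := D.val_inj n m hn (rv_lt hm) (hnv.trans h.symm)
  exact rv_labels n hm (hc.imp_right (fun e => List.mem_append.2 e))

/-- Without an element of order three, `t` is isolated in the centralizer of `v` and the latter is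
small. -/
theorem kv_small (hx : IsConj t (D.val xN)) (hno : ¬ ∃ h, D.Std0 h) : D.KV ≤ D.rvGrp := by
  have hmove : ∀ k : G, k * D.val vN = D.val vN * k → k * t * k⁻¹ ≠ D.val xN ∧
      k * t * k⁻¹ ≠ D.val txN := by
    -- an element moving `t` inside the four-group gives a three-cycle
    have one : ∀ k : G, k * D.val vN = D.val vN * k → k * t * k⁻¹ = D.val xN → False := by
      intro k hkv hkt
      obtain ⟨m, hm, hmv, hcases⟩ := D.conj_cases (g := k⁻¹) (by
        have e : k⁻¹ * D.val xN * k⁻¹⁻¹ = t := by rw [← hkt]; group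
        have := conj_comm (h := k⁻¹) (D.val_comm xN xN_lt)
        rw [e] at this
        exact this.symm)
      have hmr : m ∈ rv := (cent_v m (mem_els hm)).1 (D.mul_val_eq hm vN_lt (by
        rw [hmv]
        have e : k⁻¹ * D.val vN * k⁻¹⁻¹ = D.val vN := by
          rw [inv_inv, mul_assoc, ← hkv, inv_mul_cancel_left]
        have := conj_comm (h := k⁻¹) (D.val_comm vN vN_lt).symm
        rwa [e] at this))
      have hsv : D.val sN * D.val vN = D.val vN * D.val sN :=
        D.val_commute sN_lt vN_lt ((cent_v sN (mem_els sN_lt)).2 reps.2.2.2.2.1)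
      have hst : D.val sN * t * (D.val sN)⁻¹ = t := by
        rw [D.val_comm _ sN_lt, mul_inv_cancel_right]
      have fin : ∀ h₀ : G, h₀ * D.val vN = D.val vN * h₀ → h₀ * t * h₀⁻¹ = D.val xN →
          h₀ * D.val xN * h₀⁻¹ = D.val txN → False := fun h₀ hv a1 a2 => by
        obtain ⟨b1, b2, b3⟩ := D.pow_cycle a1 a2
        exact hno ⟨_, b1, b2, b3, ((show Commute h₀ (D.val vN) from hv).pow_left 64).eq⟩
      rcases D.conj_in_rv hmr hmv with rfl | rfl | rfl
      · rw [D.val_tau] at hmv
        have e1 : k * t * k⁻¹ = t := by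
          calc k * t * k⁻¹ = k * (k⁻¹ * t * k⁻¹⁻¹) * k⁻¹ := by rw [← hmv]
            _ = t := by group
        rw [hkt] at e1
        exact (disjoint_lists.1 xN reps.1).2.2 (D.val_inj _ _ xN_lt tN_lt (e1.trans D.val_tau.symm))
      · -- `k` exchanges `t` and `x`
        have e1 : k * D.val xN * k⁻¹ = t := by rw [hmv]; group
        refine fin (k * D.val sN) ((show Commute k (D.val vN) from hkv).mul_left hsv).eq ?_ ?_
        · calc k * D.val sN * t * (k * D.val sN)⁻¹ = k * (D.val sN * t * (D.val sN)⁻¹) * k⁻¹ := by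
                group
            _ = _ := by rw [hst, hkt]
        · calc k * D.val sN * D.val xN * (k * D.val sN)⁻¹
              = k * (D.val sN * D.val xN * (D.val sN)⁻¹) * k⁻¹ := by group
            _ = k * D.val txN * k⁻¹ := by rw [← D.val_cj sN_lt xN_lt, swap_facts.1]
            _ = k * t * k⁻¹ * (k * D.val xN * k⁻¹) := by rw [D.val_tx]; group
            _ = _ := by rw [e1, hkt, D.val_tx, D.val_comm xN xN_lt]
      · have e1 : k * D.val txN * k⁻¹ = t := by rw [hmv]; group
        refine fin k hkv hkt ?_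
        rw [D.val_tx, show k * (t * D.val xN) * k⁻¹ = k * t * k⁻¹ * (k * D.val xN * k⁻¹) by group,
          hkt] at e1
        calc k * D.val xN * k⁻¹ = (D.val xN)⁻¹ * t := eq_inv_mul_of_mul_eq e1
          _ = D.val txN := by
            rw [D.val_tx, inv_eq_of_mul_eq_one_right (a := D.val xN) (b := D.val xN) (by
              rw [← D.val_mul _ _ xN_lt xN_lt, tau_mul.2.2.1, D.val_zero]), D.val_comm xN xN_lt]
    intro k hkv
    refine ⟨one k hkv, fun h => one (D.val sN * k) ?_ ?_⟩
    · exact ((show Commute (D.val sN) (D.val vN) from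
        D.val_commute sN_lt vN_lt ((cent_v sN (mem_els sN_lt)).2 reps.2.2.2.2.1)).mul_left hkv).eq
    · calc D.val sN * k * t * (D.val sN * k)⁻¹ = D.val sN * (k * t * k⁻¹) * (D.val sN)⁻¹ := by group
        _ = _ := by rw [h, ← D.val_cj sN_lt txN_lt, swap_facts.2.1]
  have hiso : Cfsg.IsIsolatedInvolution D.zB := by
    refine ⟨D.zB_ord, fun g hg => ?_⟩
    obtain ⟨k, rfl⟩ := QuotientGroup.mk_surjective g
    have hq : (QuotientGroup.mk (k * D.tK * k⁻¹) : D.KB) * D.zB =
        D.zB * QuotientGroup.mk (k * D.tK * k⁻¹) := by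
      rw [QuotientGroup.mk_mul, QuotientGroup.mk_mul, QuotientGroup.mk_inv]
      exact hg.eq.symm
    obtain ⟨m, hm, hmv⟩ := D.exists_rv (D.cent_zB hq)
    have hkv := Subgroup.mem_centralizer_singleton_iff.1 k.2
    rcases D.conj_in_rv (g := (k : G)) hm hmv with rfl | rfl | rfl
    · rw [D.val_tau] at hmv
      rw [zB, ← QuotientGroup.mk_inv, ← QuotientGroup.mk_mul, ← QuotientGroup.mk_mul]
      exact congrArg QuotientGroup.mk (Subtype.ext hmv.symm)
    · exact absurd hmv.symm (hmove k hkv).1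
    · exact absurd hmv.symm (hmove k hkv).2
  -- each of the three involutions of the four-group inverts the odd part
  have hO : Cfsg.oddCore D.KB = ⊥ := by
    have hxv : D.val xN ∈ D.KV := Subgroup.mem_centralizer_singleton_iff.2
      (D.val_commute xN_lt vN_lt ((cent_v xN (mem_els xN_lt)).2 reps.2.2.2.2.2.2.2.1))
    have htxv : D.val txN ∈ D.KV := Subgroup.mem_centralizer_singleton_iff.2
      (D.val_commute txN_lt vN_lt ((cent_v txN (mem_els txN_lt)).2 reps.2.2.2.2.2.2.2.2.1))
    have hfix : ∀ (m : ℕ) (hm : D.val m ∈ D.KV), m < 192 → IsConj t (D.val m) →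
        mulN m vN ∈ vl → ∀ o ∈ Cfsg.oddCore D.KB,
        o * QuotientGroup.mk ⟨D.val m, hm⟩ = QuotientGroup.mk ⟨D.val m, hm⟩ * o → o = 1 := by
      intro m hm hml hc hmvl o ho hco
      obtain ⟨k, rfl⟩ := QuotientGroup.mk_surjective o
      have hodd : Odd (orderOf (QuotientGroup.mk k : D.KB)) :=
        (CfsgLib.Base.odd_card_oddCore D.KB).of_dvd_nat (by
          rw [← Subgroup.orderOf_mk _ ho]; exact orderOf_dvd_natCard _)
      have hkm : (k : G) * D.val m = D.val m * (k : G) := by
        rw [← QuotientGroup.mk_mul, ← QuotientGroup.mk_mul, D.mk_eq_iff] at hco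
        simp only [Subgroup.coe_mul] at hco
        rcases hco with h | h
        · exact h.symm
        · exfalso
          refine D.not_conj_vl hmvl (hc.trans (isConj_iff.2 ⟨(k : G)⁻¹, ?_⟩))
          rw [D.val_mul m vN hml vN_lt, inv_inv]
          rw [mul_assoc, h]
          group
      obtain ⟨g, hg⟩ := isConj_iff.1 hc
      set k' := g⁻¹ * (k : G) * g⁻¹⁻¹ with hk'
      have e1 : g⁻¹ * D.val m * g⁻¹⁻¹ = t := by rw [← hg]; group
      obtain ⟨a, ha, hav⟩ := D.val_surj k' (by
        have := conj_comm (h := g⁻¹) hkm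
        rwa [e1] at this)
      set w := g⁻¹ * D.val vN * g⁻¹⁻¹ with hw
      obtain ⟨b, hb, hbv, hbc⟩ := D.invol_val (u := w) (((MulAut.conj g⁻¹).orderOf_eq _).trans D.v_invol)
        (by
          have := conj_comm (h := g⁻¹) (Subgroup.mem_centralizer_singleton_iff.1 hm)
          rw [e1] at this
          exact this.symm)
      have hb' : b ∈ xl ++ yl ++ vl := by
        rcases hbc with e | e | e | e
        · exfalso
          rw [e, D.val_tau] at hbv
          exact D.not_conj_v (isConj_iff.2 ⟨g, by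
            calc g * t * g⁻¹ = g * w * g⁻¹ := by rw [← hbv]
              _ = _ := by rw [hw]; group⟩)
        all_goals simp [e]
      have h32 : powN a 64 = 0 := by
        have hab : mulN a b = mulN b a := D.mul_val_eq ha hb (by
          rw [hav, hbv]
          exact conj_comm (Subgroup.mem_centralizer_singleton_iff.1 k.2))
        have : ∀ b ∈ xl ++ yl ++ vl, ∀ a ∈ els, mulN a b = mulN b a → powN a 64 = 0 := by
          decide +kernel
        exact this b hb' a (mem_els ha) hab
      have hk64 : (k : G) ^ 64 = 1 := by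
        have e := D.val_pow ha 64
        rw [h32, D.val_zero, hav, hk', conj_pow, eq_comm, conj_eq_one_iff] at e
        exact e
      have hd : orderOf (QuotientGroup.mk k : D.KB) ∣ 2 ^ 6 := orderOf_dvd_of_pow_eq_one (by
        rw [← QuotientGroup.mk_pow, show k ^ 2 ^ 6 = 1 from Subtype.ext (by simpa using hk64)]
        rfl)
      exact orderOf_eq_one_iff.1
        (Nat.Coprime.eq_one_of_dvd (Nat.Coprime.pow_right 6 (Nat.coprime_two_right.2 hodd)) hd)
    obtain ⟨tv1, tv2, tv3⟩ : mulN tN vN ∈ vl ∧ mulN xN vN ∈ vl ∧ mulN txN vN ∈ vl :=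
      reps.2.2.2.2.2.2.2.2.2.2
    have htK : D.val tN ∈ D.KV := Subgroup.mem_centralizer_singleton_iff.2 (by
      rw [D.val_tau]; exact (D.val_comm vN vN_lt).symm)
    have htc : IsConj t (D.val txN) := hx.trans (D.xl_conj reps.2.1)
    set a : D.KB := QuotientGroup.mk ⟨D.val tN, htK⟩ with ha
    set b : D.KB := QuotientGroup.mk ⟨D.val xN, hxv⟩ with hb
    set c : D.KB := QuotientGroup.mk ⟨D.val txN, htxv⟩ with hc'
    have habc : a * b = c := by
      rw [ha, hb, hc', ← QuotientGroup.mk_mul]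
      congr 1
      exact Subtype.ext (by rw [Subgroup.coe_mul]; show D.val tN * D.val xN = D.val txN; rw [D.val_tau, D.val_tx])
    have hinv : ∀ m (hm : D.val m ∈ D.KV), m < 192 → IsConj t (D.val m) → mulN m vN ∈ vl →
        mulN m m = 0 → ∀ o ∈ Cfsg.oddCore D.KB,
        QuotientGroup.mk ⟨D.val m, hm⟩ * o * (QuotientGroup.mk ⟨D.val m, hm⟩)⁻¹ = o⁻¹ := by
      intro m hm hml hc1 hc2 hc3 o ho
      set i : D.KB := QuotientGroup.mk ⟨D.val m, hm⟩ with hi
      have hii : i * i = 1 := by
        rw [hi, ← QuotientGroup.mk_mul]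
        rw [show (⟨D.val m, hm⟩ : D.KV) * ⟨D.val m, hm⟩ = 1 from Subtype.ext (by
          rw [Subgroup.coe_mul]; show D.val m * D.val m = 1
          rw [← D.val_mul m m hml hml, hc3, D.val_zero])]
        rfl
      have hi' : i⁻¹ = i := inv_eq_of_mul_eq_one_right hii
      rw [hi']
      refine CfsgLib.J1Unique.invert_of_fpf _ hii (fun a ha => ?_) (fun a ha h => ?_) o ho
      · have := Subgroup.Normal.conj_mem (inferInstance : (Cfsg.oddCore D.KB).Normal) a ha i
        rwa [hi'] at this
      · refine hfix m hm hml hc1 hc2 a ha ?_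
        calc a * i = i * a * i * i := by rw [h]
          _ = i * a * (i * i) := by group
          _ = i * a := by rw [hii, mul_one]
    rw [eq_bot_iff]
    intro o ho
    rw [Subgroup.mem_bot]
    have ia := hinv tN htK tN_lt (D.val_tau.symm ▸ IsConj.refl t) tv1 tau_mul.2.1 o ho
    have ib := hinv xN hxv xN_lt hx tv2 tau_mul.2.2.1 o ho
    have ic := hinv txN htxv txN_lt htc tv3 (invol_lists txN (by simp [reps.2.1])).1 o ho
    rw [← ha] at ia
    rw [← hb] at ib
    rw [← hc', ← habc] at ic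
    have e : a * b * o * (a * b)⁻¹ = o := by
      calc a * b * o * (a * b)⁻¹ = a * (b * o * b⁻¹) * a⁻¹ := by group
        _ = (a * o * a⁻¹)⁻¹ := by rw [ib]; group
        _ = o := by rw [ia, inv_inv]
    rw [e] at ic
    have h2 : o ^ 2 = 1 := by rw [pow_two]; exact eq_inv_iff_mul_eq_one.1 ic
    have hodd : Odd (orderOf o) := (CfsgLib.Base.odd_card_oddCore D.KB).of_dvd_nat (by
      rw [← Subgroup.orderOf_mk _ ho]; exact orderOf_dvd_natCard _)
    exact orderOf_eq_one_iff.1
      ((Nat.coprime_two_right.2 hodd).eq_one_of_dvd (orderOf_dvd_of_pow_eq_one h2))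
  intro k hk
  have hc := Subgroup.mem_center_iff.1
    (CfsgLib.Involutions.ZStar.mem_center_of_oddCore_eq_bot hiso hO) (QuotientGroup.mk ⟨k, hk⟩)
  exact D.mem_rvGrp.2 ⟨D.cent_zB hc, Subgroup.mem_centralizer_singleton_iff.1 hk⟩

/-- The elementary abelian group of the small class. -/
def elGrp : Subgroup G where
  carrier := {g | ∃ m ∈ el, D.val m = g}
  one_mem' := ⟨0, el_facts.2.2.1, D.val_zero⟩
  mul_mem' := by
    rintro a b ⟨m, hm, rfl⟩ ⟨n, hn, rfl⟩
    exact ⟨mulN m n, (el_facts.2.2.2.2.1 m hm n hn).1, D.val_mul m n (el_lt hm) (el_lt hn)⟩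
  inv_mem' := by
    rintro a ⟨m, hm, rfl⟩
    exact ⟨invN m, el_facts.2.2.2.2.2.1 m hm, D.val_inv (el_lt hm)⟩

/-- The excluded pattern. -/
theorem std_exists [IsSimpleGroup G] (hG : ¬ IsMulCommutative G) : ∃ h, D.Std0 h := by
  have hx := D.conj_x hG
  by_contra hno
  have hvy := (D.std_or_conj hx).resolve_left hno
  have hsmall := D.kv_small hx hno
  have hE : ∀ g : G, g * t * g⁻¹ * t = t * (g * t * g⁻¹) → g * t * g⁻¹ ∈ D.elGrp := by
    intro g hg
    obtain ⟨m, hm, hmv, h⟩ := D.conj_cases hg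
    rcases h with rfl | h | h
    · exact ⟨tN, el_facts.2.2.2.1, hmv⟩
    · exact ⟨m, el_facts.2.2.2.2.2.2.2 m h, hmv⟩
    · exact absurd ((isConj_iff.2 ⟨g, hmv.symm⟩ : IsConj t (D.val m)).trans
        ((hvy.trans (D.yl_conj h)).symm)) D.not_conj_v
  have hEc : ∀ e ∈ D.elGrp, e ≠ 1 → IsConj t e := by
    rintro _ ⟨m, hm, rfl⟩ hne
    rcases el_facts.2.2.2.2.2.2.1 m hm with rfl | rfl | h
    · exact absurd D.val_zero hne
    · rw [D.val_tau]
    · exact hx.trans (D.xl_conj h)
  set N := Subgroup.normalizer (D.elGrp : Set G) with hN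
  have hEcomm : ∀ e ∈ D.elGrp, ∀ f ∈ D.elGrp, e * f = f * e := by
    rintro _ ⟨m, hm, rfl⟩ _ ⟨n, hn, rfl⟩
    exact D.val_commute (el_lt hm) (el_lt hn) (el_facts.2.2.2.2.1 m hm n hn).2
  have hmoveN : ∀ g : G, g * t * g⁻¹ ∈ D.elGrp → g ∈ N := by
    intro g hg
    have hsub : D.elGrp.map (MulAut.conj g⁻¹).toMonoidHom ≤ D.elGrp := by
      rintro _ ⟨e, he, rfl⟩
      rw [MulEquiv.coe_toMonoidHom, MulAut.conj_apply]
      by_cases h1 : e = 1
      · rw [h1, mul_one, mul_inv_cancel]; exact one_mem _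
      obtain ⟨a, ha⟩ := isConj_iff.1 (hEc e he h1)
      have e1 : g⁻¹ * a * t * (g⁻¹ * a)⁻¹ = g⁻¹ * e * g⁻¹⁻¹ := by rw [← ha]; group
      have := hE (g⁻¹ * a) (by
        rw [e1]
        have hc := conj_comm (h := g⁻¹) (hEcomm e he _ hg)
        rwa [show g⁻¹ * (g * t * g⁻¹) * g⁻¹⁻¹ = t by group] at hc)
      rwa [e1] at this
    have heq := Subgroup.eq_of_le_of_card_ge hsub (le_of_eq
      (Nat.card_congr (D.elGrp.equivMapOfInjective _ (MulAut.conj g⁻¹).injective).toEquiv))
    rw [hN, Subgroup.mem_normalizer_iff]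
    intro e
    constructor
    · intro he
      rw [← heq] at he
      obtain ⟨f, hf, rfl⟩ := he
      rw [MulEquiv.coe_toMonoidHom, MulAut.conj_apply]
      rwa [show g * (g⁻¹ * f * g⁻¹⁻¹) * g⁻¹ = f by group]
    · intro he
      rw [← heq]
      exact ⟨_, he, by rw [MulEquiv.coe_toMonoidHom, MulAut.conj_apply]; group⟩
  have htE : t ∈ D.elGrp := ⟨tN, el_facts.2.2.2.1, D.val_tau⟩
  have hCN : Subgroup.centralizer ({t} : Set G) ≤ N := fun c hc => hmoveN c (by
    rw [Subgroup.mem_centralizer_singleton_iff.1 hc, mul_inv_cancel_right]; exact htE)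
  -- centralizers of the involutions commuting with `t`
  have hcentC : ∀ i : G, orderOf i = 2 → i * t = t * i → Subgroup.centralizer ({i} : Set G) ≤ N := by
    intro i hi hit
    obtain ⟨m, hm, hmv, hc⟩ := D.invol_val hi hit
    have hbig : IsConj t i → Subgroup.centralizer ({i} : Set G) ≤ N := fun h k hk => by
      obtain ⟨g, rfl⟩ := isConj_iff.1 h
      have hg := hmoveN g (hE g hit)
      have hkt : g⁻¹ * k * g⁻¹⁻¹ * t = t * (g⁻¹ * k * g⁻¹⁻¹) := by
        have := conj_comm (h := g⁻¹) (Subgroup.mem_centralizer_singleton_iff.1 hk)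
        rwa [show g⁻¹ * (g * t * g⁻¹) * g⁻¹⁻¹ = t by group] at this
      have := mul_mem (mul_mem hg (hCN (Subgroup.mem_centralizer_singleton_iff.2 hkt))) (inv_mem hg)
      rwa [show g * (g⁻¹ * k * g⁻¹⁻¹) * g⁻¹ = k by group] at this
    have hsm : IsConj (D.val vN) i → Subgroup.centralizer ({i} : Set G) ≤ N := fun h k hk => by
      obtain ⟨g, rfl⟩ := isConj_iff.1 h
      refine hmoveN k (hE k ?_)
      have e : g⁻¹ * (g * D.val vN * g⁻¹) * g⁻¹⁻¹ = D.val vN := by group
      have ha : ∀ b : G, b * (g * D.val vN * g⁻¹) = g * D.val vN * g⁻¹ * b →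
          g⁻¹ * b * g⁻¹⁻¹ ∈ D.rvGrp := fun b hb => hsmall (Subgroup.mem_centralizer_singleton_iff.2 (by
        have := conj_comm (h := g⁻¹) hb
        rwa [e] at this))
      obtain ⟨a, har, hav⟩ := ha t hit.symm
      have hbk : k * t * k⁻¹ * (g * D.val vN * g⁻¹) = g * D.val vN * g⁻¹ * (k * t * k⁻¹) := by
        have hk' := Subgroup.mem_centralizer_singleton_iff.1 hk
        have := conj_comm (h := k) hit.symm
        rwa [hk', mul_inv_cancel_right] at this
      obtain ⟨b, hbr, hbv⟩ := ha _ hbk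
      have la := D.conj_in_rv (g := g⁻¹) har hav
      have lb := D.conj_in_rv (g := g⁻¹ * k) hbr (by rw [hbv]; group)
      have hab : mulN b a = mulN a b := by
        have : ∀ a ∈ [tN, xN, txN], ∀ b ∈ [tN, xN, txN], mulN b a = mulN a b := by decide +kernel
        exact this a (by simp [la]) b (by simp [lb])
      have h2 := D.val_commute (rv_lt hbr) (rv_lt har) hab
      rw [hbv, hav] at h2
      have := conj_comm (h := g) h2
      rwa [show g * (g⁻¹ * (k * t * k⁻¹) * g⁻¹⁻¹) * g⁻¹ = k * t * k⁻¹ by group,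
        show g * (g⁻¹ * t * g⁻¹⁻¹) * g⁻¹ = t by group] at this
    rw [← hmv] at hbig hsm ⊢
    rcases hc with rfl | h | h | h
    · exact hbig (by rw [D.val_tau])
    · exact hbig (hx.trans (D.xl_conj h))
    · exact hsm (hvy.trans (D.yl_conj h))
    · exact hsm (D.vl_conj h)
  have hstrong : ∀ i ∈ N, orderOf i = 2 → Subgroup.centralizer ({i} : Set G) ≤ N := by
    intro i hi hi2
    haveI : Fact (Nat.Prime 2) := ⟨Nat.prime_two⟩
    have hii : i * i = 1 := by rw [← pow_two, ← hi2, pow_orderOf_eq_one]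
    let f : {e : G // e ∈ D.elGrp ∧ e ≠ 1} → {e : G // e ∈ D.elGrp ∧ e ≠ 1} := fun e =>
      ⟨i * e.1 * i⁻¹, (Subgroup.mem_normalizer_iff.1 hi e.1).1 e.2.1,
        fun h => e.2.2 (conj_eq_one_iff.1 h)⟩
    have hf : Function.Involutive f := fun e => Subtype.ext (by
      show i * (i * e.1 * i⁻¹) * i⁻¹ = e.1
      rw [show i * (i * e.1 * i⁻¹) * i⁻¹ = i * i * e.1 * (i * i)⁻¹ by group, hii]
      group)
    obtain ⟨e, he⟩ : ∃ e, f e = e := by
      classical
      haveI := Fintype.ofFinite {e : G // e ∈ D.elGrp ∧ e ≠ 1}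
      refine (hf.toPerm f).exists_fixed_point_of_prime (p := 2) (n := 1) ?_ ?_
      · rw [← Nat.card_eq_fintype_card]
        have h8 : Nat.card D.elGrp = 8 :=
          (D.card_image (fun _ h => el_lt h) el_facts.1).trans el_facts.2.1
        have e2 : Nat.card {e : G // e ∈ D.elGrp ∧ e ≠ 1} =
            (((D.elGrp : Set G)) \ {1}).ncard := by
          rw [← Nat.card_coe_set_eq]
          exact Nat.card_congr (Equiv.subtypeEquivRight fun x => by simp)
        rw [e2, Set.ncard_diff (by simp [Subgroup.one_mem]) (Set.finite_singleton 1),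
          Set.ncard_singleton, ← Nat.card_coe_set_eq]
        change ¬ 2 ∣ Nat.card D.elGrp - 1
        rw [h8]
        norm_num
      · exact Equiv.ext fun x => by rw [pow_one, pow_two]; exact hf x
    have hie : i * e.1 = e.1 * i := mul_inv_eq_iff_eq_mul.1 (congrArg Subtype.val he)
    obtain ⟨g, hg⟩ := isConj_iff.1 (hEc e.1 e.2.1 e.2.2)
    have hgN := hmoveN g (hg ▸ e.2.1)
    have hj : g⁻¹ * i * g⁻¹⁻¹ * t = t * (g⁻¹ * i * g⁻¹⁻¹) := by
      have := conj_comm (h := g⁻¹) hie
      rwa [← hg, show g⁻¹ * (g * t * g⁻¹) * g⁻¹⁻¹ = t by group] at this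
    intro k hk
    have hk' := hcentC _ (((MulAut.conj g⁻¹).orderOf_eq i).trans hi2) hj
      (Subgroup.mem_centralizer_singleton_iff.2
        (conj_comm (h := g⁻¹) (Subgroup.mem_centralizer_singleton_iff.1 hk)))
    have := mul_mem (mul_mem hgN hk') (inv_mem hgN)
    rwa [show g * (g⁻¹ * k * g⁻¹⁻¹) * g⁻¹ = k by group] at this
  have hvN : D.val vN ∈ N := hCN (D.mem_cent_iff.2 ⟨vN, vN_lt, rfl⟩)
  have htop := eq_top_of_strong D.ord D.v_invol
    (hCN (D.mem_cent_iff.2 ⟨tN, tN_lt, D.val_tau⟩)) hvN D.not_conj_v hstrong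
  haveI : D.elGrp.Normal := Subgroup.normalizer_eq_top_iff.1 htop
  rcases (inferInstance : D.elGrp.Normal).eq_bot_or_eq_top with h | h
  · have := D.ord
    rw [h, Subgroup.mem_bot] at htE
    rw [htE, orderOf_one] at this
    norm_num at this
  · exact hG ⟨⟨fun a b => hEcomm a (h ▸ Subgroup.mem_top a) b (h ▸ Subgroup.mem_top b)⟩⟩

end Cen

end CfsgLib.M12Cent
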