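import Cfsg.Agent.Lib.M12Cent.Main
import Cfsg.Agent.Lib.M12Cent.CodeChecks
import Cfsg.Agent.Lib.FgsB.Basic
import Cfsg.Prelude.Def_SporadicB
import Cfsg.Agent.S0383

/-!
# The centralizer of a central involution of `M₁₂`
-/

set_option autoImplicit false
set_option linter.unusedSectionVars false
set_option maxRecDepth 100000

namespace CfsgLib.M12Cent

open Cfsg CfsgLib.Spor CfsgLib.MathieuOut CfsgLib.Involutions.MathieuSylow
open scoped Pointwise

universe u v

/-- The stabilizer of the dodecad. -/
noncomputable abbrev M12s : Subgroup (Equiv.Perm GolayPt) := stabG dodMasks []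

theorem prev_lt : ∀ b ∈ ([] : List ℕ), b < 24 := fun _ h => absurd h (by simp)

/-- The letters and their codes. -/
theorem letter_facts : ∀ x ∈ List.range 4, letM.getD x 0 ∈ [aN, invN aN, bN, invN bN] := by
  decide +kernel

theorem code_letter {g : ℕ} (hg : g ∈ [aN, invN aN, bN, invN bN]) :
    ∃ σ : M12s, code σ = codeN g :=
  exists_code prev_lt (List.all_eq_true.1 gens_elem.1 g hg)

theorem exists_el {m : ℕ} (hm : m < 192) : ∃ σ : M12s, code σ = codeN m := by
  have key : ∀ w : List ℕ, (∀ x ∈ w, x < 4) → ∃ σ : M12s, code σ = codeN (evalW w) := by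
    intro w
    induction w with
    | nil => exact fun _ => ⟨1, by rw [code_one, evalW, codes_inj.2]⟩
    | cons x w ih =>
      intro hw
      have hx := letter_facts x (List.mem_range.2 (hw x (List.mem_cons_self ..)))
      have hw' : ∀ y ∈ w, y < 4 := fun y hy => hw y (List.mem_cons_of_mem _ hy)
      obtain ⟨σ, hσ⟩ := ih hw'
      obtain ⟨γ, hγ⟩ := code_letter hx
      refine ⟨γ * σ, ?_⟩
      rw [code_mul, hγ, hσ]
      exact Nat.eq_of_beq_eq_true (List.all_eq_true.1 (List.all_eq_true.1 codes_gen _ hx) _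
        (List.mem_range.2 (evalW_lt hw')))
  obtain ⟨h1, h2⟩ := gen_words m (mem_els hm)
  obtain ⟨σ, hσ⟩ := key _ h2
  exact ⟨σ, by rw [hσ, h1]⟩

open Classical in
/-- An element of the model. -/
noncomputable def el12 (m : ℕ) : M12s := if hm : m < 192 then (exists_el hm).choose else 1

theorem code_el {m : ℕ} (hm : m < 192) : code (el12 m) = codeN m := by
  rw [el12, dif_pos hm]
  exact (exists_el hm).choose_spec

theorem el_mul {m n : ℕ} (hm : m < 192) (hn : n < 192) : el12 (mulN m n) = el12 m * el12 n := by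
  have hgen : ∀ g ∈ [aN, invN aN, bN, invN bN], ∀ k, k < 192 →
      el12 (mulN g k) = el12 g * el12 k := by
    intro g hg k hk
    have hgl : g < 192 := by
      have : ∀ g ∈ [aN, invN aN, bN, invN bN], g < 192 := by decide +kernel
      exact this g hg
    refine code_injective ?_
    rw [code_mul, code_el hgl, code_el hk, code_el (mulN_lt hgl hk)]
    exact (Nat.eq_of_beq_eq_true (List.all_eq_true.1 (List.all_eq_true.1 codes_gen g hg) k
      (List.mem_range.2 hk))).symm
  have hone : el12 0 = 1 := code_injective (by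
    rw [code_el (by norm_num), codes_inj.2, code_one])
  have key : ∀ w : List ℕ, (∀ x ∈ w, x < 4) → ∀ k, k < 192 →
      el12 (mulN (evalW w) k) = el12 (evalW w) * el12 k := by
    intro w
    induction w with
    | nil =>
      intro _ k hk
      rw [evalW, hone, one_mul, (inv_facts k (mem_els hk)).2.2.1]
    | cons x w ih =>
      intro hw k hk
      have hx := letter_facts x (List.mem_range.2 (hw x (List.mem_cons_self ..)))
      have hw' : ∀ y ∈ w, y < 4 := fun y hy => hw y (List.mem_cons_of_mem _ hy)
      have hl := evalW_lt hw'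
      have ha := List.all_eq_true.1 (List.all_eq_true.1 (List.all_eq_true.1 mul_assoc_gen _ hx)
        (evalW w) (List.mem_range.2 hl)) k (List.mem_range.2 hk)
      rw [evalW, ← Nat.eq_of_beq_eq_true ha, hgen _ hx _ (mulN_lt hl hk), ih hw' k hk,
        hgen _ hx _ hl, mul_assoc]
  obtain ⟨h1, h2⟩ := gen_words m (mem_els hm)
  have := key _ h2 n hn
  rwa [h1] at this

theorem el_zero : el12 0 = 1 := code_injective (by rw [code_el (by norm_num), codes_inj.2, code_one])

theorem el_eq_one {m : ℕ} (hm : m < 192) (h : el12 m = 1) : m = 0 := by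
  have := List.all_eq_true.1 codes_inj.1 m (List.mem_range.2 hm)
  rw [Bool.or_eq_true] at this
  rcases this with e | e
  · exact Nat.eq_of_beq_eq_true e
  · rw [← code_el hm, h, code_one] at e
    simp at e

theorem el_inv {m : ℕ} (hm : m < 192) : el12 (invN m) = (el12 m)⁻¹ := by
  refine eq_inv_of_mul_eq_one_right ?_
  rw [← el_mul hm (invN_lt hm), (inv_facts m (mem_els hm)).2.1, el_zero]

theorem el_inj {m n : ℕ} (hm : m < 192) (hn : n < 192) (h : el12 m = el12 n) : m = n := by
  have h1 : mulN (invN m) n = 0 := el_eq_one (mulN_lt (invN_lt hm) hn) (by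
    rw [el_mul (invN_lt hm) hn, el_inv hm, h, inv_mul_cancel])
  have h2 : ∀ m ∈ els, ∀ n ∈ els, mulN (invN m) n = 0 → m = n := by decide +kernel
  exact h2 m (mem_els hm) n (mem_els hn) h1

theorem card_M12s : Nat.card M12s = 95040 := by
  rw [show M12s = Spor.M12 from stabG_M12]; exact natCard_M12

theorem el_tau_ord : orderOf (el12 tN) = 2 := by
  refine orderOf_eq_prime ?_ fun e => absurd (el_eq_one tN_lt e) (by decide +kernel)
  rw [pow_two, ← el_mul tN_lt tN_lt, tau_mul.2.1, el_zero]

theorem index_ge : 495 ≤ Nat.card {w : M12s // IsConj (el12 tN) w} := by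
  classical
  have hgen : ∀ k, k < 3 → ∃ a : M12s, code a = (gens12.getD k (0, 0)).1 ∧
      code a⁻¹ = (gens12.getD k (0, 0)).2 := by
    intro k hk
    have hmem : gens12.getD k (0, 0) ∈ gens12 := by
      have : ∀ k ∈ List.range 3, gens12.getD k (0, 0) ∈ gens12 := by decide +kernel
      exact this k (List.mem_range.2 hk)
    have h := List.all_eq_true.1 gens_elem.2 _ hmem
    simp only [Bool.and_eq_true] at h
    obtain ⟨a, ha⟩ := exists_code prev_lt h.1.1
    obtain ⟨b, hb⟩ := exists_code prev_lt h.1.2
    have hba : b = a⁻¹ := eq_inv_of_mul_eq_one_left (code_injective (by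
      rw [code_mul, ha, hb, code_one]
      exact Nat.eq_of_beq_eq_true h.2))
    exact ⟨a, ha, hba ▸ hb⟩
  have key : ∀ i, i < imgs.length →
      ∃ w : {w : M12s // IsConj (el12 tN) w}, code w.1 = imgs.getD i 0 := by
    intro i
    induction i using Nat.strong_induction_on with
    | _ i ih =>
      intro hi
      cases i with
      | zero => exact ⟨⟨el12 tN, IsConj.refl _⟩, by rw [code_el tN_lt]; rfl⟩
      | succ i =>
        have hi' : i < steps.length := by
          simp only [imgs, List.length_cons, List.length_map] at hi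
          omega
        have h := List.all_eq_true.1 steps_ok i (List.mem_range.2 hi')
        simp only [Bool.and_eq_true] at h
        have h1 : (steps.getD i (0, 0, 0)).2.1 ≤ i := Nat.le_of_ble_eq_true h.1.1
        have h2 : (steps.getD i (0, 0, 0)).2.2 < 3 := Nat.le_of_ble_eq_true h.1.2
        have h3 := Nat.eq_of_beq_eq_true h.2
        obtain ⟨⟨w, hw⟩, hwc⟩ := ih _ (by omega)
          (show (steps.getD i (0, 0, 0)).2.1 < imgs.length by omega)
        obtain ⟨a, ha, ha'⟩ := hgen _ h2
        refine ⟨⟨a * w * a⁻¹, hw.trans (isConj_iff.2 ⟨a, rfl⟩)⟩, ?_⟩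
        show code (a * w * a⁻¹) = _
        rw [code_mul, code_mul, ha, ha', hwc, ← h3]
        simp only [imgs, List.getD_cons_succ]
        rw [List.getD_eq_getElem _ _ hi', List.getD_eq_getElem _ _ (by simpa using hi'),
          List.getElem_map]
  have hnd : imgs.Nodup := List.Nodup.of_map keyN imgs_nodup.1
  choose f hf using key
  let F : Fin imgs.length → {w : M12s // IsConj (el12 tN) w} := fun i => f i.1 i.2
  have hF : Function.Injective F := fun i j e => by
    have h : imgs.getD i.1 0 = imgs.getD j.1 0 := by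
      rw [← hf i.1 i.2, ← hf j.1 j.2]
      exact congrArg (fun w => code w.1) e
    rw [List.getD_eq_getElem _ _ i.2, List.getD_eq_getElem _ _ j.2] at h
    exact Fin.ext ((hnd.getElem_inj_iff).1 h)
  have := Nat.card_le_card_of_injective F hF
  rwa [Nat.card_fin, imgs_nodup.2] at this

/-- The model in the stabilizer of the dodecad. -/
noncomputable def cenS : Cen (el12 tN) where
  ord := el_tau_ord
  val := el12
  val_mul _ _ hm hn := el_mul hm hn
  val_comm m hm := by
    rw [← el_mul hm tN_lt, ← el_mul tN_lt hm, (inv_facts m (mem_els hm)).2.2.2.2]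
  val_inj _ _ hm hn h := el_inj hm hn h
  val_tau := rfl
  val_surj g hg := by
    classical
    set C := Subgroup.centralizer ({el12 tN} : Set M12s) with hC
    have hmem : ∀ m, m < 192 → el12 m ∈ C := fun m hm => Subgroup.mem_centralizer_singleton_iff.2 (by
      rw [← el_mul hm tN_lt, ← el_mul tN_lt hm, (inv_facts m (mem_els hm)).2.2.2.2])
    have hle : Nat.card C ≤ 192 := by
      have h := C.card_mul_index
      rw [card_M12s, hC, ← CfsgLib.FgsB.card_isConj_eq_index] at h
      have := index_ge
      rw [← hC] at h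
      nlinarith
    have hinj : Function.Injective fun m : Fin 192 => (⟨el12 m.1, hmem m.1 m.2⟩ : C) :=
      fun a b e => Fin.ext (el_inj a.2 b.2 (congrArg Subtype.val e))
    obtain ⟨m, hm⟩ := (hinj.bijective_of_nat_card_le (by rw [Nat.card_fin]; exact hle)).2
      ⟨g, Subgroup.mem_centralizer_singleton_iff.2 hg⟩
    exact ⟨m.1, m.2, congrArg Subtype.val hm⟩

/-- Transport along an isomorphism of centralizers. -/
def Cen.transport {G : Type u} [Group G] {H : Type v} [Group H] {t : G} {s : H} (D : Cen s)
    (ht : orderOf t = 2)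
    (e : Subgroup.centralizer ({t} : Set G) ≃* Subgroup.centralizer ({s} : Set H)) : Cen t where
  ord := ht
  val m := if h : m < 192 then
    (e.symm ⟨D.val m, Subgroup.mem_centralizer_singleton_iff.2 (D.val_comm m h)⟩ : G) else 1
  val_mul m n hm hn := by
    rw [dif_pos (mulN_lt hm hn), dif_pos hm, dif_pos hn, ← Subgroup.coe_mul, ← map_mul]
    congr 2
    exact Subtype.ext (D.val_mul m n hm hn)
  val_comm m hm := by
    rw [dif_pos hm]
    exact Subgroup.mem_centralizer_singleton_iff.1 (SetLike.coe_mem _)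
  val_inj m n hm hn h := by
    rw [dif_pos hm, dif_pos hn] at h
    exact D.val_inj m n hm hn (congrArg Subtype.val (e.symm.injective (Subtype.ext h)))
  val_surj g hg := by
    obtain ⟨m, hm, hv⟩ := D.val_surj (e ⟨g, Subgroup.mem_centralizer_singleton_iff.2 hg⟩ : H)
      (Subgroup.mem_centralizer_singleton_iff.1 (SetLike.coe_mem _))
    refine ⟨m, hm, ?_⟩
    rw [dif_pos hm]
    simp [hv]
  val_tau := by
    obtain ⟨x, hx⟩ : ∃ x : Subgroup.centralizer ({t} : Set G), (x : G) = t :=
      ⟨⟨t, Subgroup.mem_centralizer_singleton_iff.2 rfl⟩, rfl⟩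
    obtain ⟨m, hm, hv⟩ := D.val_surj (e x : H)
      (Subgroup.mem_centralizer_singleton_iff.1 (SetLike.coe_mem _))
    have hc : ∀ n, n < 192 → mulN m n = mulN n m := fun n hn => D.mul_val_eq hm hn (by
      obtain ⟨y, hy⟩ : ∃ y : Subgroup.centralizer ({s} : Set H), (y : H) = D.val n :=
        ⟨⟨D.val n, Subgroup.mem_centralizer_singleton_iff.2 (D.val_comm n hn)⟩, rfl⟩
      obtain ⟨z, rfl⟩ := e.surjective y
      rw [hv, ← hy, ← Subgroup.coe_mul, ← Subgroup.coe_mul, ← map_mul, ← map_mul]
      refine congrArg (fun z => ((e z : _) : H)) (Subtype.ext ?_)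
      rw [Subgroup.coe_mul, Subgroup.coe_mul, hx]
      exact (Subgroup.mem_centralizer_singleton_iff.1 z.2).symm)
    rcases center_facts m (mem_els hm) (hc _ (lt_named (by simp [named])))
      (hc _ (lt_named (by simp [named]))) with rfl | rfl
    · exfalso
      rw [D.val_zero] at hv
      have : x = 1 := e.injective ((Subtype.ext hv.symm).trans (map_one e).symm)
      rw [this] at hx
      rw [← hx, Subgroup.coe_one, orderOf_one] at ht
      norm_num at ht
    · rw [dif_pos hm, show (⟨D.val tN, _⟩ : Subgroup.centralizer ({s} : Set H)) = e x from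
        Subtype.ext hv, MulEquiv.symm_apply_apply, hx]

/-- Transport to an isomorphic group. -/
def Cen.mapEquiv {G : Type u} [Group G] {H : Type v} [Group H] {t : G} (D : Cen t) (e : G ≃* H) :
    Cen (e t) where
  ord := (e.orderOf_eq t).trans D.ord
  val m := e (D.val m)
  val_mul m n hm hn := by rw [D.val_mul m n hm hn, map_mul]
  val_comm m hm := by rw [← map_mul, D.val_comm m hm, map_mul]
  val_inj m n hm hn h := D.val_inj m n hm hn (e.injective h)
  val_surj g hg := by
    obtain ⟨m, hm, e'⟩ := D.val_surj (e.symm g) (e.injective (by simpa using hg))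
    exact ⟨m, hm, by rw [e', e.apply_symm_apply]⟩
  val_tau := by rw [D.val_tau]

/-- The centralizer of an involution in the centre of a Sylow subgroup of `M₁₂`. -/
theorem exists_cen_M12 (u : Spor.M12) (hu : Cfsg.IsTwoCentralInvolution u) : Nonempty (Cen u) := by
  haveI : Fact (Nat.Prime 2) := ⟨Nat.prime_two⟩
  set D := cenS.mapEquiv (MulEquiv.subgroupCongr (stabG_M12 : M12s = Spor.M12))
  set t := MulEquiv.subgroupCongr (stabG_M12 : M12s = Spor.M12) (el12 tN)
  obtain ⟨hord, U, huU, huc⟩ := hu
  obtain ⟨P, hP⟩ := D.exists_sylow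
  obtain ⟨c, hc⟩ := MulAction.exists_smul_eq Spor.M12 U P
  have hmem : ∀ a, a ∈ Cen.sylGrp D ↔ c⁻¹ * a * c ∈ (U : Subgroup Spor.M12) := fun a => by
    rw [← hP, ← hc, Sylow.coe_subgroup_smul, Subgroup.mem_pointwise_smul_iff_inv_smul_mem]
    simp [MulAut.smul_def]
  obtain ⟨n, hn, hnv⟩ := (hmem (c * u * c⁻¹)).2 (by
    rw [show c⁻¹ * (c * u * c⁻¹) * c = u by group]; exact huU)
  rcases syl_center n hn (fun a ha => D.mul_val_eq (syl_lt hn) (syl_lt ha) (by
      rw [hnv]
      have h := huc _ ((hmem _).1 ⟨a, ha, rfl⟩)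
      calc c * u * c⁻¹ * D.val a = c * (u * (c⁻¹ * D.val a * c)) * c⁻¹ := by group
        _ = c * (c⁻¹ * D.val a * c * u) * c⁻¹ := by rw [h]
        _ = _ := by group)) with e | e
  · rw [e, D.val_zero, eq_comm, conj_eq_one_iff] at hnv
    rw [hnv, orderOf_one] at hord
    norm_num at hord
  · rw [e, D.val_tau] at hnv
    have hmap : (Subgroup.centralizer ({u} : Set Spor.M12)).map (MulAut.conj c).toMonoidHom =
        Subgroup.centralizer ({t} : Set Spor.M12) := by
      ext y
      rw [Subgroup.mem_map_equiv, Subgroup.mem_centralizer_singleton_iff,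
        Subgroup.mem_centralizer_singleton_iff, hnv, MulAut.conj_symm_apply]
      constructor
      · intro h
        calc y * (c * u * c⁻¹) = c * (c⁻¹ * y * c * u) * c⁻¹ := by group
          _ = c * (u * (c⁻¹ * y * c)) * c⁻¹ := by rw [h]
          _ = _ := by group
      · intro h
        calc c⁻¹ * y * c * u = c⁻¹ * (y * (c * u * c⁻¹)) * c := by group
          _ = c⁻¹ * (c * u * c⁻¹ * y) * c := by rw [h]
          _ = _ := by group
    exact ⟨D.transport hord
      (((MulAut.conj c).subgroupMap _).trans (MulEquiv.subgroupCongr hmap))⟩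

theorem isSimple_M12 : IsSimpleGroup Spor.M12 := by
  haveI := Cfsg.Agent.S0383.result Spor.squareDodecad squareDodecad_mem
  let e : Spor.M12 ≃* MulAction.stabilizer Cfsg.M24 Spor.squareDodecad :=
    { toFun := fun g => ⟨⟨g.1, g.2.1⟩, g.2.2⟩
      invFun := fun g => ⟨g.1.1, g.1.2, g.2⟩
      left_inv := fun g => rfl
      right_inv := fun g => rfl
      map_mul' := fun g h => rfl }
  exact e.isSimpleGroup

theorem not_comm_M12 : ¬ IsMulCommutative Spor.M12 := by
  intro hc
  haveI := isSimple_M12
  haveI : IsMulCommutative Spor.M12 := hc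
  letI : CommGroup Spor.M12 := { (inferInstance : Group Spor.M12) with mul_comm := hc.is_comm.comm }
  have := (IsSimpleGroup.prime_card : (Nat.card Spor.M12).Prime)
  rw [natCard_M12] at this
  norm_num at this

end CfsgLib.M12Cent
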